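import Cfsg.Agent.Lib.RootSubgroups.DegenerateBase

/-!
# Twins in a degenerate set of abstract root subgroups

Two rank one members with the same commuting members generate a group with a homomorphism onto
either of them, which is the identity there.
-/

set_option linter.all false
set_option autoImplicit false

namespace Cfsg.Agent.RootSubgroups.Degenerate

open Cfsg
open Cfsg.Agent.ThreeTransp
open Cfsg.Agent.ThreeTransp.RankOne
open Cfsg.Agent.RootSubgroups.Commutator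

variable {G : Type*} [Group G] {S : Set (Subgroup G)}

theorem either (hS : IsRootSubgroupSet S) (hd : IsDegenerateRootSet S) {F F' : Subgroup G} (hF : F ∈ S)
    (hF' : F' ∈ S) (h : ⁅F, F'⁆ ≠ ⊥) : IsRankOnePair F F' :=
  ((hS.pair F hF F' hF').resolve_left h).resolve_right (hd F hF F' hF')

/-- Equal, or a rank one pair with the same commuting members. -/
def Tw (S : Set (Subgroup G)) (F F' : Subgroup G) : Prop :=
  F = F' ∨ IsRankOnePair F F' ∧ ∀ H ∈ S, H ≠ F → H ≠ F' → (⁅H, F⁆ = ⊥ ↔ ⁅H, F'⁆ = ⊥)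

theorem Tw.symm {F F' : Subgroup G} (h : Tw S F F') : Tw S F' F :=
  h.elim (fun e => Or.inl e.symm) fun h => Or.inr ⟨RankOnePair_symm h.1, fun H hH a b => (h.2 H hH b a).symm⟩

theorem Tw.repl {F F' H : Subgroup G} (h : Tw S F F') (hH : H ∈ S) (hne : H ≠ F) (hc : ⁅H, F⁆ = ⊥) :
    ⁅H, F'⁆ = ⊥ := by
  rcases h with rfl | ⟨hp, h⟩
  · exact hc
  · by_cases e : H = F'
    · subst e; exact absurd (Incomparable.comm_symm hc) (not_commute hp)
    · exact (h H hH hne e).1 hc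

theorem Tw.conj (hS : IsRootSubgroupSet S) {F F' : Subgroup G} (h : Tw S F F') (x : G) :
    Tw S (R F x) (R F' x) := by
  rcases h with rfl | ⟨hp, h⟩
  · exact Or.inl rfl
  · refine Or.inr ⟨pair_R hp x, fun H hH h1 h2 => ?_⟩
    obtain ⟨K, hK, rfl⟩ : ∃ K ∈ S, H = R K x :=
      ⟨R H x⁻¹, R_mem hS hH _, by rw [R_R, inv_mul_cancel, R_one]⟩
    have := h K hK (fun e => h1 (e ▸ rfl)) (fun e => h2 (e ▸ rfl))
    exact ⟨fun e => comm_R (this.1 (of_comm_R e)) x, fun e => comm_R (this.2 (of_comm_R e)) x⟩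

theorem Tw.trans (hS : IsRootSubgroupSet S) (hd : IsDegenerateRootSet S) {F F' F'' : Subgroup G}
    (hF : F ∈ S) (hF' : F' ∈ S) (hF'' : F'' ∈ S) (h : Tw S F F') (h' : Tw S F' F'') : Tw S F F'' := by
  by_cases e1 : F = F'
  · exact e1 ▸ h'
  by_cases e2 : F' = F''
  · exact e2 ▸ h
  by_cases e3 : F = F''
  · exact Or.inl e3
  obtain ⟨p1, q1⟩ := h.resolve_left e1
  obtain ⟨p2, q2⟩ := h'.resolve_left e2
  refine Or.inr ⟨either hS hd hF hF'' fun hc =>
    not_commute p1 (h'.symm.repl hF e3 hc), fun H hH a b => ?_⟩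
  by_cases e : H = F'
  · subst e
    exact iff_of_false (fun hc => not_commute p1 (Incomparable.comm_symm hc)) (not_commute p2)
  · exact (q1 H hH a e).trans (q2 H hH e b)

/-- Twins `A, B`, a member `C` commuting with both and a common partner `D` of `A, B, C`. -/
structure Trio (S : Set (Subgroup G)) (A B C D : Subgroup G) : Prop where
  hS : IsRootSubgroupSet S
  hd : IsDegenerateRootSet S
  hA : A ∈ S
  hB : B ∈ S
  hC : C ∈ S
  hD : D ∈ S
  pAB : IsRankOnePair A B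
  tw : Tw S A B
  cA : ⁅A, C⁆ = ⊥
  cB : ⁅B, C⁆ = ⊥
  neA : A ≠ C
  neB : B ≠ C
  pA : IsRankOnePair A D
  pB : IsRankOnePair B D
  pC : IsRankOnePair C D

namespace Trio

variable {A B C D : Subgroup G}

theorem swap (h : Trio S A B C D) : Trio S B A C D :=
  ⟨h.hS, h.hd, h.hB, h.hA, h.hC, h.hD, RankOnePair_symm h.pAB, h.tw.symm, h.cB, h.cA, h.neB, h.neA, h.pB,
    h.pA, h.pC⟩

theorem conj (h : Trio S A B C D) {x : G} (hx : x ∈ A) : Trio S A B C (R D x) := by
  have pA : IsRankOnePair A (R D x) := by have := pair_R h.pA x; rwa [R_self hx] at this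
  have pC : IsRankOnePair C (R D x) := by
    have := pair_R h.pC x
    rwa [R_of_commute (F := C) fun f hf => (commutator_eq_bot_iff.1 h.cA x hx f hf).symm] at this
  have hD' := R_mem h.hS h.hD x
  refine ⟨h.hS, h.hd, h.hA, h.hB, h.hC, hD', h.pAB, h.tw, h.cA, h.cB, h.neA, h.neB, pA, ?_, pC⟩
  refine either h.hS h.hd h.hB hD' fun hc => ?_
  by_cases e : R D x = B
  · exact not_commute (RankOnePair_symm pC) (e ▸ h.cB)
  · exact not_commute pA (Incomparable.comm_symm (h.tw.symm.repl hD' e (Incomparable.comm_symm hc)))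

theorem transfer_one (h : Trio S A B C D) {b : G} (hb : b ∈ B) (hb1 : b ≠ 1) :
    ∃ a ∈ A, ∃ c ∈ C, Tw S (R D b) (R D a) ∧ ⁅R D c, R D a⁆ = ⊥ ∧ ⁅R D c, R D b⁆ = ⊥ ∧ R D b ≠ R D c := by
  obtain ⟨d, hd, hd1, e⟩ := h.pB.cond_left b hb hb1
  obtain ⟨a, ha, -, ea⟩ := h.pA.cond_right d hd hd1
  obtain ⟨c, hc, -, ec⟩ := h.pC.cond_right d hd hd1
  have e' : R D b = R B d := e.symm
  have ea' : R D a = R A d := ea
  have ec' : R D c = R C d := ec
  refine ⟨a, ha, c, hc, ?_, ?_, ?_, ?_⟩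
  · rw [e', ea']; exact h.tw.symm.conj h.hS d
  · rw [ec', ea']; exact Incomparable.comm_symm (comm_R h.cA d)
  · rw [ec', e']; exact Incomparable.comm_symm (comm_R h.cB d)
  · rw [ec', e']; exact fun e0 => h.neB (R_inj.1 e0)

theorem transfer (h : Trio S A B C D) {b : G} (hb : b ∈ B) : ∃ a ∈ A, Tw S (R D b) (R D a) := by
  by_cases hb1 : b = 1
  · exact ⟨1, one_mem _, Or.inl (by rw [hb1])⟩
  · obtain ⟨a, ha, c, -, ht, -⟩ := h.transfer_one hb hb1
    exact ⟨a, ha, ht⟩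

/-- An element of `B` moves the twin classes of the conjugates of `D` under `A` like one element of `A`. -/
theorem uniform (h : Trio S A B C D) {b : G} (hb : b ∈ B) :
    ∃ a ∈ A, ∀ a0 ∈ A, Tw S (R D (a0 * b)) (R D (a0 * a)) := by
  by_cases hb1 : b = 1
  · exact ⟨1, one_mem _, fun a0 _ => Or.inl (by rw [hb1])⟩
  obtain ⟨a, ha, c, hc, -, hca, hcb, hbc⟩ := h.transfer_one hb hb1
  refine ⟨a, ha, fun a0 ha0 => ?_⟩
  obtain ⟨b0, hb0, t0⟩ := h.swap.transfer ha0
  obtain ⟨a', ha', t'⟩ := (h.conj ha0).transfer hb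
  rw [R_R, R_R] at t'
  suffices a = a' by rw [this]; exact t'
  have hS := h.hS
  have cc : ∀ {x y : G}, x ∈ A → y ∈ C → x * y = y * x := fun hx hy =>
    commutator_eq_bot_iff.1 h.cA _ hx _ hy
  have h1 : ⁅R D (b0 * c), R D (b0 * b)⁆ = ⊥ := by
    have := comm_R hcb b0
    rwa [R_R, R_R, ← commutator_eq_bot_iff.1 h.cB b0 hb0 c hc, Cfg.commute_self hS h.hB hb hb0] at this
  have hne : R D (b0 * b) ≠ R D (b0 * c) := fun e0 => by
    rw [Cfg.commute_self hS h.hB hb0 hb, commutator_eq_bot_iff.1 h.cB b0 hb0 c hc, ← R_R, ← R_R, R_inj] at e0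
    exact hbc e0
  have t1 : Tw S (R D (b0 * c)) (R D (a0 * c)) := by
    have := t0.symm.conj hS c
    rwa [R_R, R_R] at this
  have h2 : ⁅R D (b0 * b), R D (a0 * c)⁆ = ⊥ :=
    t1.repl (R_mem hS h.hD _) hne (Incomparable.comm_symm h1)
  have t2 : Tw S (R D (b0 * b)) (R D (a0 * a')) := by
    have := t0.symm.conj hS b
    rw [R_R, R_R] at this
    exact this.trans hS h.hd (R_mem hS h.hD _) (R_mem hS h.hD _) (R_mem hS h.hD _) t'
  have hne2 : R D (a0 * c) ≠ R D (b0 * b) := by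
    intro e0
    rw [e0] at t1
    rcases t1 with e1 | ⟨p1, -⟩
    · exact hne e1.symm
    · exact not_commute p1 h1
  have h3 : ⁅R D (a0 * c), R D (a0 * a')⁆ = ⊥ :=
    t2.repl (R_mem hS h.hD _) hne2 (Incomparable.comm_symm h2)
  have h4 := comm_R h3 a0⁻¹
  rw [R_R, R_R, cc ha0 hc, mul_inv_cancel_right, Cfg.commute_self hS h.hA ha0 ha', mul_inv_cancel_right] at h4
  by_contra hne3
  have h5 := centralizes_of_two h.pA ha ha' (Incomparable.comm_symm hca) (Incomparable.comm_symm h4) hne3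
  have h6 := comm_R h5 c⁻¹
  rw [R_R, mul_inv_cancel, R_one, R_of_commute (F := A) fun f hf => cc hf (inv_mem hc)] at h6
  exact not_commute h.pA h6

theorem unique (h : Trio S A B C D) {a a' : G} (ha : a ∈ A) (ha' : a' ∈ A) (t : Tw S (R D a) (R D a')) :
    a = a' := by
  by_contra hne
  have hx : a' * a⁻¹ ∈ A := mul_mem ha' (inv_mem ha)
  have hx1 : a' * a⁻¹ ≠ 1 := fun e => hne (mul_inv_eq_one.1 e).symm
  have t' := t.conj h.hS a⁻¹
  rw [R_R, R_R, mul_inv_cancel, R_one] at t'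
  obtain ⟨d, hd, -, e⟩ := h.pA.cond_left _ hx hx1
  have e' : R A d = R D (a' * a⁻¹) := e
  rw [← e'] at t'
  have h1 := t'.symm.repl (R_mem h.hS h.hC d) (fun e0 => h.neA (R_inj.1 e0).symm)
    (Incomparable.comm_symm (comm_R h.cA d))
  have h2 := comm_R h1 d⁻¹
  rw [R_R, mul_inv_cancel, R_one, R_self (inv_mem hd)] at h2
  exact not_commute h.pC h2

/-- `x` acts on the twin classes like `a ∈ A`. -/
def Acts (S : Set (Subgroup G)) (A D : Subgroup G) (x a : G) : Prop :=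
  a ∈ A ∧ ∀ a0 ∈ A, Tw S (R D (a0 * x)) (R D (a0 * a))

theorem acts_mul (h : Trio S A B C D) {x y u v : G} (hx : Acts S A D x u) (hy : Acts S A D y v) :
    Acts S A D (x * y) (u * v) := by
  refine ⟨mul_mem hx.1 hy.1, fun a0 ha0 => ?_⟩
  have h1 := (hx.2 a0 ha0).conj h.hS y
  rw [R_R, R_R] at h1
  have h2 := hy.2 _ (mul_mem ha0 hx.1)
  have h3 := h1.trans h.hS h.hd (R_mem h.hS h.hD _) (R_mem h.hS h.hD _) (R_mem h.hS h.hD _) h2
  rwa [mul_assoc, mul_assoc] at h3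

theorem acts_inv (h : Trio S A B C D) {x u : G} (hx : Acts S A D x u) : Acts S A D x⁻¹ u⁻¹ := by
  refine ⟨inv_mem hx.1, fun a0 ha0 => ?_⟩
  have h1 := (hx.2 _ (mul_mem ha0 (inv_mem hx.1))).conj h.hS x⁻¹
  rw [R_R, R_R, mul_inv_cancel_right, inv_mul_cancel_right] at h1
  exact h1.symm

/-- The subgroup acting on the twin classes like `A`. -/
def domain (h : Trio S A B C D) : Subgroup G where
  carrier := {x | ∃ a, Acts S A D x a}
  one_mem' := ⟨1, one_mem _, fun a0 _ => Or.inl rfl⟩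
  mul_mem' := fun ⟨u, hu⟩ ⟨v, hv⟩ => ⟨u * v, h.acts_mul hu hv⟩
  inv_mem' := fun ⟨u, hu⟩ => ⟨u⁻¹, h.acts_inv hu⟩

theorem sup_le_domain (h : Trio S A B C D) : A ⊔ B ≤ h.domain :=
  sup_le (fun x hx => ⟨x, hx, fun a0 _ => Or.inl rfl⟩) fun x hx => by
    obtain ⟨a, ha, hu⟩ := h.uniform hx
    exact ⟨a, ha, hu⟩

theorem acts_unique (h : Trio S A B C D) {x u v : G} (hu : Acts S A D x u) (hv : Acts S A D x v) : u = v := by
  have h1 := hu.2 1 (one_mem _)
  have h2 := hv.2 1 (one_mem _)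
  simp only [one_mul] at h1 h2
  exact h.unique hu.1 hv.1
    (h1.symm.trans h.hS h.hd (R_mem h.hS h.hD _) (R_mem h.hS h.hD _) (R_mem h.hS h.hD _) h2)

/-- A homomorphism from a perfect group into `A ⊔ B` has trivial values in `A`. -/
theorem perfect_eq_one (h : Trio S A B C D) {H : Type*} [Group H] (hH : commutator H = ⊤) (φ : H →* G)
    (hφ : φ.range ≤ A ⊔ B) {x : H} (hx : φ x ∈ A) : φ x = 1 := by
  have hcom : ∀ u ∈ A, ∀ v ∈ A, u * v = v * u := RootSets.comm_self h.hS h.hA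
  letI : CommGroup ↥A :=
    { (inferInstance : Group ↥A) with mul_comm := fun u v => Subtype.ext (hcom _ u.2 _ v.2) }
  choose f hf using fun y : H => h.sup_le_domain (hφ ⟨y, rfl⟩)
  let τ : H →* ↥A := MonoidHom.mk' (fun y => ⟨f y, (hf y).1⟩) fun y z =>
    Subtype.ext (h.acts_unique (hf (y * z)) (map_mul φ y z ▸ h.acts_mul (hf y) (hf z)))
  have hk : (⊤ : Subgroup H) ≤ τ.ker := hH ▸ Abelianization.commutator_subset_ker τ
  have h1 : f x = 1 := congrArg Subtype.val (MonoidHom.mem_ker.1 (hk (Subgroup.mem_top x)))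
  rw [← h1]
  exact (h.acts_unique (hf x) ⟨hx, fun a0 _ => Or.inl rfl⟩).symm

end Trio

end Cfsg.Agent.RootSubgroups.Degenerate
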