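import Cfsg.Agent.Lib.RootSubgroups.DegenerateCubic
import Cfsg.Agent.Lib.RootSubgroups.DegenerateTwins

/-!
# Rank one pairs in a degenerate class with commuting members are special
-/

set_option linter.all false
set_option autoImplicit false

namespace Cfsg.Agent.RootSubgroups.Degenerate

open Cfsg
open Cfsg.Agent.ThreeTransp
open Cfsg.Agent.ThreeTransp.RankOne
open Cfsg.Agent.RootSubgroups.Commutator
open Matrix
open scoped MatrixGroups

universe u

variable {G : Type u} [Group G] {S : Set (Subgroup G)}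

/-- A pair with a member commuting with the first and not with the second is special. -/
theorem special_of_witness (hS : IsRootSubgroupSet S) (hd : IsDegenerateRootSet S) {A B C : Subgroup G}
    (hA : A ∈ S) (hB : B ∈ S) (hC : C ∈ S) (hp : IsRankOnePair A B) (hne : A ≠ C) (hAC : ⁅A, C⁆ = ⊥)
    (hCB : ⁅C, B⁆ ≠ ⊥) : IsSpecialRankOnePair A B := by
  refine ⟨hp, fun a ha ha1 b hb hb1 e => ?_⟩
  obtain ⟨c, h⟩ := exists_cfg hS hA hB hC hne hAC hp (either hS hd hC hB hCB) ha ha1 hb hb1 e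
  exact h.special

theorem special_symm {A B : Subgroup G} (h : IsSpecialRankOnePair B A) : IsSpecialRankOnePair A B :=
  ⟨RankOnePair_symm h.1, fun a ha ha1 b hb hb1 e => by
    have := congrArg (·⁻¹) (h.2 b hb hb1 a ha ha1 e.symm)
    simpa [mul_assoc] using this.symm⟩

/-- Some member commuting with `A` has a partner in common with `A`. -/
theorem exists_common (hS : IsRootSubgroupClass S) (hcomm : ∃ A ∈ S, ∃ C ∈ S, A ≠ C ∧ ⁅A, C⁆ = ⊥)
    {A : Subgroup G} (hA : A ∈ S) :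
    ∃ C ∈ S, A ≠ C ∧ ⁅A, C⁆ = ⊥ ∧ ∃ D ∈ S, ⁅A, D⁆ ≠ ⊥ ∧ ⁅C, D⁆ ≠ ⊥ := by
  by_contra hno
  push Not at hno
  obtain ⟨A', hA', C', hC', hne, hc⟩ := hcomm
  obtain ⟨g, hg⟩ := hS.2.2 A' hA' A hA
  have hC : conjBy C' g ∈ S := hS.1.conj_mem C' hC' g
  have hne' : A ≠ conjBy C' g := fun e => hne (conjBy_inj.1 (hg.symm.trans e))
  have hAC : ⁅A, conjBy C' g⁆ = ⊥ := hg ▸ Incomparable.commute_conj hc g
  set C := conjBy C' g with hCdef
  let U : Set (Subgroup G) := {F | F ∈ S ∧ (F = A ∨ ⁅A, F⁆ ≠ ⊥)}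
  let V : Set (Subgroup G) := {F | F ∈ S ∧ F ≠ A ∧ ⁅A, F⁆ = ⊥}
  let P : Subgroup G := ⨆ F ∈ U, F
  let Q : Subgroup G := ⨆ F ∈ V, F
  have hPQ : P ≤ Subgroup.centralizer (Q : Set G) := by
    refine iSup₂_le fun F hF => ?_
    rw [Subgroup.le_centralizer_iff]
    refine iSup₂_le fun K hK => ?_
    rw [← Subgroup.commutator_eq_bot_iff_le_centralizer]
    rcases hF.2 with rfl | hF'
    · exact Incomparable.comm_symm hK.2.2
    · exact hno K hK.1 hK.2.1.symm hK.2.2 F hF.1 hF'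
  have hQP : Q ≤ Subgroup.centralizer (P : Set G) := Subgroup.le_centralizer_iff.1 hPQ
  have htop : P ⊔ Q = ⊤ := by
    rw [eq_top_iff, ← hS.1.generates]
    refine iSup₂_le fun F hF => ?_
    by_cases e : F = A ∨ ⁅A, F⁆ ≠ ⊥
    · exact le_sup_of_le_left (le_iSup₂_of_le F (show F ∈ U from ⟨hF, e⟩) le_rfl)
    · push Not at e
      exact le_sup_of_le_right (le_iSup₂_of_le F (show F ∈ V from ⟨hF, e.1, e.2⟩) le_rfl)
  have hnP : P ⊔ Q ≤ Subgroup.normalizer (P : Set G) :=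
    sup_le Subgroup.le_normalizer (hQP.trans fun x hx => mem_normalizer_of_centralizes fun y hy =>
      (Subgroup.mem_centralizer_iff.1 hx y hy).symm)
  have hAP : A ≤ P := le_iSup₂_of_le A (show A ∈ U from ⟨hA, Or.inl rfl⟩) le_rfl
  have hCQ : C ≤ Q := le_iSup₂_of_le C (show C ∈ V from ⟨hC, hne'.symm, hAC⟩) le_rfl
  obtain ⟨x, hx⟩ := hS.2.2 A hA C hC
  have hCP : C ≤ P := by
    intro y hy
    rw [hx] at hy
    have hxn : x ∈ Subgroup.normalizer (P : Set G) := hnP (htop ▸ Subgroup.mem_top x)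
    have := (Subgroup.mem_normalizer_iff.1 hxn _).1 (hAP (mem_conjBy.1 hy))
    simpa [mul_assoc] using this
  have hcent : P ⊔ Q ≤ Subgroup.centralizer (C : Set G) :=
    sup_le (hPQ.trans (Subgroup.centralizer_le hCQ)) (hQP.trans (Subgroup.centralizer_le hCP))
  have hx' : x ∈ Subgroup.normalizer (C : Set G) := mem_normalizer_of_centralizes fun y hy =>
    (Subgroup.mem_centralizer_iff.1 (hcent (htop ▸ Subgroup.mem_top x)) y hy).symm
  exact hne' ((eq_conjBy_inv hx.symm).trans (conjBy_eq_iff.2 (inv_mem hx')))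

theorem sl2_perfect {k : Type*} [Field k] (hk : 3 < ENat.card k) : commutator SL(2, k) = ⊤ := by
  classical
  obtain ⟨a, ha⟩ : ∃ a : k, a ∉ ({0, 1, -1} : Finset k) := by
    by_contra hall
    push Not at hall
    haveI : Fintype k := ⟨{0, 1, -1}, hall⟩
    have h3 : Fintype.card k ≤ 3 :=
      (Finset.card_le_card (fun x _ => hall x)).trans Finset.card_le_three
    rw [ENat.card_eq_coe_fintype_card] at hk
    exact absurd hk (not_lt.2 (by exact_mod_cast h3))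
  simp only [Finset.mem_insert, Finset.mem_singleton, not_or] at ha
  refine SL2.commutator_eq_top ha.1 ?_
  rw [ne_eq, sq_eq_one_iff]
  tauto

theorem main (hS : IsRootSubgroupClass S) (hd : IsDegenerateRootSet S)
    (hcomm : ∃ A ∈ S, ∃ C ∈ S, A ≠ C ∧ ⁅A, C⁆ = ⊥)
    (hH : (∀ A ∈ S, ∀ a ∈ A, 0 < orderOf a ∧ orderOf a ≤ 3) → ∀ A ∈ S, ∀ B ∈ rankOnePartners S A,
      ∃ A₀ B₀ : Subgroup G, A₀ ≤ A ∧ B₀ ≤ B ∧ ∃ (k : Type u) (_ : Field k), 3 < ENat.card k ∧
        IsPSL2PairOver k A₀ B₀)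
    {A B : Subgroup G} (hA : A ∈ S) (hB : B ∈ S) (hp : IsRankOnePair A B) : IsSpecialRankOnePair A B := by
  by_cases h1 : ∃ C ∈ S, A ≠ C ∧ ⁅A, C⁆ = ⊥ ∧ ⁅C, B⁆ ≠ ⊥
  · obtain ⟨C, hC, a, b, c⟩ := h1
    exact special_of_witness hS.1 hd hA hB hC hp a b c
  by_cases h2 : ∃ C ∈ S, B ≠ C ∧ ⁅B, C⁆ = ⊥ ∧ ⁅C, A⁆ ≠ ⊥
  · obtain ⟨C, hC, a, b, c⟩ := h2
    exact special_symm (special_of_witness hS.1 hd hB hA hC (RankOnePair_symm hp) a b c)
  exfalso
  push Not at h1 h2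
  have tw : Tw S A B := Or.inr ⟨hp, fun H hH hHA hHB =>
    ⟨fun e => h1 H hH hHA.symm (Incomparable.comm_symm e),
      fun e => h2 H hH hHB.symm (Incomparable.comm_symm e)⟩⟩
  obtain ⟨C, hC, hAC, cA, D, hD, nA, nC⟩ := exists_common hS hcomm hA
  have pA := either hS.1 hd hA hD nA
  have pC := either hS.1 hd hC hD nC
  have cB : ⁅B, C⁆ = ⊥ := Incomparable.comm_symm (h1 C hC hAC cA)
  have hBC : B ≠ C := fun e => not_commute hp (e ▸ cA)
  have nB : ⁅B, D⁆ ≠ ⊥ := fun e => by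
    by_cases eD : D = B
    · exact nC (eD ▸ Incomparable.comm_symm cB)
    · exact nA (Incomparable.comm_symm (tw.symm.repl hD eD (Incomparable.comm_symm e)))
  by_cases hord : ∀ A ∈ S, ∀ a ∈ A, 0 < orderOf a ∧ orderOf a ≤ 3
  · obtain ⟨A₀, B₀, hA₀, hB₀, k, _, hk, φ, hr, hker, hup, hlow⟩ := hH hord A hA B ⟨hB, hp⟩
    have trio : Trio S A B C D :=
      ⟨hS.1, hd, hA, hB, hC, hD, hp, tw, cA, cB, hAC, hBC, pA, either hS.1 hd hB hD nB, pC⟩
    let x : SL(2, k) := ⟨!![1, 1; 0, 1], by simp [Matrix.det_fin_two]⟩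
    have hxu : x ∈ upperUnipotentSL2 k := Subgroup.subset_closure ⟨rfl, rfl, rfl⟩
    have hx1 : φ x = 1 := trio.perfect_eq_one (sl2_perfect hk) φ (hr ▸ sup_le_sup hA₀ hB₀)
      (hA₀ (hup ▸ Subgroup.mem_map_of_mem φ hxu))
    have hxc := Subgroup.mem_center_iff.1 (hker (MonoidHom.mem_ker.2 hx1))
      ⟨!![1, 0; 1, 1], by simp [Matrix.det_fin_two]⟩
    have h00 := congrFun (congrFun (congrArg
      (fun g : SL(2, k) => (g : Matrix (Fin 2) (Fin 2) k)) hxc) 0) 0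
    change (!![1, 0; 1, 1] * !![1, 1; 0, 1] : Matrix (Fin 2) (Fin 2) k) 0 0 =
      (!![1, 1; 0, 1] * !![1, 0; 1, 1] : Matrix (Fin 2) (Fin 2) k) 0 0 at h00
    simp [Matrix.mul_apply, Fin.sum_univ_two] at h00
  · push Not at hord
    obtain ⟨A', hA', a', ha', hord⟩ := hord
    obtain ⟨g, hg⟩ := hS.2.2 A' hA' A hA
    set a := g * a' * g⁻¹ with hadef
    have ha : a ∈ A := hg ▸ conj_mem_conjBy ha'
    have hpow : ∀ k : ℕ, 0 < k → k ≤ 3 → a ^ k ≠ 1 := by
      intro k hk0 hk3 e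
      rw [hadef, conj_pow, conj_eq_one_iff] at e
      have hle := orderOf_le_of_pow_eq_one hk0 e
      have := hord (orderOf_pos_iff.2 (isOfFinOrder_iff_pow_eq_one.2 ⟨k, hk0, e⟩))
      omega
    have ha1 : a ≠ 1 := by simpa using hpow 1 one_pos (by norm_num)
    obtain ⟨d, hd', hd1, e⟩ := pA.cond_left a ha ha1
    obtain ⟨c, h⟩ := exists_cfg hS.1 hA hD hC hAC cA pA pC ha ha1 hd' hd1 e
    obtain ⟨w, hw⟩ := hS.2.2 D hD A hA
    let M : Subgroup G := (Subgroup.centralizer (B : Set G)).comap (MulAut.conj w).toMonoidHom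
    have hM : ∀ k : ℕ, 0 < k → k ≤ 3 → ((a⁻¹ * c) ^ k)⁻¹ * d * (a⁻¹ * c) ^ k ∈ M := by
      intro k hk0 hk3
      set E := R D ((a⁻¹ * c) ^ k) with hE
      have hK : conjBy E w ∈ S := hS.1.conj_mem _ (R_mem hS.1 hD _) w
      have hKA : ⁅conjBy E w, A⁆ = ⊥ := by
        rw [hw]
        exact Incomparable.commute_conj (Incomparable.comm_symm (h.relate_pow k).1) w
      have hne : conjBy E w ≠ A := by
        rw [hw]
        exact fun e0 => (h.relate_pow k).2 (hpow k hk0 hk3) (conjBy_inj.1 e0)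
      have hKB := h1 _ hK hne.symm (Incomparable.comm_symm hKA)
      rw [Subgroup.commutator_eq_bot_iff_le_centralizer] at hKB
      exact hKB (conj_mem_conjBy (mem_R_conj hd' _))
    have hdM : d ∈ M := h.cubic (by simpa using hM 1 one_pos (by norm_num))
      (hM 2 two_pos (by norm_num)) (hM 3 (by norm_num) le_rfl)
    have hA1 : w * d * w⁻¹ = 1 := inf_normalizer hp (hw ▸ conj_mem_conjBy hd')
      (mem_normalizer_of_centralizes fun y hy =>
        (Subgroup.mem_centralizer_iff.1 (show w * d * w⁻¹ ∈ Subgroup.centralizer (B : Set G) from hdM) y hy).symm)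
    exact hd1 (conj_eq_one_iff.1 hA1)

end Cfsg.Agent.RootSubgroups.Degenerate
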