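import Cfsg.Agent.Lib.ThreeTransp.RootSets
import Cfsg.Agent.S5028

/-!
The commutator case for sets of abstract root subgroups.
-/

set_option linter.all false
set_option autoImplicit false

namespace Cfsg.Agent.RootSubgroups.Commutator

open Cfsg
open Cfsg.Agent.ThreeTransp
open Cfsg.Agent.ThreeTransp.RankOne

variable {G : Type*} [Group G] {S : Set (Subgroup G)}

theorem rankOne_conj {A B : Subgroup G} (h : IsRankOnePair A B) (g : G) :
    IsRankOnePair (conjBy A g) (conjBy B g) := by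
  have key : ∀ {A B : Subgroup G}, RankOneCondition A B → RankOneCondition (conjBy A g) (conjBy B g) := by
    intro A B hc x hx hx1
    have hx' := mem_conjBy.1 hx
    obtain ⟨b, hb, hb1, e⟩ := hc _ hx' (fun e => hx1 (by
      have h2 := congrArg (fun y => g * y * g⁻¹) e
      simpa [mul_assoc] using h2))
    refine ⟨g * b * g⁻¹, conj_mem_conjBy hb, fun e => hb1 (conj_eq_one_iff.1 e), ?_⟩
    have h2 := congrArg (conjBy · g) e
    simp only [conjBy_conjBy] at h2 ⊢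
    rw [show (g * b * g⁻¹)⁻¹ * g = g * b⁻¹ by simp [mul_assoc],
      show x⁻¹ * g = g * (g⁻¹ * x * g)⁻¹ by simp [mul_assoc]]
    exact h2
  refine ⟨fun e => h.ne (conjBy_inj.1 e), ?_, ?_, key h.cond_left, key h.cond_right⟩
  · haveI := h.nilpotent_left
    exact Group.nilpotent_of_mulEquiv (Subgroup.equivMapOfInjective A _ (MulAut.conj g).injective)
  · haveI := h.nilpotent_right
    exact Group.nilpotent_of_mulEquiv (Subgroup.equivMapOfInjective B _ (MulAut.conj g).injective)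

theorem not_isolated {A B : Subgroup G} (hA : A ∈ S) (hB : B ∈ S) (h : IsRankOnePair A B) :
    ¬ IsIsolatedIn (FAdj S) S A := fun hiso => (hiso.2 B).1 ⟨hA, hB, h⟩

theorem pair_mem {A B : Subgroup G} (h : IsRankOnePair A B) {C D : Subgroup G}
    (hC : C ∈ unipotentSubgroups A B) (hD : D ∈ unipotentSubgroups A B) (hne : C ≠ D) :
    IsRankOnePair C D := by
  obtain ⟨x, -, h1, h2⟩ := exists_move h hC hD hne
  rw [eq_conjBy_inv h1, eq_conjBy_inv h2]
  exact rankOne_conj h _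

/-- A pair whose commutator subgroup is a member is in the commutator case. -/
theorem case_of_mem (hS : IsRootSubgroupSet S) {A B : Subgroup G} (hA : A ∈ S) (hB : B ∈ S)
    (hC : ⁅A, B⁆ ∈ S) : RootCommutatorCase S A B := by
  rcases hS.pair A hA B hB with h | h | h
  · exact absurd h (hS.ne_bot _ hC)
  · exfalso
    have hn : A ⊔ B ≤ Subgroup.normalizer ((⁅A, B⁆ : Subgroup G) : Set G) :=
      sup_le (Subgroup.normalizer_commutator_ge_left A B) (Subgroup.normalizer_commutator_ge_right A B)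
    have hle : ⁅A, B⁆ ≤ A ⊔ B := by
      rw [Subgroup.commutator_le]
      intro a ha b hb
      exact mul_mem (mul_mem (mul_mem (Subgroup.mem_sup_left ha) (Subgroup.mem_sup_right hb))
        (inv_mem (Subgroup.mem_sup_left ha))) (inv_mem (Subgroup.mem_sup_right hb))
    rcases RootSets.member_in_pair hS hA h hC hle with ⟨x, hx, e⟩ | hc
    · have hA' : A = ⁅A, B⁆ := (eq_conjBy_inv e.symm).trans (conjBy_eq_iff.2 (hn (inv_mem hx)))
      obtain ⟨b, hb, hb1⟩ := exists_ne_one (RankOnePair_symm h)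
      exact hb1 (inf_normalizer (RankOnePair_symm h) hb (hA' ▸ hn (Subgroup.mem_sup_right hb)))
    · obtain ⟨a, ha, ha1⟩ := exists_ne_one h
      have hne : conjBy B a ≠ B := fun e => ha1 (inf_normalizer h ha (conjBy_eq_iff.1 e))
      refine hne (not_commute_mem h (conj_mem (right_mem h) (Subgroup.mem_sup_left ha)) (right_mem h) ?_)
      refine commutator_eq_bot_iff.2 fun x hx b hb => ?_
      have hy := mem_conjBy.1 hx
      have hz : x * (a⁻¹ * x * a)⁻¹ ∈ ⁅A, B⁆ := by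
        have := Subgroup.commutator_mem_commutator ha hy
        rw [commutatorElement_def] at this
        simpa [mul_assoc] using this
      have h1 := commutator_eq_bot_iff.1 (hc B (right_mem h)) _ hz b hb
      have h2 := RootSets.comm_self hS hB _ hy b hb
      calc x * b = x * (a⁻¹ * x * a)⁻¹ * ((a⁻¹ * x * a) * b) := by simp [mul_assoc]
        _ = x * (a⁻¹ * x * a)⁻¹ * b * (a⁻¹ * x * a) := by rw [h2]; simp [mul_assoc]
        _ = b * x := by rw [h1]; simp [mul_assoc]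
  · exact h

theorem case_symm {A B : Subgroup G} (h : RootCommutatorCase S A B) : RootCommutatorCase S B A := by
  obtain ⟨h1, h2, h3, h4⟩ := h
  have key : ∀ (f g : G → G) (X : Set G), (∀ x ∈ X, f x = (g x)⁻¹) →
      Subgroup.closure (f '' X) ≤ Subgroup.closure (g '' X) := by
    intro f g X hfg
    rw [Subgroup.closure_le]
    rintro _ ⟨x, hx, rfl⟩
    rw [hfg x hx]
    exact inv_mem (Subgroup.subset_closure ⟨x, hx, rfl⟩)
  rw [RootCommutatorCase, Subgroup.commutator_comm, sup_comm]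
  refine ⟨h1, h2, fun b hb hb1 => ?_, fun a ha ha1 => ?_⟩
  · rw [← h4 b hb hb1]
    exact le_antisymm (key _ _ _ fun x _ => by simp [mul_assoc]) (key _ _ _ fun x _ => by simp [mul_assoc])
  · rw [← h3 a ha ha1]
    exact le_antisymm (key _ _ _ fun x _ => by simp [mul_assoc]) (key _ _ _ fun x _ => by simp [mul_assoc])

section Case

variable {A B : Subgroup G} (hS : IsRootSubgroupSet S) (hA : A ∈ S) (hB : B ∈ S)
  (h : RootCommutatorCase S A B)
include h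

theorem comm_mem {a b : G} (ha : a ∈ A) (hb : b ∈ B) : a * b * a⁻¹ * b⁻¹ ∈ ⁅A, B⁆ := by
  have := Subgroup.commutator_mem_commutator ha hb
  rwa [commutatorElement_def] at this

theorem comm_mul_right {a b b' : G} (ha : a ∈ A) (hb : b ∈ B) (hb' : b' ∈ B) :
    a * (b * b') * a⁻¹ * (b * b')⁻¹ = (a * b * a⁻¹ * b⁻¹) * (a * b' * a⁻¹ * b'⁻¹) := by
  have hc := h.2.1 _ (comm_mem h ha hb') b (Subgroup.mem_sup_right hb)
  calc a * (b * b') * a⁻¹ * (b * b')⁻¹ = (a * b * a⁻¹) * (a * b' * a⁻¹ * b'⁻¹) * b⁻¹ := by simp [mul_assoc]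
    _ = (a * b * a⁻¹) * (b⁻¹ * (b * (a * b' * a⁻¹ * b'⁻¹))) * b⁻¹ := by simp
    _ = _ := by rw [← hc]; simp [mul_assoc]

theorem comm_mul_left {a a' b : G} (ha : a ∈ A) (ha' : a' ∈ A) (hb : b ∈ B) :
    (a * a') * b * (a * a')⁻¹ * b⁻¹ = (a * b * a⁻¹ * b⁻¹) * (a' * b * a'⁻¹ * b⁻¹) := by
  have hc := h.2.1 _ (comm_mem h ha' hb) a (Subgroup.mem_sup_left ha)
  have hc2 := h.2.1 _ (comm_mem h ha hb) _ (show a' * b * a'⁻¹ * b⁻¹ ∈ A ⊔ B from
    mul_mem (mul_mem (mul_mem (Subgroup.mem_sup_left ha') (Subgroup.mem_sup_right hb))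
      (inv_mem (Subgroup.mem_sup_left ha'))) (inv_mem (Subgroup.mem_sup_right hb)))
  calc (a * a') * b * (a * a')⁻¹ * b⁻¹ = (a * (a' * b * a'⁻¹ * b⁻¹)) * b * a⁻¹ * b⁻¹ := by simp [mul_assoc]
    _ = (a' * b * a'⁻¹ * b⁻¹) * (a * b * a⁻¹ * b⁻¹) := by rw [← hc]; simp [mul_assoc]
    _ = _ := hc2.symm

theorem exists_right {a : G} (ha : a ∈ A) (ha1 : a ≠ 1) {c : G} (hc : c ∈ ⁅A, B⁆) :
    ∃ b ∈ B, a * b * a⁻¹ * b⁻¹ = c := by
  rw [← h.2.2.1 a ha ha1] at hc
  induction hc using Subgroup.closure_induction with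
  | mem x hx => obtain ⟨b, hb, rfl⟩ := hx; exact ⟨b, hb, rfl⟩
  | one => exact ⟨1, one_mem _, by simp⟩
  | mul x y _ _ ix iy =>
    obtain ⟨b, hb, rfl⟩ := ix
    obtain ⟨b', hb', rfl⟩ := iy
    exact ⟨b * b', mul_mem hb hb', comm_mul_right h ha hb hb'⟩
  | inv x _ ix =>
    obtain ⟨b, hb, rfl⟩ := ix
    refine ⟨b⁻¹, inv_mem hb, eq_inv_of_mul_eq_one_right ?_⟩
    rw [← comm_mul_right h ha hb (inv_mem hb)]; simp

theorem exists_left {b : G} (hb : b ∈ B) (hb1 : b ≠ 1) {c : G} (hc : c ∈ ⁅A, B⁆) :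
    ∃ a ∈ A, a * b * a⁻¹ * b⁻¹ = c := by
  obtain ⟨a, ha, e⟩ := exists_right (case_symm h) hb hb1 (c := c⁻¹) (by
    rw [Subgroup.commutator_comm]; exact inv_mem hc)
  exact ⟨a, ha, by rw [← inv_inj, ← e]; simp [mul_assoc]⟩

include hS hB

theorem sup_abelian {x y : G} (hx : x ∈ A ⊔ ⁅A, B⁆) (hy : y ∈ A ⊔ ⁅A, B⁆) (hA : A ∈ S) :
    x * y = y * x := by
  have key : A ⊔ ⁅A, B⁆ ≤ Subgroup.centralizer ((A ⊔ ⁅A, B⁆ : Subgroup G) : Set G) := by
    have h1 : A ⊔ ⁅A, B⁆ ≤ Subgroup.centralizer (A : Set G) := sup_le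
      (fun a ha => Subgroup.mem_centralizer_iff.2 fun a' ha' => RootSets.comm_self hS hA a' ha' a ha)
      (fun c hc => Subgroup.mem_centralizer_iff.2 fun a' ha' => (h.2.1 c hc a' (Subgroup.mem_sup_left ha')).symm)
    have h2 : A ⊔ ⁅A, B⁆ ≤ Subgroup.centralizer ((⁅A, B⁆ : Subgroup G) : Set G) := sup_le
      (fun a ha => Subgroup.mem_centralizer_iff.2 fun c hc => h.2.1 c hc a (Subgroup.mem_sup_left ha))
      (fun c hc => Subgroup.mem_centralizer_iff.2 fun c' hc' => RootSets.comm_self hS h.1 c' hc' c hc)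
    exact Subgroup.le_centralizer_iff.1 (sup_le (Subgroup.le_centralizer_iff.1 h1) (Subgroup.le_centralizer_iff.1 h2))
  exact (Subgroup.mem_centralizer_iff.1 (key hx) y hy).symm

omit hB in
theorem mem_sup {x : G} (hA : A ∈ S) (hx : x ∈ A ⊔ ⁅A, B⁆) : ∃ a ∈ A, ∃ c ∈ ⁅A, B⁆, x = a * c := by
  have hn : A ≤ Subgroup.normalizer ((⁅A, B⁆ : Subgroup G) : Set G) := Subgroup.normalizer_commutator_ge_left A B
  rw [← SetLike.mem_coe, Subgroup.coe_mul_of_left_le_normalizer_right _ _ hn] at hx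
  obtain ⟨a, ha, c, hc, rfl⟩ := hx
  exact ⟨a, ha, c, hc, rfl⟩

omit hB in
theorem conj_le {b : G} (hb : b ∈ B) : conjBy A b ≤ A ⊔ ⁅A, B⁆ := by
  intro x hx
  have hy := mem_conjBy.1 hx
  rw [show x = (b⁻¹ * x * b) * ((b⁻¹ * x * b)⁻¹ * x) by simp [mul_assoc]]
  refine mul_mem (Subgroup.mem_sup_left hy) (Subgroup.mem_sup_right ?_)
  have := comm_mem h (inv_mem hy) hb
  simpa [mul_assoc] using this

omit hS hB in
/-- Every element outside the commutator lies in a conjugate of `A`. -/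
theorem mem_conj {a c : G} (ha : a ∈ A) (ha1 : a ≠ 1) (hc : c ∈ ⁅A, B⁆) :
    ∃ b ∈ B, a * c ∈ conjBy A b := by
  obtain ⟨b, hb, e⟩ := exists_right h (inv_mem ha) (inv_ne_one.2 ha1) hc
  refine ⟨b, hb, mem_conjBy.2 ?_⟩
  rw [← e, show b⁻¹ * (a * (a⁻¹ * b * (a⁻¹)⁻¹ * b⁻¹)) * b = a by simp [mul_assoc]]
  exact ha

omit hB in
theorem inj_right (hiso : ¬ IsIsolatedIn (FAdj S) S A) (hA : A ∈ S) {a b : G} (ha : a ∈ A) (ha1 : a ≠ 1)
    (hb : b ∈ B) (e : a * b * a⁻¹ * b⁻¹ = 1) : b = 1 := by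
  by_contra hb1
  have hfix : a ∈ conjBy A b := mem_conjBy.2 (by
    rw [mul_inv_eq_one, mul_inv_eq_iff_eq_mul] at e
    rw [mul_assoc, e, inv_mul_cancel_left]; exact ha)
  have hTI := (S5028.result hS hiso hA _ (hS.conj_mem A hA b)).resolve_left (fun e0 =>
    ha1 (Subgroup.mem_bot.1 (e0 ▸ (⟨ha, hfix⟩ : a ∈ A ⊓ conjBy A b))))
  obtain ⟨c, hc, hc1⟩ := (Subgroup.bot_or_exists_ne_one ⁅A, B⁆).resolve_left (hS.ne_bot _ h.1)
  obtain ⟨a', ha', e'⟩ := exists_left h hb hb1 hc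
  have hcA : c ∈ A := by
    have h1 : b * a'⁻¹ * b⁻¹ ∈ A := by rw [hTI]; exact conj_mem_conjBy (inv_mem ha')
    rw [← e', show a' * b * a'⁻¹ * b⁻¹ = a' * (b * a'⁻¹ * b⁻¹) by simp [mul_assoc]]
    exact mul_mem ha' h1
  have hne : A ≠ ⁅A, B⁆ := fun e0 => by
    have : ⁅A, B⁆ = ⊥ := RankOne.commutator_eq_bot_iff.2 fun x hx y hy =>
      h.2.1 x (e0 ▸ hx) y (Subgroup.mem_sup_right hy)
    exact hS.ne_bot _ h.1 this
  exact hc1 (Subgroup.mem_bot.1 ((S5028.result hS hiso hA _ h.1).resolve_right hne ▸ (⟨hcA, hc⟩ : c ∈ A ⊓ ⁅A, B⁆)))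

end Case

theorem eq_of_le_commutator (hS : IsRootSubgroupSet S) {A B : Subgroup G} (hA : A ∈ S) (hB : B ∈ S)
    (hiso : ¬ IsIsolatedIn (FAdj S) S A) (h : RootCommutatorCase S A B) {E : Subgroup G} (hE : E ∈ S)
    (hle : E ≤ ⁅A, B⁆) : E = ⁅A, B⁆ := by
  obtain ⟨D, hD, hp⟩ := RootSets.exists_partner hS hiso hA
  set C := ⁅A, B⁆ with hCdef
  have hAC : ∀ x ∈ C, ∀ a ∈ A, x * a = a * x := fun x hx a ha => h.2.1 x hx a (Subgroup.mem_sup_left ha)
  obtain ⟨e, he, he1⟩ := (Subgroup.bot_or_exists_ne_one E).resolve_left (hS.ne_bot _ hE)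
  obtain ⟨a, ha, ha1⟩ := exists_ne_one hp
  -- no nontrivial element of `C` centralizes `D`
  have hz : ∀ z ∈ C, z ≠ 1 → ¬ ∀ d ∈ D, z * d = d * z := by
    intro z hzC hz1 hzD
    refine RootSets.mul_notMem_rootElements hS hA ⟨hD, hp⟩ (z := z) ?_ hz1 ha ha1 ?_
    · have hthis : A ⊔ D ≤ Subgroup.centralizer ({z} : Set G) := sup_le
        (fun x hx => Subgroup.mem_centralizer_singleton_iff.2 (hAC z hzC x hx).symm)
        (fun x hx => Subgroup.mem_centralizer_singleton_iff.2 (hzD x hx).symm)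
      exact Subgroup.mem_centralizer_iff.2 fun x hx => Subgroup.mem_centralizer_singleton_iff.1 (hthis hx)
    · obtain ⟨b, hb, hm⟩ := mem_conj h ha ha1 hzC
      rw [hAC z hzC a ha]
      refine ⟨fun e1 => ?_, conjBy A b, hS.conj_mem A hA b, hm⟩
      have hzA : z ∈ A := by rw [eq_inv_of_mul_eq_one_right e1]; exact inv_mem ha
      rcases S5028.result hS hiso hA C h.1 with h0 | h0
      · exact hz1 (Subgroup.mem_bot.1 (h0 ▸ (⟨hzA, hzC⟩ : z ∈ A ⊓ C)))
      · exact hS.ne_bot C h.1 (RankOne.commutator_eq_bot_iff.2 fun x hx y hy =>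
          h.2.1 x (h0.le hx) y (Subgroup.mem_sup_right hy))
  have hnoc : ∀ X ∈ S, X ≤ C → IsRankOnePair D X ∨ RootCommutatorCase S D X := by
    intro X hX hXC
    rcases hS.pair D hD X hX with h0 | h0
    · exfalso
      obtain ⟨x, hx, hx1⟩ := (Subgroup.bot_or_exists_ne_one X).resolve_left (hS.ne_bot _ hX)
      exact hz x (hXC hx) hx1 fun d hd => (RankOne.commutator_eq_bot_iff.1 h0 d hd x hx).symm
    · exact h0
  rcases hnoc C h.1 le_rfl with hc | hc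
  · have := S5028.result hS (not_isolated h.1 hD (RankOnePair_symm hc)) h.1 E hE
    rcases this with h0 | h0
    · exact absurd (Subgroup.mem_bot.1 (h0 ▸ (⟨hle he, he⟩ : e ∈ C ⊓ E))) he1
    · exact h0.symm
  rcases hnoc E hE hle with hcE | hcE
  · rcases S5028.result hS (not_isolated hE hD (RankOnePair_symm hcE)) hE C h.1 with h0 | h0
    · exact absurd (Subgroup.mem_bot.1 (h0 ▸ (⟨he, hle he⟩ : e ∈ E ⊓ C))) he1
    · exact h0
  have hisoD := not_isolated hD hA (RankOnePair_symm hp)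
  obtain ⟨d, hd, hd1⟩ := exists_ne_one (RankOnePair_symm hp)
  refine le_antisymm hle fun c hc' => ?_
  have hsame : ⁅D, E⁆ = ⁅D, C⁆ := by
    obtain ⟨d', hd', hne⟩ : ∃ d' ∈ D, d' * e * d'⁻¹ * e⁻¹ ≠ 1 := by
      by_contra hn
      push Not at hn
      refine hz e (hle he) he1 fun d hd => ?_
      have := hn d hd
      rw [mul_inv_eq_one, mul_inv_eq_iff_eq_mul] at this
      exact this.symm
    refine le_antisymm (Subgroup.commutator_mono le_rfl hle) fun f hf => ?_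
    obtain ⟨g, hg, eg⟩ := exists_left hc (hle he) he1 hf
    rw [← eg]
    exact comm_mem hcE hg he
  obtain ⟨x, hx, ex⟩ := exists_right hcE hd hd1 (c := d * c * d⁻¹ * c⁻¹) (hsame ▸ comm_mem hc hd hc')
  have hxc : x * c⁻¹ = 1 := by
    refine inj_right hS hc hisoD hD hd hd1 (mul_mem (hle hx) (inv_mem hc')) ?_
    rw [comm_mul_right hc hd (hle hx) (inv_mem hc'), ex]
    rw [← comm_mul_right hc hd hc' (inv_mem hc')]
    simp
  rwa [← mul_inv_eq_one.1 hxc]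

/-- Properties of `A C`. -/
theorem line (hS : IsRootSubgroupSet S) {A B : Subgroup G} (hA : A ∈ S) (hB : B ∈ S)
    (hiso : ¬ IsIsolatedIn (FAdj S) S A) (h : RootCommutatorCase S A B) :
    membersIn S (A ⊔ ⁅A, B⁆) = (fun b : G => conjBy A b) '' (B : Set G) ∪ {⁅A, B⁆} ∧
      IsSubgroupPartition (A ⊔ ⁅A, B⁆) (membersIn S (A ⊔ ⁅A, B⁆)) ∧
      A ∈ linePartners S ⁅A, B⁆ := by
  have hisob : ∀ b : G, ¬ IsIsolatedIn (FAdj S) S (conjBy A b) := fun b => by
    obtain ⟨D, hD, hp⟩ := RootSets.exists_partner hS hiso hA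
    exact not_isolated (hS.conj_mem A hA b) (hS.conj_mem D hD b) (rankOne_conj hp b)
  have cover : ∀ x ∈ A ⊔ ⁅A, B⁆, x ∈ ⁅A, B⁆ ∨ ∃ b ∈ B, x ∈ conjBy A b := by
    intro x hx
    obtain ⟨a, ha, c, hc, rfl⟩ := mem_sup hS h hA hx
    by_cases ha1 : a = 1
    · left; simpa [ha1] using hc
    · exact Or.inr (mem_conj h ha ha1 hc)
  have hmem : membersIn S (A ⊔ ⁅A, B⁆) = (fun b : G => conjBy A b) '' (B : Set G) ∪ {⁅A, B⁆} := by
    ext E
    constructor
    · rintro ⟨hE, hle⟩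
      by_cases hEC : E ≤ ⁅A, B⁆
      · exact Or.inr (eq_of_le_commutator hS hA hB hiso h hE hEC)
      · obtain ⟨e, he, hec⟩ := SetLike.not_le_iff_exists.1 hEC
        obtain ⟨b, hb, hm⟩ := (cover e (hle he)).resolve_left hec
        refine Or.inl ⟨b, hb, ?_⟩
        rcases S5028.result hS (hisob b) (hS.conj_mem A hA b) E hE with h0 | h0
        · refine absurd ?_ hec
          rw [Subgroup.mem_bot.1 (h0.le ⟨hm, he⟩)]
          exact one_mem _
        · exact h0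
    · rintro (⟨b, hb, rfl⟩ | rfl)
      · exact ⟨hS.conj_mem A hA b, conj_le hS h hb⟩
      · exact ⟨h.1, le_sup_right⟩
  have hpart : IsSubgroupPartition (A ⊔ ⁅A, B⁆) (membersIn S (A ⊔ ⁅A, B⁆)) := by
    refine ⟨fun C hC => hC.2, fun x hx hx1 => ?_, fun C hC D hD hne => ?_⟩
    · rcases cover x hx with h0 | ⟨b, hb, h0⟩
      · exact ⟨_, ⟨h.1, le_sup_right⟩, h0⟩
      · exact ⟨_, ⟨hS.conj_mem A hA b, conj_le hS h hb⟩, h0⟩
    · rw [hmem] at hC hD
      rcases hC with ⟨b, -, rfl⟩ | rfl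
      · exact (S5028.result hS (hisob b) (hS.conj_mem A hA b) D (by
          rcases hD with ⟨b', -, rfl⟩ | rfl
          exacts [hS.conj_mem A hA b', h.1])).resolve_right hne
      · rcases hD with ⟨b, -, rfl⟩ | rfl
        · rw [inf_comm]
          exact (S5028.result hS (hisob b) (hS.conj_mem A hA b) _ h.1).resolve_right (Ne.symm hne)
        · exact absurd rfl hne
  refine ⟨hmem, hpart, ⟨hA, fun e => ?_, ?_⟩, by rwa [sup_comm]⟩
  · exact hS.ne_bot _ h.1 (RankOne.commutator_eq_bot_iff.2 fun x hx y hy =>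
      h.2.1 x (e ▸ hx) y (Subgroup.mem_sup_right hy))
  · exact RankOne.commutator_eq_bot_iff.2 fun c hc a ha => h.2.1 c hc a (Subgroup.mem_sup_left ha)

theorem iso (hS : IsRootSubgroupSet S) {A B : Subgroup G} (hA : A ∈ S)
    (hiso : ¬ IsIsolatedIn (FAdj S) S A) (h : RootCommutatorCase S A B) {a : G} (ha : a ∈ A) (ha1 : a ≠ 1) :
    ∃ φ : ↥B ≃* ↥⁅A, B⁆, ∀ b : ↥B, (φ b : G) = a⁻¹ * (b : G)⁻¹ * a * b := by
  have hval : ∀ b : G, a⁻¹ * b⁻¹ * (a⁻¹)⁻¹ * (b⁻¹)⁻¹ = a⁻¹ * b⁻¹ * a * b := fun b => by simp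
  let f : ↥B →* ↥⁅A, B⁆ := MonoidHom.mk'
    (fun b => ⟨a⁻¹ * (b : G)⁻¹ * a * b, hval b ▸ comm_mem h (inv_mem ha) (inv_mem b.2)⟩) fun x y => Subtype.ext (by
      show a⁻¹ * ((x : G) * y)⁻¹ * a * ((x : G) * y) = (a⁻¹ * (x : G)⁻¹ * a * x) * (a⁻¹ * (y : G)⁻¹ * a * y)
      rw [← hval, ← hval, ← hval, mul_inv_rev, comm_mul_right h (inv_mem ha) (inv_mem y.2) (inv_mem x.2)]
      exact h.2.1 _ (comm_mem h (inv_mem ha) (inv_mem y.2)) _ (mul_mem (mul_mem (mul_mem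
        (Subgroup.mem_sup_left (inv_mem ha)) (Subgroup.mem_sup_right (inv_mem x.2)))
        (inv_mem (Subgroup.mem_sup_left (inv_mem ha)))) (inv_mem (Subgroup.mem_sup_right (inv_mem x.2)))))
  refine ⟨MulEquiv.ofBijective f ⟨?_, ?_⟩, fun b => rfl⟩
  · rw [injective_iff_map_eq_one]
    intro b e
    have e' : a⁻¹ * (b : G)⁻¹ * (a⁻¹)⁻¹ * ((b : G)⁻¹)⁻¹ = 1 := by
      rw [hval]; exact congrArg Subtype.val e
    exact Subtype.ext (inv_eq_one.1 (inj_right hS h hiso hA (inv_mem ha) (inv_ne_one.2 ha1) (inv_mem b.2) e'))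
  · intro c
    obtain ⟨b, hb, e⟩ := exists_right h (inv_mem ha) (inv_ne_one.2 ha1) c.2
    refine ⟨⟨b⁻¹, inv_mem hb⟩, Subtype.ext ?_⟩
    show a⁻¹ * (b⁻¹)⁻¹ * a * b⁻¹ = c
    rw [← e]; simp

end Cfsg.Agent.RootSubgroups.Commutator
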