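import Cfsg.Prelude.Def_RootSubgroups

/-!
A conjugation invariant family of subgroups, pairwise generating unipotent groups, generates a
unipotent group.
-/

set_option linter.all false
set_option autoImplicit false

namespace Cfsg.Agent.RootSubgroups.UnipotentFamily

open Submodule
open scoped Pointwise

variable {k R : Type*} [Field k] [Ring R] [Algebra k R] [FiniteDimensional k R]

/-- The span of the `h - 1`. -/
def augment (H : Subgroup Rˣ) : Submodule k R := span k ((fun h : Rˣ => (h : R) - 1) '' H)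

/-- The elements `g` with `g - 1` in a multiplicatively closed subspace. -/
def groupOf (L : Submodule k R) (hL : L * L ≤ L) : Subgroup Rˣ where
  carrier := {g | (g : R) - 1 ∈ L}
  one_mem' := by simp
  mul_mem' {g h} hg hh := by
    show ((g * h : Rˣ) : R) - 1 ∈ L
    rw [show ((g * h : Rˣ) : R) - 1 = ((g : R) - 1) * ((h : R) - 1) + (((g : R) - 1) + ((h : R) - 1)) by
      simp only [Units.val_mul, sub_mul, mul_sub, one_mul, mul_one]; abel]
    exact L.add_mem (mul_le.mp hL _ hg _ hh) (L.add_mem hg hh)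
  inv_mem' {g} hg := by
    show ((g⁻¹ : Rˣ) : R) - 1 ∈ L
    let f : L →ₗ[k] L :=
      ((LinearMap.mulLeft k (g : R)).comp L.subtype).codRestrict L fun x => by
        show (g : R) * x ∈ L
        rw [show (g : R) * x = ((g : R) - 1) * x + x by simp [sub_mul]]
        exact L.add_mem (mul_le.mp hL _ hg _ x.2) x.2
    have hf : Function.Injective f := fun x y h => by
      have h' := congrArg Subtype.val h
      exact Subtype.ext ((Units.mul_right_inj g).mp h')
    obtain ⟨x, hx⟩ := LinearMap.injective_iff_surjective.mp hf ⟨-((g : R) - 1), L.neg_mem hg⟩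
    have hx' : (g : R) * (x : R) = -((g : R) - 1) := congrArg Subtype.val hx
    have : ((g⁻¹ : Rˣ) : R) - 1 = x := by
      refine (Units.mul_right_inj g).mp ?_
      rw [hx', mul_sub, Units.mul_inv, mul_one]
      simp
    rw [this]
    exact x.2

omit [FiniteDimensional k R] in
theorem sub_one_mem_augment {H : Subgroup Rˣ} {h : Rˣ} (hh : h ∈ H) : (h : R) - 1 ∈ augment (k := k) H :=
  subset_span ⟨h, hh, rfl⟩

omit [FiniteDimensional k R] in
theorem augment_le {H : Subgroup Rˣ} {L : Submodule k R} : augment H ≤ L ↔ ∀ h ∈ H, (h : R) - 1 ∈ L :=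
  ⟨fun h x hx => h (sub_one_mem_augment hx), fun h => span_le.mpr (by rintro _ ⟨x, hx, rfl⟩; exact h x hx)⟩

omit [FiniteDimensional k R] in
theorem augment_mul_le (H : Subgroup Rˣ) : augment (k := k) H * augment (k := k) H ≤ augment (k := k) H := by
  rw [augment, span_mul_span, span_le]
  rintro _ ⟨_, ⟨a, ha, rfl⟩, _, ⟨b, hb, rfl⟩, rfl⟩
  show ((a : R) - 1) * ((b : R) - 1) ∈ _
  rw [show ((a : R) - 1) * ((b : R) - 1) = (((a * b : Rˣ) : R) - 1) - (((a : R) - 1) + ((b : R) - 1)) by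
    simp only [Units.val_mul, sub_mul, mul_sub, one_mul, mul_one]; abel]
  exact sub_mem (sub_one_mem_augment (H.mul_mem ha hb))
    (add_mem (sub_one_mem_augment ha) (sub_one_mem_augment hb))

theorem le_groupOf {H : Subgroup Rˣ} {L : Submodule k R} {hL : L * L ≤ L} :
    H ≤ groupOf L hL ↔ augment H ≤ L := augment_le.symm

/-- Nilpotency of the augmentation. -/
def Nil (k : Type*) [Field k] {R : Type*} [Ring R] [Algebra k R] (H : Subgroup Rˣ) : Prop :=
  ∃ n, augment (k := k) H ^ n = ⊥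

omit [FiniteDimensional k R] in
theorem nil_iff (H : Subgroup Rˣ) :
    Nil k H ↔ ∃ n, ∀ l : List Rˣ, (∀ g ∈ l, g ∈ H) → l.length = n → (l.map fun g : Rˣ => (g : R) - 1).prod = 0 := by
  refine exists_congr fun n => ⟨fun h l hl hn => ?_, fun h => ?_⟩
  · have : ∀ l : List Rˣ, (∀ g ∈ l, g ∈ H) →
        (l.map fun g : Rˣ => (g : R) - 1).prod ∈ augment (k := k) H ^ l.length := by
      intro l
      induction l with
      | nil => intro _; simpa using one_le.mp (le_refl (1 : Submodule k R))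
      | cons a t ih =>
        intro ha
        rw [List.map_cons, List.prod_cons, List.length_cons, pow_succ']
        exact mul_mem_mul (sub_one_mem_augment (ha a (by simp))) (ih fun g hg => ha g (by simp [hg]))
    have := this l hl
    rwa [hn, h, mem_bot] at this
  · rw [augment, span_pow, span_eq_bot]
    intro x hx
    obtain ⟨f, rfl⟩ := Set.mem_pow.mp hx
    choose u hu hu' using fun i => (f i).2
    rw [show (List.ofFn fun i => (f i : R)) = (List.ofFn u).map fun g : Rˣ => (g : R) - 1 by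
      rw [List.map_ofFn]; exact congrArg List.ofFn (funext fun i => (hu' i).symm)]
    refine h _ (fun g hg => ?_) (List.length_ofFn)
    obtain ⟨i, rfl⟩ := List.mem_ofFn.mp hg
    exact hu i

omit [FiniteDimensional k R] in
theorem pow_eq_bot_of_le {L L' : Submodule k R} (h : L ≤ L') {n : ℕ} (hn : L' ^ n = ⊥) : L ^ n = ⊥ := by
  refine eq_bot_iff.mpr (le_trans ?_ hn.le)
  clear hn
  induction n with
  | zero => simp
  | succ n ih => rw [pow_succ, pow_succ]; exact mul_le_mul' ih h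

omit [FiniteDimensional k R] in
theorem Nil.mono {H K : Subgroup Rˣ} (hK : Nil k K) (h : H ≤ K) : Nil k H :=
  let ⟨n, hn⟩ := hK
  ⟨n, pow_eq_bot_of_le (augment_le.mpr fun x hx => sub_one_mem_augment (h hx)) hn⟩

/-- A unipotent group normalized by a unipotent group. -/
theorem nil_sup {K C : Subgroup Rˣ} (hK : Nil k K) (hC : Nil k C)
    (hn : ∀ c ∈ C, ∀ a ∈ K, c * a * c⁻¹ ∈ K) : Nil k (K ⊔ C) := by
  obtain ⟨m, hm⟩ := hK
  obtain ⟨n, hn'⟩ := hC
  set a := augment (k := k) K with ha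
  set b := augment (k := k) C with hb
  set J : Submodule k R := a + a * b with hJ
  have haa : a * a ≤ a := augment_mul_le K
  have hbb : b * b ≤ b := augment_mul_le C
  have hba : b * a ≤ J := by
    rw [ha, hb]
    unfold augment
    rw [span_mul_span, span_le]
    rintro _ ⟨_, ⟨c, hc, rfl⟩, _, ⟨x, hx, rfl⟩, rfl⟩
    show ((c : R) - 1) * ((x : R) - 1) ∈ J
    have h1 : ((c * x * c⁻¹ : Rˣ) : R) * (c : R) = (c : R) * x := by
      rw [← Units.val_mul, ← Units.val_mul, inv_mul_cancel_right]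
    rw [show ((c : R) - 1) * ((x : R) - 1) = ((((c * x * c⁻¹ : Rˣ) : R) - 1) - ((x : R) - 1)) +
      (((c * x * c⁻¹ : Rˣ) : R) - 1) * ((c : R) - 1) by
        simp only [sub_mul, mul_sub, one_mul, mul_one, h1]; abel]
    exact add_mem (mem_sup_left (sub_mem (sub_one_mem_augment (hn c hc x hx)) (sub_one_mem_augment hx)))
      (mem_sup_right (mul_mem_mul (sub_one_mem_augment (hn c hc x hx)) (sub_one_mem_augment hc)))
  have hbJ : b * J ≤ J := by
    rw [hJ, mul_add]
    refine sup_le hba ?_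
    rw [← mul_assoc]
    refine (mul_le_mul' hba le_rfl).trans ?_
    rw [hJ, add_mul]
    exact sup_le le_sup_right (le_sup_of_le_right (by rw [mul_assoc]; exact mul_le_mul' le_rfl hbb))
  have hJb : J * b ≤ J := by
    rw [hJ, add_mul]
    exact sup_le le_sup_right (le_sup_of_le_right (by rw [mul_assoc]; exact mul_le_mul' le_rfl hbb))
  have haJ : a * J ≤ J := by
    rw [hJ, mul_add]
    exact sup_le (le_sup_of_le_left haa) (le_sup_of_le_right (by rw [← mul_assoc]; exact mul_le_mul' haa le_rfl))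
  have hJJ : J * J ≤ J := by
    conv_lhs => arg 1; rw [hJ]
    rw [add_mul]
    exact sup_le haJ (by rw [mul_assoc]; exact (mul_le_mul' le_rfl hbJ).trans haJ)
  have hJpow : ∀ i, J ^ i * (1 + b) ≤ a ^ i * (1 + b) := by
    intro i
    induction i with
    | zero => simp
    | succ i ih =>
      rw [pow_succ, pow_succ, mul_assoc, mul_assoc]
      have e : J * (1 + b) ≤ (1 + b) * (a * (1 + b)) := by
        rw [hJ, mul_add, mul_one]
        refine sup_le ?_ ?_
        · calc a + a * b = a * (1 + b) := by rw [mul_add, mul_one]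
            _ ≤ (1 + b) * (a * (1 + b)) := by
              nth_rewrite 1 [← one_mul (a * (1 + b))]
              exact mul_le_mul' le_sup_left le_rfl
        · refine hJb.trans ?_
          rw [hJ]
          calc a + a * b = a * (1 + b) := by rw [mul_add, mul_one]
            _ ≤ (1 + b) * (a * (1 + b)) := by
              nth_rewrite 1 [← one_mul (a * (1 + b))]
              exact mul_le_mul' le_sup_left le_rfl
      refine (mul_le_mul' le_rfl e).trans ?_
      rw [← mul_assoc]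
      exact mul_le_mul' ih le_rfl |>.trans (le_of_eq (by rw [mul_assoc])) |>.trans
        (mul_le_mul' le_rfl (by
          rw [← mul_assoc, add_mul, one_mul, add_mul]
          refine sup_le le_rfl ((mul_le_mul' hba le_rfl).trans ?_)
          rw [mul_add, mul_one]
          refine (sup_le le_rfl hJb).trans ?_
          rw [hJ, mul_add, mul_one]))
  have hJm : J ^ m = ⊥ := by
    refine eq_bot_iff.mpr ?_
    calc J ^ m ≤ J ^ m * (1 + b) := le_mul_of_one_le_right' le_sup_left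
      _ ≤ a ^ m * (1 + b) := hJpow m
      _ = ⊥ := by rw [hm, bot_mul]
  set L : Submodule k R := b + J with hL
  have hLL : L * L ≤ L := by
    rw [hL, add_mul, mul_add b b J, mul_add J b J]
    exact sup_le (sup_le (le_sup_of_le_left hbb) (le_sup_of_le_right hbJ))
      (sup_le (le_sup_of_le_right hJb) (le_sup_of_le_right hJJ))
  have hle : augment (k := k) (K ⊔ C) ≤ L := by
    rw [← le_groupOf (hL := hLL)]
    exact _root_.sup_le (le_groupOf.mpr (le_sup_of_le_right le_sup_left)) (le_groupOf.mpr le_sup_left)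
  have hLpow : ∀ i, L ^ i ≤ b ^ i + J := by
    intro i
    induction i with
    | zero => simp
    | succ i ih =>
      rw [pow_succ]
      refine (mul_le_mul' ih le_rfl).trans ?_
      rw [hL, add_mul, mul_add (b ^ i) b J, mul_add J b J, pow_succ]
      refine sup_le (sup_le le_sup_left (le_sup_of_le_right ?_)) (sup_le (le_sup_of_le_right hJb) (le_sup_of_le_right hJJ))
      clear ih
      induction i with
      | zero => simp
      | succ i ih => rw [pow_succ, mul_assoc]; exact (mul_le_mul' le_rfl hbJ).trans ih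
  refine ⟨n * m, pow_eq_bot_of_le hle ?_⟩
  rw [pow_mul]
  refine pow_eq_bot_of_le ?_ hJm
  refine (hLpow n).trans ?_
  rw [hn']
  exact sup_le bot_le le_rfl

omit [FiniteDimensional k R] in
theorem pow_succ_mul_le {L : Submodule k R} (h : L * L ≤ L) (i : ℕ) : L ^ (i + 1) * L ≤ L ^ (i + 1) := by
  rw [pow_succ, mul_assoc]
  exact mul_le_mul' le_rfl h

omit [FiniteDimensional k R] in
theorem mul_pow_succ_le {L : Submodule k R} (h : L * L ≤ L) (i : ℕ) : L * L ^ (i + 1) ≤ L ^ (i + 1) := by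
  rw [pow_succ', ← mul_assoc]
  exact mul_le_mul' h le_rfl

omit [FiniteDimensional k R] in
theorem pow_succ_le {L : Submodule k R} (h : L * L ≤ L) (i : ℕ) : L ^ (i + 1) ≤ L := by
  induction i with
  | zero => simp
  | succ i ih => rw [pow_succ]; exact (mul_le_mul' ih le_rfl).trans h

/-- The main theorem. -/
theorem nil_iSup {W : Set (Subgroup Rˣ)}
    (hWW : ∀ A ∈ W, ∀ B ∈ W, Nil k (A ⊔ B))
    (hWc : ∀ A ∈ W, ∀ B ∈ W, ∀ g ∈ B, Cfsg.conjBy A g ∈ W) : Nil k (⨆ A ∈ W, A) := by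
  classical
  let J : Set (Subgroup Rˣ) → Subgroup Rˣ := fun Y => ⨆ A ∈ Y, A
  let d : Set (Subgroup Rˣ) → ℕ := fun Y => Module.finrank k (augment (k := k) (J Y))
  let cl : Set (Subgroup Rˣ) → Set (Subgroup Rˣ) := fun Y =>
    {A | A ∈ W ∧ A ≤ groupOf (augment (k := k) (J Y)) (augment_mul_le _)}
  have le_J : ∀ {Y : Set (Subgroup Rˣ)} {A : Subgroup Rˣ}, A ∈ Y → A ≤ J Y := fun h => le_iSup₂_of_le _ h le_rfl
  have J_mono : ∀ {Y Z : Set (Subgroup Rˣ)}, Y ⊆ Z → J Y ≤ J Z := fun h => iSup₂_le fun A hA => le_J (h hA)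
  have aug_mono : ∀ {H K : Subgroup Rˣ}, H ≤ K → augment (k := k) H ≤ augment (k := k) K :=
    fun h => augment_le.mpr fun x hx => sub_one_mem_augment (h hx)
  have sub_cl : ∀ {Y : Set (Subgroup Rˣ)}, Y ⊆ W → Y ⊆ cl Y := fun hY A hA =>
    ⟨hY hA, le_groupOf.mpr (aug_mono (le_J hA))⟩
  have cl_nil : ∀ {Y : Set (Subgroup Rˣ)}, Nil k (J Y) → Nil k (J (cl Y)) := fun {Y} hY => by
    obtain ⟨n, hn⟩ := hY
    exact ⟨n, pow_eq_bot_of_le (le_groupOf.mp (iSup₂_le fun A hA => hA.2)) hn⟩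
  -- maximal sets
  let Max : Set (Subgroup Rˣ) → Prop := fun Y => Y ⊆ W ∧ Nil k (J Y) ∧
    ∀ Z, Y ⊆ Z → Z ⊆ W → Nil k (J Z) → Z = Y
  have d_le : ∀ Y, d Y ≤ Module.finrank k R := fun Y => Submodule.finrank_le _
  have exMax : ∀ Y, Y ⊆ W → Nil k (J Y) → ∃ Z, Y ⊆ Z ∧ Max Z := by
    intro Y hY hYn
    let S : Set ℕ := {i | ∃ Z, Y ⊆ Z ∧ Z ⊆ W ∧ Nil k (J Z) ∧ d Z = i}
    have hne : S.Nonempty := ⟨_, Y, subset_rfl, hY, hYn, rfl⟩
    have hbdd : BddAbove S := ⟨_, fun i ⟨Z, _, _, _, e⟩ => e ▸ d_le Z⟩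
    obtain ⟨Z, hYZ, hZ, hZn, hd⟩ := Nat.sSup_mem hne hbdd
    refine ⟨cl Z, hYZ.trans (sub_cl hZ), fun A hA => hA.1, cl_nil hZn, fun Z' hZZ' hZ' hZ'n => ?_⟩
    refine Set.Subset.antisymm (fun A hA => ⟨hZ' hA, ?_⟩) hZZ'
    have hsub : Z ⊆ Z' := (sub_cl hZ).trans hZZ'
    have : augment (k := k) (J Z) = augment (k := k) (J Z') :=
      Submodule.eq_of_le_of_finrank_le (aug_mono (J_mono hsub))
        (by
          show d Z' ≤ d Z
          rw [hd]
          exact le_csSup hbdd ⟨Z', hYZ.trans hsub, hZ', hZ'n, rfl⟩)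
    rw [le_groupOf, this]
    exact aug_mono (le_J hA)
  have max_cl : ∀ {Y}, Max Y → cl Y = Y := fun {Y} h =>
    h.2.2 _ (sub_cl h.1) (fun A hA => hA.1) (cl_nil h.2.1)
  by_contra hW
  let T : Set ℕ := {i | ∃ Y₁ Y₂, Max Y₁ ∧ Max Y₂ ∧ Y₁ ≠ Y₂ ∧ d (Y₁ ∩ Y₂) = i}
  have hTne : T.Nonempty := by
    have h0 : Nil k (J ∅) := ⟨1, by
      rw [pow_one, eq_bot_iff, augment_le]
      intro h hh
      simp [J] at hh
      simp [hh]⟩
    obtain ⟨Y₁, -, hY₁⟩ := exMax ∅ (Set.empty_subset _) h0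
    obtain ⟨A, hA, hAY⟩ : ∃ A ∈ W, A ∉ Y₁ := by
      by_contra h
      push Not at h
      exact hW ((hY₁.2.1).mono (J_mono h))
    obtain ⟨Y₂, hAY₂, hY₂⟩ := exMax {A} (Set.singleton_subset_iff.mpr hA) ((hWW A hA A hA).mono
      (iSup₂_le fun B hB => by rw [Set.mem_singleton_iff] at hB; rw [hB]; exact le_sup_left))
    exact ⟨_, Y₁, Y₂, hY₁, hY₂, fun e => hAY (e ▸ hAY₂ rfl), rfl⟩
  have hTb : BddAbove T := ⟨_, fun i ⟨_, _, _, _, _, e⟩ => e ▸ d_le _⟩
  obtain ⟨Y₁, Y₂, h1, h2, hne, hd⟩ := Nat.sSup_mem hTne hTb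
  set Y₀ := Y₁ ∩ Y₂ with hY₀
  have hY₀W : Y₀ ⊆ W := fun A hA => h1.1 hA.1
  have hcl₀ : cl Y₀ ⊆ Y₀ := fun A hA => by
    constructor
    · rw [← max_cl h1]; exact ⟨hA.1, hA.2.trans (le_groupOf.mpr (le_trans (le_groupOf.mp le_rfl) (aug_mono (J_mono Set.inter_subset_left))))⟩
    · rw [← max_cl h2]; exact ⟨hA.1, hA.2.trans (le_groupOf.mpr (le_trans (le_groupOf.mp le_rfl) (aug_mono (J_mono Set.inter_subset_right))))⟩
  -- a member of a maximal set outside `Y₀` normalizes `J Y₀`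
  have key : ∀ Y, Max Y → Y₀ ⊆ Y → Y₀ ≠ Y →
      ∃ A ∈ Y, A ∉ Y₀ ∧ ∀ a ∈ A, ∀ x ∈ J Y₀, a * x * a⁻¹ ∈ J Y₀ := by
    intro Y hY hsub hneY
    obtain ⟨n, hn⟩ := hY.2.1
    set L := augment (k := k) (J Y) with hL
    have hLL : L * L ≤ L := augment_mul_le _
    have hpow : ∀ i, L ^ (i + 1) ≤ L := pow_succ_le hLL
    have hmul : ∀ i, L ^ (i + 1) * L ^ (i + 1) ≤ L ^ (i + 1) := fun i =>
      (mul_le_mul' le_rfl (hpow i)).trans (pow_succ_mul_le hLL i)
    let P : ℕ → Subgroup Rˣ := fun i => J Y₀ ⊔ groupOf (L ^ (i + 1)) (hmul i)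
    have hJY : ∀ A, A ∈ W → A ≤ groupOf L hLL → A ∈ Y := fun A hA h => by
      rw [← max_cl hY]; exact ⟨hA, h⟩
    obtain ⟨A₀, hA₀, hA₀'⟩ : ∃ A ∈ Y, A ∉ Y₀ := by
      by_contra h
      push Not at h
      exact hneY (Set.Subset.antisymm hsub h)
    have hP0 : A₀ ≤ P 0 := le_sup_of_le_right (le_groupOf.mpr (by rw [pow_one]; exact aug_mono (le_J hA₀)))
    have hPn : ∀ A ∈ W, A ≤ P n → A ∈ Y₀ := fun A hA h => by
      refine hcl₀ ⟨hA, h.trans (_root_.sup_le (le_groupOf.mpr le_rfl) (fun g hg => ?_))⟩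
      have hg' : (g : R) - 1 ∈ L ^ (n + 1) := hg
      rw [pow_succ, hn, bot_mul, mem_bot] at hg'
      show (g : R) - 1 ∈ augment (k := k) (J Y₀)
      rw [hg']; exact zero_mem _
    have hex : ∃ i, ∀ A ∈ Y, A ≤ P i → A ∈ Y₀ := ⟨n, fun A hA h => hPn A (hY.1 hA) h⟩
    obtain ⟨i, hi⟩ : ∃ i, Nat.find hex = i + 1 :=
      Nat.exists_eq_add_one_of_ne_zero fun h0 => hA₀' (Nat.find_spec hex A₀ hA₀ (h0 ▸ hP0))
    have hmin := Nat.find_min hex (show i < Nat.find hex by omega)
    push Not at hmin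
    obtain ⟨A, hA, hAP, hA'⟩ := hmin
    refine ⟨A, hA, hA', ?_⟩
    have hspec := Nat.find_spec hex
    rw [hi] at hspec
    have hPleY : ∀ i, P i ≤ groupOf L hLL := fun i =>
      _root_.sup_le (le_groupOf.mpr (aug_mono (J_mono hsub))) (fun g hg => hpow i hg)
    have hnorm : ∀ u ∈ P i, ∀ x ∈ P (i + 1), u * x * u⁻¹ ∈ P (i + 1) := by
      have hcomm : ∀ g ∈ groupOf (L ^ (i + 1)) (hmul i), ∀ h ∈ groupOf L hLL,
          g * h * g⁻¹ * h⁻¹ ∈ groupOf (L ^ (i + 2)) (hmul (i + 1)) := by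
        intro g hg h hh
        show ((g * h * g⁻¹ * h⁻¹ : Rˣ) : R) - 1 ∈ L ^ (i + 2)
        have hxy : (g : R) * h - (h : R) * g ∈ L ^ (i + 2) := by
          rw [show (g : R) * h - (h : R) * g = ((g : R) - 1) * ((h : R) - 1) - ((h : R) - 1) * ((g : R) - 1) by
            simp only [sub_mul, mul_sub, one_mul, mul_one]; abel]
          exact sub_mem (by rw [pow_succ]; exact mul_mem_mul hg hh) (by rw [pow_succ']; exact mul_mem_mul hh hg)
        have hz : ((g⁻¹ * h⁻¹ : Rˣ) : R) - 1 ∈ L :=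
          (groupOf L hLL).mul_mem ((groupOf L hLL).inv_mem (hpow i hg)) ((groupOf L hLL).inv_mem hh)
        have e : ((g * h * g⁻¹ * h⁻¹ : Rˣ) : R) - 1 = ((g : R) * h - (h : R) * g) +
            ((g : R) * h - (h : R) * g) * (((g⁻¹ * h⁻¹ : Rˣ) : R) - 1) := by
          rw [mul_sub, mul_one, add_sub_cancel, sub_mul, ← Units.val_mul, ← Units.val_mul, ← Units.val_mul,
            ← Units.val_mul]
          simp [mul_assoc]
        rw [e]
        exact add_mem hxy (pow_succ_mul_le hLL (i + 1) (mul_mem_mul hxy hz))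
      have hU : ∀ g ∈ groupOf L hLL, ∀ x ∈ groupOf (L ^ (i + 2)) (hmul (i + 1)),
          g * x * g⁻¹ ∈ groupOf (L ^ (i + 2)) (hmul (i + 1)) := by
        intro g hg x hx
        show ((g * x * g⁻¹ : Rˣ) : R) - 1 ∈ L ^ (i + 2)
        have e : ((g * x * g⁻¹ : Rˣ) : R) - 1 =
            (((x : R) - 1) + ((g : R) - 1) * ((x : R) - 1)) * (1 + (((g⁻¹ : Rˣ) : R) - 1)) := by
          rw [add_sub_cancel]
          simp only [Units.val_mul, sub_mul, mul_sub, one_mul, mul_one, add_mul]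
          rw [Units.mul_inv]
          abel
        rw [e, mul_add, mul_one]
        have h1 : ((x : R) - 1) + ((g : R) - 1) * ((x : R) - 1) ∈ L ^ (i + 2) :=
          add_mem hx (mul_pow_succ_le hLL (i + 1) (mul_mem_mul hg hx))
        exact add_mem h1 (pow_succ_mul_le hLL (i + 1) (mul_mem_mul h1 ((groupOf L hLL).inv_mem hg)))
      have hN : P i ≤ Subgroup.normalizer (P (i + 1) : Set Rˣ) := by
        refine _root_.sup_le (Subgroup.le_normalizer_iff.mpr fun u hu x hx => ?_)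
          (Subgroup.le_normalizer_iff.mpr fun g hg x hx => ?_)
        · have : P (i + 1) ≤ (P (i + 1)).comap (MulAut.conj u).toMonoidHom :=
            _root_.sup_le (fun y hy => Subgroup.mem_sup_left (mul_mem (mul_mem hu hy) (inv_mem hu)))
              (fun y hy => Subgroup.mem_sup_right (hU u (hPleY i (Subgroup.mem_sup_left hu)) y hy))
          exact this hx
        · have : P (i + 1) ≤ (P (i + 1)).comap (MulAut.conj g).toMonoidHom :=
            _root_.sup_le (fun y hy => by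
                show g * y * g⁻¹ ∈ P (i + 1)
                rw [← inv_mul_cancel_right (g * y * g⁻¹) y]
                exact mul_mem (Subgroup.mem_sup_right (hcomm g hg y (hPleY (i + 1) (Subgroup.mem_sup_left hy))))
                  (Subgroup.mem_sup_left hy))
              (fun y hy => Subgroup.mem_sup_right (hU g (hPleY i (Subgroup.mem_sup_right hg)) y hy))
          exact this hx
      exact fun u hu x hx => Subgroup.le_normalizer_iff.mp hN u hu x hx
    intro a ha x hx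
    have : J Y₀ ≤ (J Y₀).comap (MulAut.conj a).toMonoidHom := by
      refine iSup₂_le fun C hC => ?_
      have hCW := hWc C (hY₀W hC) A (hY.1 hA) a ha
      have hCP : Cfsg.conjBy C a ≤ P (i + 1) := by
        rintro _ ⟨z, hz, rfl⟩
        exact hnorm a (hAP ha) z (Subgroup.mem_sup_left (le_J hC hz))
      exact fun c hc => le_J (hspec _ (hJY _ hCW (hCP.trans (hPleY _))) hCP) ⟨c, hc, rfl⟩
    exact this hx
  have hne1 : Y₀ ≠ Y₁ := fun e => hne (h1.2.2 Y₂ (by rw [← e]; exact Set.inter_subset_right) h2.1 h2.2.1).symm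
  have hne2 : Y₀ ≠ Y₂ := fun e => hne (h2.2.2 Y₁ (by rw [← e]; exact Set.inter_subset_left) h1.1 h1.2.1)
  obtain ⟨A, hA, hA', hAn⟩ := key Y₁ h1 Set.inter_subset_left hne1
  obtain ⟨B, hB, hB', hBn⟩ := key Y₂ h2 Set.inter_subset_right hne2
  have hAB : ∀ c ∈ A ⊔ B, ∀ x ∈ J Y₀, c * x * c⁻¹ ∈ J Y₀ :=
    Subgroup.le_normalizer_iff.mp (_root_.sup_le (Subgroup.le_normalizer_iff.mpr hAn)
      (Subgroup.le_normalizer_iff.mpr hBn))
  have hnil : Nil k (J Y₀ ⊔ (A ⊔ B)) :=
    nil_sup ((h1.2.1).mono (J_mono Set.inter_subset_left)) (hWW A (h1.1 hA) B (h2.1 hB)) hAB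
  obtain ⟨Y₃, hsub, h3⟩ := exMax (Y₀ ∪ {A, B})
    (Set.union_subset hY₀W (by intro C hC; rcases hC with rfl | rfl; exacts [h1.1 hA, h2.1 hB]))
    (hnil.mono (iSup₂_le fun C hC => by
      rcases hC with hC | rfl | rfl
      · exact le_sup_of_le_left (le_J hC)
      · exact le_sup_of_le_right le_sup_left
      · exact le_sup_of_le_right le_sup_right))
  have hY31 : Y₃ = Y₁ := by
    by_contra hne3
    have hstrict : Y₀ ⊆ Y₁ ∩ Y₃ := fun C hC => ⟨hC.1, hsub (Or.inl hC)⟩
    have hle : d (Y₁ ∩ Y₃) ≤ d Y₀ := by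
      rw [hd]
      exact le_csSup hTb ⟨Y₁, Y₃, h1, h3, fun e => hne3 e.symm, rfl⟩
    have heq : augment (k := k) (J Y₀) = augment (k := k) (J (Y₁ ∩ Y₃)) :=
      Submodule.eq_of_le_of_finrank_le (aug_mono (J_mono hstrict)) hle
    refine hA' (hcl₀ ⟨h1.1 hA, ?_⟩)
    rw [le_groupOf, heq]
    exact aug_mono (le_J ⟨hA, hsub (Or.inr (Or.inl rfl))⟩)
  exact hB' ⟨hY31 ▸ hsub (Or.inr (Or.inr rfl)), hB⟩

end Cfsg.Agent.RootSubgroups.UnipotentFamily
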