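import Cfsg.Agent.Lib.RootSubgroups.Graph

/-!
Two commutator steps: the group generated by a chain `A`, `B`, `C`.
-/

set_option linter.all false
set_option autoImplicit false

namespace Cfsg.Agent.RootSubgroups.Chain

open Cfsg
open Cfsg.Agent.ThreeTransp
open Cfsg.Agent.ThreeTransp.RankOne
open Cfsg.Agent.RootSubgroups.Commutator
open scoped commutatorElement

variable {G : Type*} [Group G] {S : Set (Subgroup G)}

/-- The elements commuting with `X` modulo `M`. -/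
def relCent (M X : Subgroup G) : Subgroup G where
  carrier := {x | x ∈ Subgroup.normalizer (M : Set G) ∧ ∀ y ∈ X, x * y * x⁻¹ * y⁻¹ ∈ M}
  one_mem' := ⟨one_mem _, fun y _ => by simp⟩
  mul_mem' := by
    rintro x x' ⟨hx, hx'⟩ ⟨hy, hy'⟩
    refine ⟨mul_mem hx hy, fun y hyX => ?_⟩
    rw [show x * x' * y * (x * x')⁻¹ * y⁻¹ = (x * (x' * y * x'⁻¹ * y⁻¹) * x⁻¹) * (x * y * x⁻¹ * y⁻¹) by
      simp [mul_assoc]]
    exact mul_mem ((Subgroup.mem_normalizer_iff.1 hx _).1 (hy' y hyX)) (hx' y hyX)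
  inv_mem' := by
    rintro x ⟨hx, hx'⟩
    refine ⟨inv_mem hx, fun y hyX => ?_⟩
    rw [show x⁻¹ * y * x⁻¹⁻¹ * y⁻¹ = x⁻¹ * (x * y * x⁻¹ * y⁻¹)⁻¹ * x by simp [mul_assoc]]
    exact (Subgroup.mem_normalizer_iff''.1 hx _).1 (inv_mem (hx' y hyX))

theorem le_relCent {M X P : Subgroup G} (h : P ≤ relCent M X) : ⁅P, X⁆ ≤ M :=
  Subgroup.commutator_le.2 fun x hx y hy => (h hx).2 y hy

theorem sup_comm_le {P Q X M : Subgroup G} (hn : P ⊔ Q ≤ Subgroup.normalizer (M : Set G))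
    (hP : ⁅P, X⁆ ≤ M) (hQ : ⁅Q, X⁆ ≤ M) : ⁅P ⊔ Q, X⁆ ≤ M :=
  le_relCent (sup_le
    (fun x hx => ⟨hn (Subgroup.mem_sup_left hx), fun y hy => hP (Subgroup.commutator_mem_commutator hx hy)⟩)
    (fun x hx => ⟨hn (Subgroup.mem_sup_right hx), fun y hy => hQ (Subgroup.commutator_mem_commutator hx hy)⟩))

theorem comm_sup_le {P Q X M : Subgroup G} (hn : P ⊔ Q ≤ Subgroup.normalizer (M : Set G))
    (hP : ⁅X, P⁆ ≤ M) (hQ : ⁅X, Q⁆ ≤ M) : ⁅X, P ⊔ Q⁆ ≤ M := by
  rw [Subgroup.commutator_comm]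
  exact sup_comm_le hn ((Subgroup.commutator_comm P X).le.trans hP) ((Subgroup.commutator_comm Q X).le.trans hQ)

theorem central_normalizer {M X : Subgroup G} (h : ⁅M, X⁆ = ⊥) : X ≤ Subgroup.normalizer (M : Set G) :=
  fun x hx => mem_normalizer_of_centralizes fun m hm => (RankOne.commutator_eq_bot_iff.1 h m hm x hx).symm

theorem bot_sup {P Q X : Subgroup G} (hP : ⁅P, X⁆ = ⊥) (hQ : ⁅Q, X⁆ = ⊥) : ⁅P ⊔ Q, X⁆ = ⊥ := by
  rw [Subgroup.commutator_eq_bot_iff_le_centralizer] at hP hQ ⊢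
  exact sup_le hP hQ

theorem self_bot (hS : IsRootSubgroupSet S) {A : Subgroup G} (hA : A ∈ S) : ⁅A, A⁆ = ⊥ :=
  RankOne.commutator_eq_bot_iff.2 (RootSets.comm_self hS hA)

/-- Commuting `A`, `C` with commutator central in `A ⊔ C`: class at most two. -/
theorem pair_comm_le {A C K : Subgroup G} (hAA : ⁅A, A⁆ = ⊥) (hCC : ⁅C, C⁆ = ⊥) (hAC : ⁅A, C⁆ ≤ K)
    (hn : A ⊔ C ≤ Subgroup.normalizer (K : Set G)) : ⁅A ⊔ C, A ⊔ C⁆ ≤ K :=
  sup_comm_le hn (comm_sup_le hn (hAA.le.trans bot_le) hAC)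
    (comm_sup_le hn ((Subgroup.commutator_comm C A).le.trans hAC) (hCC.le.trans bot_le))

theorem main (hS : IsRootSubgroupSet S) {A B C : Subgroup G} (hA : A ∈ S) (hB : B ∈ S) (hC : C ∈ S)
    (hAB : ⁅A, B⁆ ∈ S) (hBC : ⁅B, C⁆ ∈ S) (hAC : C ∈ commutingPartners S A) {b : G} (hb : b ∈ B) (hb1 : b ≠ 1) :
    ((IsMulCommutative ↥(A ⊔ conjBy C b⁻¹) ∧ IsMulCommutative ↥(conjBy A b⁻¹ ⊔ C)) ∨
      ((¬ IsMulCommutative ↥(A ⊔ conjBy C b⁻¹) ∧
          ⁅⁅A ⊔ conjBy C b⁻¹, A ⊔ conjBy C b⁻¹⁆, A ⊔ conjBy C b⁻¹⁆ = ⊥) ∧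
        (¬ IsMulCommutative ↥(conjBy A b⁻¹ ⊔ C) ∧
          ⁅⁅conjBy A b⁻¹ ⊔ C, conjBy A b⁻¹ ⊔ C⁆, conjBy A b⁻¹ ⊔ C⁆ = ⊥))) ∧
    ⁅A ⊔ conjBy C b⁻¹, conjBy A b⁻¹ ⊔ C⁆ = ⊥ ∧
    (∀ r ∈ A ⊔ B ⊔ C, conjBy ((A ⊔ conjBy C b⁻¹) ⊔ (conjBy A b⁻¹ ⊔ C)) r =
      (A ⊔ conjBy C b⁻¹) ⊔ (conjBy A b⁻¹ ⊔ C)) ∧
    ((A ⊔ conjBy C b⁻¹) ⊔ (conjBy A b⁻¹ ⊔ C)) ⊔ B = A ⊔ B ⊔ C ∧
    Group.IsNilpotent ↥(A ⊔ B ⊔ C) := by
  have h1 : RootCommutatorCase S A B := case_of_mem hS hA hB hAB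
  have h2 : RootCommutatorCase S C B := case_of_mem hS hC hB (by rwa [Subgroup.commutator_comm])
  have hA' := hS.conj_mem A hA b⁻¹
  have hC' := hS.conj_mem C hC b⁻¹
  have c0 : ⁅A, C⁆ = ⊥ := hAC.2.2
  have hbi : b⁻¹ ∈ B := inv_mem hb
  set A' := conjBy A b⁻¹ with hA'def
  set C' := conjBy C b⁻¹ with hC'def
  set E := ⁅A, B⁆ with hEdef
  set F := ⁅C, B⁆ with hFdef
  have c1 : ⁅A, A'⁆ = ⊥ := by
    rw [Subgroup.commutator_comm]; exact RootSets.case_conj_commute hS hA (case_symm h1) hbi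
  have c2 : ⁅C', C⁆ = ⊥ := RootSets.case_conj_commute hS hC (case_symm h2) hbi
  have c3 : ⁅A', C'⁆ = ⊥ := by
    rw [hA'def, hC'def]
    show ⁅A.map _, C.map _⁆ = ⊥
    rw [← Subgroup.map_commutator, c0, Subgroup.map_bot]
  have hXY : ⁅A ⊔ C', A' ⊔ C⁆ = ⊥ := by
    refine bot_sup ?_ ?_ <;> rw [Subgroup.commutator_comm] <;> refine bot_sup ?_ ?_
    · rw [Subgroup.commutator_comm]; exact c1
    · rw [Subgroup.commutator_comm]; exact c0
    · exact c3
    · rw [Subgroup.commutator_comm]; exact c2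
  -- spans
  have spanGen : ∀ {P : Subgroup G}, P ∈ S → RootCommutatorCase S P B →
      P ⊔ conjBy P b⁻¹ = P ⊔ ⁅P, B⁆ := by
    intro P hP hc
    refine le_antisymm (sup_le le_sup_left (Commutator.conj_le hS hc hbi)) (sup_le le_sup_left fun e he => ?_)
    obtain ⟨p, hp, rfl⟩ := exists_left hc hbi (inv_ne_one.2 hb1) he
    rw [show p * b⁻¹ * p⁻¹ * b⁻¹⁻¹ = p * (b⁻¹ * p⁻¹ * b⁻¹⁻¹) by simp [mul_assoc]]
    exact mul_mem (Subgroup.mem_sup_left hp) (Subgroup.mem_sup_right (conj_mem_conjBy (inv_mem hp)))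
  have sA : A ⊔ A' = A ⊔ E := spanGen hA h1
  have sC : C ⊔ C' = C ⊔ F := spanGen hC h2
  have cover : ∀ {P : Subgroup G}, P ∈ S → RootCommutatorCase S P B → Graph.Covered S (P ⊔ ⁅P, B⁆) := by
    intro P hP hc x hx _
    obtain ⟨a, ha, e, he, rfl⟩ := mem_sup hS hc hP hx
    by_cases ha1 : a = 1
    · exact ⟨_, hc.1, by simpa [ha1] using he⟩
    · obtain ⟨y, hy, hm⟩ := mem_conj hc ha ha1 he
      exact ⟨_, hS.conj_mem P hP y, hm⟩
  have notR1 : ¬ IsRankOnePair C' A := fun hp =>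
    Graph.not_commute_covered hS hC' hC hA hp c2 ((cover hC h2).mono (by rw [← sC, sup_comm])) c0
  have notR2 : ¬ IsRankOnePair A' C := fun hp =>
    Graph.not_commute_covered hS hA' hA hC hp (by rw [Subgroup.commutator_comm]; exact c1)
      ((cover hA h1).mono (by rw [← sA, sup_comm])) (by rw [Subgroup.commutator_comm]; exact c0)
  have mulComm : ∀ {P Q : Subgroup G}, P ∈ S → Q ∈ S → (IsMulCommutative ↥(P ⊔ Q) ↔ ⁅P, Q⁆ = ⊥) := by
    intro P Q hP hQ
    constructor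
    · intro hc
      exact RankOne.commutator_eq_bot_iff.2 fun x hx y hy =>
        congrArg Subtype.val (mul_comm' (⟨x, Subgroup.mem_sup_left hx⟩ : ↥(P ⊔ Q)) ⟨y, Subgroup.mem_sup_right hy⟩)
    · intro h
      have h' : ⁅P ⊔ Q, P ⊔ Q⁆ = ⊥ := by
        refine bot_sup ?_ ?_ <;> rw [Subgroup.commutator_comm] <;> refine bot_sup ?_ ?_
        · exact self_bot hS hP
        · rw [Subgroup.commutator_comm]; exact h
        · exact h
        · exact self_bot hS hQ
      exact ⟨⟨fun x y => Subtype.ext (RankOne.commutator_eq_bot_iff.1 h' x x.2 y y.2)⟩⟩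
  -- `X` abelian iff `Y` abelian
  have hiff : ⁅A, C'⁆ = ⊥ ↔ ⁅A', C⁆ = ⊥ := by
    constructor <;> intro h
    · have hF : ⁅A, C ⊔ F⁆ = ⊥ := by
        rw [← sC, Subgroup.commutator_comm]
        exact bot_sup (by rw [Subgroup.commutator_comm]; exact c0) (by rw [Subgroup.commutator_comm]; exact h)
      have hCb : ⁅A, conjBy C b⁆ = ⊥ :=
        le_bot_iff.1 ((Subgroup.commutator_mono le_rfl (Commutator.conj_le hS h2 hb)).trans hF.le)
      have e : conjBy (conjBy C b) b⁻¹ = C := by rw [conjBy_conjBy, inv_mul_cancel, conjBy_one]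
      rw [← e, hA'def]
      show ⁅A.map _, (conjBy C b).map _⁆ = ⊥
      rw [← Subgroup.map_commutator, hCb, Subgroup.map_bot]
    · have hE : ⁅A ⊔ E, C⁆ = ⊥ := by rw [← sA]; exact bot_sup c0 h
      have hAb : ⁅conjBy A b, C⁆ = ⊥ :=
        le_bot_iff.1 ((Subgroup.commutator_mono (Commutator.conj_le hS h1 hb) le_rfl).trans hE.le)
      have e : conjBy (conjBy A b) b⁻¹ = A := by rw [conjBy_conjBy, inv_mul_cancel, conjBy_one]
      rw [← e, hC'def]
      show ⁅(conjBy A b).map _, C.map _⁆ = ⊥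
      rw [← Subgroup.map_commutator, hAb, Subgroup.map_bot]
  have case1 : ⁅A, C'⁆ ≠ ⊥ → RootCommutatorCase S A C' := fun hne =>
    ((hS.pair A hA C' hC').resolve_left hne).resolve_left fun hp => notR1 (RankOnePair_symm hp)
  have case2 : ⁅A', C⁆ ≠ ⊥ → RootCommutatorCase S A' C := fun hne =>
    ((hS.pair A' hA' C hC).resolve_left hne).resolve_left notR2
  have centr : ∀ {P Q : Subgroup G}, P ∈ S → Q ∈ S → (⁅P, Q⁆ = ⊥ ∨ RootCommutatorCase S P Q) →
      ⁅⁅P, Q⁆, P ⊔ Q⁆ = ⊥ ∧ ⁅P ⊔ Q, P ⊔ Q⁆ ≤ ⁅P, Q⁆ := by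
    intro P Q hP hQ h
    have hz : ⁅⁅P, Q⁆, P ⊔ Q⁆ = ⊥ := by
      rcases h with h | h
      · rw [h, Subgroup.commutator_bot_left]
      · exact RankOne.commutator_eq_bot_iff.2 h.2.1
    exact ⟨hz, pair_comm_le (self_bot hS hP) (self_bot hS hQ) le_rfl (central_normalizer hz)⟩
  obtain ⟨zX, lX⟩ := centr hA hC' ((em _).imp_right case1)
  obtain ⟨zY, lY⟩ := centr hA' hC ((em _).imp_right case2)
  refine ⟨?_, hXY, ?_⟩
  · by_cases h : ⁅A, C'⁆ = ⊥
    · exact Or.inl ⟨(mulComm hA hC').2 h, (mulComm hA' hC).2 (hiff.1 h)⟩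
    · exact Or.inr ⟨⟨fun hc => h ((mulComm hA hC').1 hc), le_bot_iff.1 ((Subgroup.commutator_mono lX le_rfl).trans zX.le)⟩,
        ⟨fun hc => h (hiff.2 ((mulComm hA' hC).1 hc)), le_bot_iff.1 ((Subgroup.commutator_mono lY le_rfl).trans zY.le)⟩⟩
  set W := (A ⊔ C') ⊔ (A' ⊔ C) with hW
  have hWeq : W = A ⊔ E ⊔ (C ⊔ F) := by
    rw [hW, ← sA, ← sC]; ac_rfl
  have hEW : E ≤ W := by rw [hWeq]; exact le_sup_of_le_left le_sup_right
  have hFW : F ≤ W := by rw [hWeq]; exact le_sup_of_le_right le_sup_right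
  have hAW : A ≤ W := le_sup_of_le_left le_sup_left
  have hCW : C ≤ W := le_sup_of_le_right le_sup_right
  have cEB : ⁅E, B⁆ = ⊥ := RankOne.commutator_eq_bot_iff.2 fun x hx y hy => h1.2.1 x hx y (Subgroup.mem_sup_right hy)
  have cFB : ⁅F, B⁆ = ⊥ := RankOne.commutator_eq_bot_iff.2 fun x hx y hy => h2.2.1 x hx y (Subgroup.mem_sup_right hy)
  have hBW : B ≤ Subgroup.normalizer (W : Set G) := Subgroup.le_normalizer_iff.2 fun y hy x hx => by
    have hle : W ≤ W.comap (MulAut.conj y).toMonoidHom := by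
      nth_rewrite 1 [hWeq]
      refine sup_le (sup_le ?_ ?_) (sup_le ?_ ?_)
      · intro z hz
        exact (sup_le hAW hEW) (Commutator.conj_le hS h1 hy (conj_mem_conjBy hz))
      · intro z hz
        show y * z * y⁻¹ ∈ W
        rw [← RankOne.commutator_eq_bot_iff.1 cEB z hz y hy, mul_inv_cancel_right]
        exact hEW hz
      · intro z hz
        exact (sup_le hCW hFW) (Commutator.conj_le hS h2 hy (conj_mem_conjBy hz))
      · intro z hz
        show y * z * y⁻¹ ∈ W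
        rw [← RankOne.commutator_eq_bot_iff.1 cFB z hz y hy, mul_inv_cancel_right]
        exact hFW hz
    exact hle hx
  have hR : W ⊔ B = A ⊔ B ⊔ C := by
    refine le_antisymm (sup_le ?_ (le_sup_of_le_left le_sup_right))
      (sup_le (sup_le (le_sup_of_le_left hAW) le_sup_right) (le_sup_of_le_left hCW))
    rw [hWeq]
    have hA0 : A ≤ A ⊔ B ⊔ C := le_sup_of_le_left le_sup_left
    have hB0 : B ≤ A ⊔ B ⊔ C := le_sup_of_le_left le_sup_right
    have hC0 : C ≤ A ⊔ B ⊔ C := le_sup_right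
    exact sup_le (sup_le hA0 ((Subgroup.commutator_mono hA0 hB0).trans (Subgroup.le_normalizer_iff_commutator_le_left.1 Subgroup.le_normalizer)))
      (sup_le hC0 ((Subgroup.commutator_mono hC0 hB0).trans (Subgroup.le_normalizer_iff_commutator_le_left.1 Subgroup.le_normalizer)))
  have hRW : A ⊔ B ⊔ C ≤ Subgroup.normalizer (W : Set G) := by
    rw [← hR]; exact sup_le Subgroup.le_normalizer hBW
  refine ⟨fun r hr => conjBy_eq_iff.2 (hRW hr), hR, ?_⟩
  rw [← hR]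
  -- `W` has class two
  set K := ⁅W, W⁆ with hK
  have hKle : K ≤ ⁅A, C'⁆ ⊔ ⁅A', C⁆ := by
    have hn : W ≤ Subgroup.normalizer ((⁅A, C'⁆ ⊔ ⁅A', C⁆ : Subgroup G) : Set G) := by
      refine central_normalizer (bot_sup ?_ ?_) <;> rw [hW, Subgroup.commutator_comm] <;> refine bot_sup ?_ ?_
      · rw [Subgroup.commutator_comm]; exact zX
      · refine le_bot_iff.1 ((Subgroup.commutator_mono le_rfl ?_).trans ((Subgroup.commutator_comm _ _).le.trans hXY.le))
        exact Subgroup.le_normalizer_iff_commutator_le_left.1 Subgroup.le_normalizer |> (Subgroup.commutator_mono le_sup_left le_sup_right).trans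
      · refine le_bot_iff.1 ((Subgroup.commutator_mono le_rfl ?_).trans hXY.le)
        exact Subgroup.le_normalizer_iff_commutator_le_left.1 Subgroup.le_normalizer |> (Subgroup.commutator_mono le_sup_left le_sup_right).trans
      · rw [Subgroup.commutator_comm]; exact zY
    exact sup_comm_le hn (comm_sup_le hn (lX.trans le_sup_left) (hXY.le.trans bot_le))
      (comm_sup_le hn ((Subgroup.commutator_comm _ _).le.trans (hXY.le.trans bot_le)) (lY.trans le_sup_right))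
  have zK : ⁅K, W⁆ = ⊥ := by
    refine le_bot_iff.1 ((Subgroup.commutator_mono hKle le_rfl).trans (le_of_eq ?_))
    refine bot_sup ?_ ?_ <;> rw [hW, Subgroup.commutator_comm] <;> refine bot_sup ?_ ?_
    · rw [Subgroup.commutator_comm]; exact zX
    · refine le_bot_iff.1 ((Subgroup.commutator_mono le_rfl ?_).trans ((Subgroup.commutator_comm _ _).le.trans hXY.le))
      exact Subgroup.le_normalizer_iff_commutator_le_left.1 Subgroup.le_normalizer |> (Subgroup.commutator_mono le_sup_left le_sup_right).trans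
    · refine le_bot_iff.1 ((Subgroup.commutator_mono le_rfl ?_).trans hXY.le)
      exact Subgroup.le_normalizer_iff_commutator_le_left.1 Subgroup.le_normalizer |> (Subgroup.commutator_mono le_sup_left le_sup_right).trans
    · rw [Subgroup.commutator_comm]; exact zY
  set Z := ⁅E, F⁆ with hZ
  have hZK : Z ≤ K := Subgroup.commutator_mono hEW hFW
  have hZn : W ⊔ B ≤ Subgroup.normalizer (Z : Set G) := by
    refine central_normalizer (M := Z) ?_
    rw [Subgroup.commutator_comm]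
    refine bot_sup ?_ ?_
    · rw [Subgroup.commutator_comm]; exact le_bot_iff.1 ((Subgroup.commutator_mono hZK le_rfl).trans zK.le)
    · refine Subgroup.commutator_eq_bot_iff_le_centralizer.2 (Subgroup.le_centralizer_iff.1 ?_)
      rw [hZ, Subgroup.commutator_le]
      intro e he f hf
      refine mul_mem (mul_mem (mul_mem ?_ ?_) (inv_mem ?_)) (inv_mem ?_)
      all_goals first
        | exact Subgroup.commutator_eq_bot_iff_le_centralizer.1 cEB he
        | exact Subgroup.commutator_eq_bot_iff_le_centralizer.1 cFB hf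
  have hKn : W ⊔ B ≤ Subgroup.normalizer (K : Set G) := by
    refine sup_le (central_normalizer zK) fun y hy => ?_
    rw [← conjBy_eq_iff, hK]
    show (⁅W, W⁆).map _ = _
    rw [Subgroup.map_commutator]
    have := conjBy_eq_iff.2 (hBW hy)
    unfold conjBy at this
    rw [this]
  -- `[K, B] ≤ Z`
  have hWn : W ≤ Subgroup.normalizer (Z : Set G) := le_sup_left.trans hZn
  have fAB : ∀ y ∈ B, ∀ w ∈ W, ∀ v ∈ W, ∀ u ∈ W,
      y * w * y⁻¹ = u * w → y * v * y⁻¹ = v → u * v * u⁻¹ * v⁻¹ ∈ Z →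
      (w * v * w⁻¹ * v⁻¹) * y * (w * v * w⁻¹ * v⁻¹)⁻¹ * y⁻¹ ∈ Z := by
    intro y hy w hw v hv u hu e1 e2 hz
    set k := w * v * w⁻¹ * v⁻¹ with hk
    have hkK : k ∈ K := Subgroup.commutator_mem_commutator hw hv
    have e : y * k⁻¹ * y⁻¹ = (u * v * u⁻¹ * v⁻¹)⁻¹ * k⁻¹ := by
      have hc : u * k * u⁻¹ = k := by
        rw [← RankOne.commutator_eq_bot_iff.1 zK k hkK u hu, mul_inv_cancel_right]
      have h3 : y * k * y⁻¹ = k * (u * v * u⁻¹ * v⁻¹) := by
        calc y * k * y⁻¹ = (y * w * y⁻¹) * (y * v * y⁻¹) * (y * w * y⁻¹)⁻¹ * (y * v * y⁻¹)⁻¹ := by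
              rw [hk]; simp [mul_assoc]
          _ = (u * k * u⁻¹) * (u * v * u⁻¹ * v⁻¹) := by rw [e1, e2, hk]; simp [mul_assoc]
          _ = _ := by rw [hc]
      calc y * k⁻¹ * y⁻¹ = (y * k * y⁻¹)⁻¹ := by simp [mul_assoc]
        _ = _ := by rw [h3, mul_inv_rev]
    rw [mul_assoc k y, mul_assoc k, e, ← mul_assoc]
    exact (Subgroup.mem_normalizer_iff.1
      (hWn (mul_mem (mul_mem (mul_mem hw hv) (inv_mem hw)) (inv_mem hv))) _).1 (inv_mem hz)
  set K' := ⁅A, F⁆ ⊔ ⁅C, E⁆ ⊔ Z with hK'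
  have hK'K : K' ≤ K :=
    sup_le (sup_le (Subgroup.commutator_mono hAW hFW) (Subgroup.commutator_mono hCW hEW)) hZK
  have hK'B : ⁅K', B⁆ ≤ Z := by
    refine le_relCent (sup_le (sup_le ?_ ?_) ?_)
    · rw [Subgroup.commutator_le]
      intro a ha f hf
      refine ⟨hWn (mul_mem (mul_mem (mul_mem (hAW ha) (hFW hf)) (inv_mem (hAW ha))) (inv_mem (hFW hf))), fun y hy => ?_⟩
      have hu : y * a * y⁻¹ * a⁻¹ ∈ E := by
        have := inv_mem (comm_mem h1 ha hy)
        simpa [mul_assoc] using this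
      exact fAB y hy a (hAW ha) f (hFW hf) _ (hEW hu) (by simp [mul_assoc])
        (by rw [← RankOne.commutator_eq_bot_iff.1 cFB f hf y hy, mul_inv_cancel_right])
        (Subgroup.commutator_mem_commutator hu hf)
    · rw [Subgroup.commutator_le]
      intro c hc e he
      refine ⟨hWn (mul_mem (mul_mem (mul_mem (hCW hc) (hEW he)) (inv_mem (hCW hc))) (inv_mem (hEW he))), fun y hy => ?_⟩
      have hu : y * c * y⁻¹ * c⁻¹ ∈ F := by
        have := inv_mem (comm_mem h2 hc hy)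
        simpa [mul_assoc] using this
      exact fAB y hy c (hCW hc) e (hEW he) _ (hFW hu) (by simp [mul_assoc])
        (by rw [← RankOne.commutator_eq_bot_iff.1 cEB e he y hy, mul_inv_cancel_right])
        ((Subgroup.commutator_comm F E).le (Subgroup.commutator_mem_commutator hu he))
    · intro z hz
      exact ⟨Subgroup.le_normalizer hz, fun y hy => mul_mem (mul_mem hz ((Subgroup.mem_normalizer_iff.1
        (hZn (Subgroup.mem_sup_right hy)) _).1 (inv_mem hz))) (one_mem _) |> (by simpa [mul_assoc] using ·)⟩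
  have cAA := self_bot hS hA
  have cCC := self_bot hS hC
  have cEE : ⁅E, E⁆ = ⊥ := self_bot hS hAB
  have cFF : ⁅F, F⁆ = ⊥ := self_bot hS h2.1
  have cAE : ⁅A, E⁆ = ⊥ := by
    rw [Subgroup.commutator_comm]
    exact RankOne.commutator_eq_bot_iff.2 fun x hx y hy => h1.2.1 x hx y (Subgroup.mem_sup_left hy)
  have cCF : ⁅C, F⁆ = ⊥ := by
    rw [Subgroup.commutator_comm]
    exact RankOne.commutator_eq_bot_iff.2 fun x hx y hy => h2.2.1 x hx y (Subgroup.mem_sup_left hy)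
  have hKK' : K ≤ K' := by
    have hn : W ≤ Subgroup.normalizer (K' : Set G) :=
      central_normalizer (le_bot_iff.1 ((Subgroup.commutator_mono hK'K le_rfl).trans zK.le))
    have flip : ∀ {P Q : Subgroup G}, ⁅P, Q⁆ ≤ K' → ⁅Q, P⁆ ≤ K' := fun h =>
      (Subgroup.commutator_comm _ _).le.trans h
    have b0 : ∀ {P Q : Subgroup G}, ⁅P, Q⁆ = ⊥ → ⁅P, Q⁆ ≤ K' := fun h => h.le.trans bot_le
    have kAF : ⁅A, F⁆ ≤ K' := le_sup_of_le_left le_sup_left
    have kCE : ⁅C, E⁆ ≤ K' := le_sup_of_le_left le_sup_right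
    have kEF : ⁅E, F⁆ ≤ K' := le_sup_right
    have nAE : A ⊔ E ≤ Subgroup.normalizer (K' : Set G) := (sup_le hAW hEW).trans hn
    have nCF : C ⊔ F ≤ Subgroup.normalizer (K' : Set G) := (sup_le hCW hFW).trans hn
    have n4 : A ⊔ E ⊔ (C ⊔ F) ≤ Subgroup.normalizer (K' : Set G) := hWeq ▸ hn
    rw [hK, hWeq]
    refine sup_comm_le n4 (sup_comm_le nAE ?_ ?_) (sup_comm_le nCF ?_ ?_)
    · exact comm_sup_le n4 (comm_sup_le nAE (b0 cAA) (b0 cAE)) (comm_sup_le nCF (b0 c0) kAF)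
    · exact comm_sup_le n4 (comm_sup_le nAE (flip (b0 cAE)) (b0 cEE)) (comm_sup_le nCF (flip kCE) kEF)
    · exact comm_sup_le n4 (comm_sup_le nAE (flip (b0 c0)) kCE) (comm_sup_le nCF (b0 cCC) (b0 cCF))
    · exact comm_sup_le n4 (comm_sup_le nAE (flip kAF) (flip kEF)) (comm_sup_le nCF (flip (b0 cCF)) (b0 cFF))
  set U := E ⊔ F ⊔ K with hU
  have hKW : K ≤ W := Subgroup.le_normalizer_iff_commutator_le_left.1 Subgroup.le_normalizer
  have hUW : U ≤ W := sup_le (sup_le hEW hFW) hKW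
  have hUn : W ⊔ B ≤ Subgroup.normalizer (U : Set G) := by
    refine sup_le (Subgroup.le_normalizer_iff.2 fun w hw x hx => ?_) (Subgroup.le_normalizer_iff.2 fun y hy x hx => ?_)
    · rw [show w * x * w⁻¹ = (w * x * w⁻¹ * x⁻¹) * x by simp [mul_assoc]]
      exact mul_mem (Subgroup.mem_sup_right (Subgroup.commutator_mem_commutator hw (hUW hx))) hx
    · have hle : U ≤ U.comap (MulAut.conj y).toMonoidHom := by
        refine sup_le (sup_le ?_ ?_) ?_
        · intro z hz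
          show y * z * y⁻¹ ∈ U
          rw [← RankOne.commutator_eq_bot_iff.1 cEB z hz y hy, mul_inv_cancel_right]
          exact Subgroup.mem_sup_left (Subgroup.mem_sup_left hz)
        · intro z hz
          show y * z * y⁻¹ ∈ U
          rw [← RankOne.commutator_eq_bot_iff.1 cFB z hz y hy, mul_inv_cancel_right]
          exact Subgroup.mem_sup_left (Subgroup.mem_sup_right hz)
        · intro z hz
          exact Subgroup.mem_sup_right ((Subgroup.mem_normalizer_iff.1 (hKn (Subgroup.mem_sup_right hy)) _).1 hz)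
      exact hle hx
  have hUnW : W ≤ Subgroup.normalizer (U : Set G) := le_sup_left.trans hUn
  have hWBn : W ⊔ B ≤ Subgroup.normalizer (W : Set G) := sup_le Subgroup.le_normalizer hBW
  have s1 : ⁅W ⊔ B, W ⊔ B⁆ ≤ W :=
    sup_comm_le hWBn ((Subgroup.commutator_comm _ _).le.trans (Subgroup.le_normalizer_iff_commutator_le_right.1 hWBn) |> id)
      (comm_sup_le hWBn (Subgroup.le_normalizer_iff_commutator_le_right.1 hBW) ((self_bot hS hB).le.trans bot_le))
  have s2 : ⁅W, W ⊔ B⁆ ≤ U := by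
    refine comm_sup_le hUn le_sup_right ?_
    rw [hWeq]
    refine sup_comm_le (hWeq ▸ hUnW) (sup_comm_le ((sup_le hAW hEW).trans hUnW) ?_ (cEB.le.trans bot_le))
      (sup_comm_le ((sup_le hCW hFW).trans hUnW) ?_ (cFB.le.trans bot_le))
    · exact le_sup_of_le_left le_sup_left
    · exact le_sup_of_le_left le_sup_right
  have s3 : ⁅U, W ⊔ B⁆ ≤ K := by
    refine comm_sup_le hKn (Subgroup.commutator_mono hUW le_rfl) ?_
    refine sup_comm_le ((hUW.trans le_sup_left).trans hKn)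
      (sup_comm_le (((le_sup_left : E ⊔ F ≤ U).trans (hUW.trans le_sup_left)).trans hKn) (cEB.le.trans bot_le) (cFB.le.trans bot_le))
      (((Subgroup.commutator_mono hKK' le_rfl).trans hK'B).trans hZK)
  have s4 : ⁅K, W ⊔ B⁆ ≤ Z :=
    comm_sup_le hZn (zK.le.trans bot_le) ((Subgroup.commutator_mono hKK' le_rfl).trans hK'B)
  have s5 : ⁅Z, W ⊔ B⁆ = ⊥ := by
    rw [Subgroup.commutator_comm]
    refine bot_sup ?_ ?_
    · rw [Subgroup.commutator_comm]; exact le_bot_iff.1 ((Subgroup.commutator_mono hZK le_rfl).trans zK.le)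
    · refine Subgroup.commutator_eq_bot_iff_le_centralizer.2 (Subgroup.le_centralizer_iff.1 ?_)
      rw [hZ, Subgroup.commutator_le]
      intro e he f hf
      have e1 := Subgroup.commutator_eq_bot_iff_le_centralizer.1 cEB he
      have e2 := Subgroup.commutator_eq_bot_iff_le_centralizer.1 cFB hf
      exact mul_mem (mul_mem (mul_mem e1 e2) (inv_mem e1)) (inv_mem e2)
  rw [Subgroup.isNilpotent_iff_lowerCentralSeries]
  refine ⟨5, ?_⟩
  simp only [Subgroup.lowerCentralSeries_succ, Subgroup.lowerCentralSeries_zero]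
  exact le_bot_iff.1 (((Subgroup.commutator_mono ((Subgroup.commutator_mono ((Subgroup.commutator_mono
    ((Subgroup.commutator_mono s1 le_rfl).trans s2) le_rfl).trans s3) le_rfl).trans s4) le_rfl)).trans s5.le)

end Cfsg.Agent.RootSubgroups.Chain
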