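import Cfsg.Agent.Lib.ThreeTransp.RankOne
import Mathlib

/-!
# A special rank one group with more than three elements in `A` is perfect

`A` lies in the commutator subgroup of `A ⊔ B`.
-/

set_option linter.all false
set_option autoImplicit false

namespace Cfsg.Agent.RootSubgroups.SpecialPerfect

open Cfsg
open Cfsg.Agent.ThreeTransp
open Cfsg.Agent.ThreeTransp.RankOne

variable {G : Type*} [Group G] {A B : Subgroup G}

/-- The element attached to `a`. -/
theorem exists_braid (h : IsSpecialRankOnePair A B) {a : G} (ha : a ∈ A) (ha1 : a ≠ 1) :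
    ∃ c ∈ B, c ≠ 1 ∧ conjBy A c = conjBy B a⁻¹ ∧ a * c * a = c * a * c := by
  obtain ⟨b, hb, hb1, e⟩ := h.1.cond_left a ha ha1
  refine ⟨b⁻¹, inv_mem hb, inv_ne_one.2 hb1, e, ?_⟩
  have hs := h.2 a ha ha1 b hb hb1 e
  calc a * b⁻¹ * a = a * (b⁻¹ * a * b) * b⁻¹ := by simp [mul_assoc]
    _ = b⁻¹ * a * b⁻¹ := by rw [hs]; simp [mul_assoc]

/-- The identity `1 / (a + e) = 1 / e - 1 / (e + 1 / (1 / a))` under a homomorphism to an abelian group. -/
theorem hom_eq_one (h : IsSpecialRankOnePair A B) {P : Type*} [CommGroup P]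
    (π : ↥(A ⊔ B) →* P) {a e : ↥(A ⊔ B)} (ha : (a : G) ∈ A) (he : (e : G) ∈ A) (ha1 : (a : G) ≠ 1)
    (he1 : (e : G) ≠ 1) (hae : (a : G) * e ≠ 1) : π (a * a * e) = 1 := by
  obtain ⟨a, haX⟩ := a
  obtain ⟨e, heX⟩ := e
  simp only at ha he ha1 he1 hae
  have key : ∀ x (hx : x ∈ A), x ≠ 1 → ∃ c, ∃ hc : c ∈ B, c ≠ 1 ∧ conjBy A c = conjBy B x⁻¹ ∧
      x * c * x = c * x * c ∧ π ⟨c, Subgroup.mem_sup_right hc⟩ = π ⟨x, Subgroup.mem_sup_left hx⟩ := by
    intro x hx hx1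
    obtain ⟨c, hc, hc1, h1, h2⟩ := exists_braid h hx hx1
    refine ⟨c, hc, hc1, h1, h2, ?_⟩
    have : (⟨x, Subgroup.mem_sup_left hx⟩ : ↥(A ⊔ B)) * ⟨c, Subgroup.mem_sup_right hc⟩ *
        ⟨x, Subgroup.mem_sup_left hx⟩ = ⟨c, Subgroup.mem_sup_right hc⟩ *
        ⟨x, Subgroup.mem_sup_left hx⟩ * ⟨c, Subgroup.mem_sup_right hc⟩ := Subtype.ext h2
    have e0 := congrArg π this
    simp only [map_mul] at e0
    rw [mul_comm (π ⟨c, _⟩) (π ⟨x, _⟩)] at e0
    exact (mul_left_cancel e0).symm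
  obtain ⟨ce, hce, hce1, he_1, he_2, he_3⟩ := key e he he1
  obtain ⟨ca, hca, -, ha_1, -, ha_3⟩ := key a ha ha1
  set n := e * ce * e with hn
  have hnB : conjBy A n = B := by
    rw [hn, ← conjBy_conjBy, conjBy_eq_self_of_mem he, ← conjBy_conjBy, he_1, conjBy_conjBy,
      mul_inv_cancel, conjBy_one]
  have hnX : n ∈ A ⊔ B := mul_mem (mul_mem (Subgroup.mem_sup_left he) (Subgroup.mem_sup_right hce))
    (Subgroup.mem_sup_left he)
  have hnA : conjBy B n = A := by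
    have hm : e ∈ conjBy B n := by
      have h1 : n * ce * n⁻¹ = e := by
        calc n * ce * n⁻¹ = e * (ce * e * ce) * n⁻¹ := by simp [hn, mul_assoc]
          _ = e := by rw [← he_2, mul_inv_cancel_right]
      exact h1 ▸ conj_mem_conjBy hce
    by_contra hne
    exact he1 (eq_one_of_normalizes h.1 self_mem (conj_mem (right_mem h.1) hnX) (Ne.symm hne) he
      (Subgroup.le_normalizer hm))
  set a' := n⁻¹ * ca * n with ha'
  have ha'A : a' ∈ A := mem_conjBy.1 (show ca ∈ conjBy A n by rw [hnB]; exact hca)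
  have hninv : conjBy A n⁻¹ = B := (eq_conjBy_inv hnA).symm
  obtain ⟨cx, hcx, -, hx_1, -, hx_3⟩ := key (a * e) (mul_mem ha he) hae
  have e1 : e⁻¹ = ce * e * n⁻¹ := by
    simp [hn, mul_assoc]
  have main : conjBy A cx = conjBy B (ce * e * a') := by
    rw [hx_1, mul_inv_rev, ← conjBy_conjBy, ← ha_1, conjBy_conjBy, e1,
      show ce * e * n⁻¹ * ca = ce * e * a' * n⁻¹ by simp [ha', mul_assoc],
      ← conjBy_conjBy A (ce * e * a') n⁻¹, hninv]
  have hy : e * a' ≠ 1 := by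
    intro hy
    rw [mul_assoc ce e a', hy, mul_one, conjBy_eq_self_of_mem hce] at main
    have := eq_conjBy_inv main
    rw [conjBy_eq_self_of_mem (inv_mem hcx)] at this
    exact h.1.ne this
  obtain ⟨c', hc', -, hy_1, -, hy_3⟩ := key (e * a')⁻¹ (inv_mem (mul_mem he ha'A)) (inv_ne_one.2 hy)
  rw [inv_inv] at hy_1
  rw [mul_assoc ce, ← conjBy_conjBy, ← hy_1, conjBy_conjBy] at main
  have hfix : conjBy A ((ce * c')⁻¹ * cx) = A := by
    rw [← conjBy_conjBy, main, conjBy_conjBy, inv_mul_cancel, conjBy_one]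
  have hcxeq : cx = ce * c' := by
    have := inf_normalizer (RankOnePair_symm h.1) (mul_mem (inv_mem (mul_mem hce hc')) hcx)
      (conjBy_eq_iff.1 hfix)
    exact (inv_mul_eq_one.1 this).symm
  have p1 : π ⟨a', Subgroup.mem_sup_left ha'A⟩ = π ⟨a, haX⟩ := by
    have : (⟨a', Subgroup.mem_sup_left ha'A⟩ : ↥(A ⊔ B)) =
        (⟨n, hnX⟩ : ↥(A ⊔ B))⁻¹ * ⟨ca, Subgroup.mem_sup_right hca⟩ * ⟨n, hnX⟩ := Subtype.ext rfl
    rw [this, map_mul, map_mul, map_inv, ha_3, mul_comm, ← mul_assoc, mul_inv_cancel, one_mul]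
  have p2 : π ⟨cx, Subgroup.mem_sup_right hcx⟩ =
      π ⟨ce, Subgroup.mem_sup_right hce⟩ * π ⟨c', Subgroup.mem_sup_right hc'⟩ := by
    rw [← map_mul]; exact congrArg π (Subtype.ext hcxeq)
  rw [hx_3, he_3, hy_3] at p2
  have q1 : π ⟨a * e, Subgroup.mem_sup_left (mul_mem ha he)⟩ = π ⟨a, haX⟩ * π ⟨e, heX⟩ := by
    rw [← map_mul]; exact congrArg π (Subtype.ext rfl)
  have q2 : π ⟨(e * a')⁻¹, Subgroup.mem_sup_left (inv_mem (mul_mem he ha'A))⟩ =
      (π ⟨e, heX⟩ * π ⟨a, haX⟩)⁻¹ := by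
    rw [← p1, ← map_mul, ← map_inv]; exact congrArg π (Subtype.ext rfl)
  rw [q1, q2, mul_inv_rev, mul_comm (π ⟨a, haX⟩)⁻¹, ← mul_assoc, mul_inv_cancel, one_mul] at p2
  rw [map_mul, map_mul, mul_assoc, p2, mul_inv_cancel]

/-- `A` lies in the commutator subgroup of `A ⊔ B`. -/
theorem le_commutator (h : IsSpecialRankOnePair A B) (h3 : 3 < ENat.card A) :
    A ≤ ⁅A ⊔ B, A ⊔ B⁆ := by
  let π := Abelianization.of (G := ↥(A ⊔ B))
  let up : ↥A → ↥(A ⊔ B) := fun x => ⟨x, Subgroup.mem_sup_left x.2⟩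
  let τ : ↥A →* Abelianization ↥(A ⊔ B) := π.comp (Subgroup.inclusion le_sup_left)
  have key : ∀ a e : ↥A, a ≠ 1 → e ≠ 1 → a * e ≠ 1 → τ a * τ a * τ e = 1 := by
    intro a e ha he hae
    have := hom_eq_one h π (a := up a) (e := up e) a.2 e.2 (fun x => ha (Subtype.ext x))
      (fun x => he (Subtype.ext x)) (fun x => hae (Subtype.ext x))
    rwa [map_mul, map_mul] at this
  have good : ∀ x e : ↥A, e ≠ 1 → x * e ≠ 1 → x * e * e ≠ 1 → τ x = 1 := by
    intro x e he hxe hxee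
    have k1 := key (x * e) e hxe he hxee
    have hswap : e * (x * e) ≠ 1 := fun hh => hxee (mul_eq_one_comm.1 hh)
    have k2 := key e (x * e) he hxe hswap
    rw [← k2, map_mul] at k1
    have : τ x * (τ x * (τ e * τ e * τ e)) = 1 * (τ x * (τ e * τ e * τ e)) := by
      rw [one_mul]
      calc _ = τ x * τ e * (τ x * τ e) * τ e := by ac_rfl
        _ = _ := k1
        _ = _ := by ac_rfl
    exact mul_right_cancel this
  have third : ∀ x : ↥A, ∃ f : ↥A, f ≠ 1 ∧ f ≠ x ∧ f ≠ x⁻¹ := by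
    intro x
    by_contra hh
    push Not at hh
    have hu : (Set.univ : Set ↥A) ⊆ {1, x, x⁻¹} := fun r _ => by
      by_cases h1 : r = 1
      · exact Or.inl h1
      by_cases h2 : r = x
      · exact Or.inr (Or.inl h2)
      exact Or.inr (Or.inr (hh r h1 h2))
    have := Set.encard_le_encard hu
    rw [Set.encard_univ] at this
    have h2 : ({1, x, x⁻¹} : Set ↥A).encard ≤ 3 := by
      refine (Set.encard_insert_le _ _).trans ((add_le_add_left (Set.encard_insert_le _ _) 1).trans ?_)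
      rw [Set.encard_singleton]
      norm_num
    exact absurd (h3.trans_le (this.trans h2)) (lt_irrefl _)
  intro x hx
  suffices τ ⟨x, hx⟩ = 1 by
    have hm : (⟨x, Subgroup.mem_sup_left hx⟩ : ↥(A ⊔ B)) ∈ commutator ↥(A ⊔ B) := by
      rw [← Abelianization.ker_of]
      exact this
    rw [← Subgroup.map_subtype_commutator]
    exact ⟨_, hm, rfl⟩
  obtain ⟨f, hf1, hfx, hfi⟩ := third ⟨x, hx⟩
  generalize (⟨x, hx⟩ : ↥A) = x at hfx hfi
  by_cases hb : x * f * f = 1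
  swap
  · exact good x f hf1 (fun hh => hfi (eq_inv_of_mul_eq_one_right hh)) hb
  by_cases hx1 : x = 1
  · rw [hx1, map_one]
  have hf : τ f = 1 := by
    refine good f x hx1 (fun hh => hfi (eq_inv_of_mul_eq_one_left hh)) fun hh => hfx ?_
    -- `x * f * f = 1` and `f * x * x = 1` force `f = x`
    have e1 : f = (x * x)⁻¹ := eq_inv_of_mul_eq_one_left (by rwa [← mul_assoc])
    have e2 : f * f = x⁻¹ := eq_inv_of_mul_eq_one_right (by rwa [← mul_assoc])
    have e3 : x * x * x = 1 := by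
      have : (x * x)⁻¹ * (x * x)⁻¹ = x⁻¹ := e1 ▸ e2
      rw [← mul_inv_rev, inv_inj] at this
      have h5 : x * x * x * x = 1 * x := by rw [one_mul, mul_assoc (x * x) x x, this]
      exact mul_right_cancel h5
    rw [e1]
    exact inv_eq_of_mul_eq_one_right e3
  have hb' := congrArg τ hb
  rwa [map_mul, map_mul, hf, mul_one, mul_one, map_one] at hb'

end Cfsg.Agent.RootSubgroups.SpecialPerfect
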