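import Cfsg.Agent.Lib.RootSubgroups.Incomparable
import Cfsg.Agent.Lib.RootSubgroups.SpecialPerfect
import Cfsg.Agent.Lib.Components.Basic

/-!
# Groups generated by root subgroups are quasisimple

The fibres of a proper image contain no rank one pair, hence are singletons.
-/

set_option linter.all false
set_option autoImplicit false

namespace Cfsg.Agent.RootSubgroups.Quasisimple

open Cfsg
open Cfsg.Agent.ThreeTransp
open Cfsg.Agent.ThreeTransp.RankOne
open Cfsg.Agent.RootSubgroups.Commutator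
open Cfsg.Agent.RootSubgroups.Lines (commutator_conj)

variable {G : Type*} [Group G] {S : Set (Subgroup G)}

theorem map_conj {H : Type*} [Group H] (f : G →* H) (A : Subgroup G) (g : G) :
    (conjBy A g).map f = conjBy (A.map f) (f g) := by
  show (A.map _).map f = (A.map f).map _
  rw [Subgroup.map_map, Subgroup.map_map]
  congr 1
  ext x
  simp

section

variable (hS : IsRootSubgroupSet S) (h2 : ∃ A ∈ S, ∃ B ∈ S, A ≠ B) (h1 : IsConnectedFamily (FAdj S) S)
include hS h2 h1

theorem exists_partner {A : Subgroup G} (hA : A ∈ S) : ∃ B ∈ S, IsRankOnePair A B := by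
  obtain ⟨X, hX, Y, hY, hne⟩ := h2
  by_cases e : X = A
  · exact RootSets.exists_partner hS
      (Graph.not_isolated_of_path (h1 A hA Y hY) (by rw [← e]; exact hne.symm)) hA
  · exact RootSets.exists_partner hS (Graph.not_isolated_of_path (h1 A hA X hX) e) hA

theorem isClass : IsRootSubgroupClass S :=
  ⟨hS, ((Graph.connected_iff hS h2).1 h1).1⟩

theorem nondegenerate_of_case (h : ¬ IsDegenerateRootSet S) : IsNondegenerateRootSet S := by
  unfold IsDegenerateRootSet at h
  push Not at h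
  obtain ⟨A, hA, B, hB, hc⟩ := h
  obtain ⟨D, hD, hp⟩ := exists_partner hS h2 h1 hA
  obtain ⟨-, -, l⟩ := Commutator.line hS hA hB (not_isolated hA hD hp) hc
  have hAC : ⁅A, ⁅A, B⁆⁆ = ⊥ := by rw [Subgroup.commutator_comm]; exact l.1.2.2
  exact ⟨⟨A, hA, ⁅A, B⁆, hc.1, l.1.2.1, hAC⟩,
    ⟨A, hA, D, hD, hp⟩, ⟨A, hA, B, hB, hc⟩⟩

/-- Members lie in the commutator subgroup. -/
theorem le_commutator (h3 : IsDegenerateRootSet S → ∀ A ∈ S, 3 < ENat.card A)
    (h4 : ∀ A ∈ S, ∀ B ∈ rankOnePartners S A, IsSpecialRankOnePair A B) {A : Subgroup G} (hA : A ∈ S) :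
    A ≤ commutator G := by
  by_cases hdeg : IsDegenerateRootSet S
  · obtain ⟨B, hB, hp⟩ := exists_partner hS h2 h1 hA
    exact (SpecialPerfect.le_commutator (h4 A hA B ⟨hB, hp⟩) (h3 hdeg A hA)).trans
      (Subgroup.commutator_mono le_top le_top)
  · have hnd := nondegenerate_of_case hS h2 h1 hdeg
    obtain ⟨X, hX, Y, hY, hc⟩ := hnd.2.2
    obtain ⟨Q, hQ, hQc, hQX⟩ := Incomparable.exists_opposite hS
      (LineClass.all_not_isolated (isClass hS h2 h1) hnd) hX hY hc
    obtain ⟨g, rfl⟩ := (isClass hS h2 h1).2.2 X hX A hA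
    rw [← hQX, commutator_conj]
    exact Subgroup.commutator_mono le_top le_top

theorem perfect (h3 : IsDegenerateRootSet S → ∀ A ∈ S, 3 < ENat.card A)
    (h4 : ∀ A ∈ S, ∀ B ∈ rankOnePartners S A, IsSpecialRankOnePair A B) : commutator G = ⊤ :=
  top_le_iff.1 (hS.generates ▸ iSup₂_le fun A hA => le_commutator hS h2 h1 h3 h4 hA)

theorem dichotomy (h3 : IsDegenerateRootSet S → ∀ A ∈ S, 3 < ENat.card A)
    (h4 : ∀ A ∈ S, ∀ B ∈ rankOnePartners S A, IsSpecialRankOnePair A B)
    (h2' : ∀ A ∈ S, ∀ C ∈ S, A ≠ C → centralizingMembers S A ≠ centralizingMembers S C)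
    (N : Subgroup G) [hN : N.Normal] : N = ⊤ ∨ N ≤ Subgroup.center G := by
  refine or_iff_not_imp_left.2 fun hNT => ?_
  set f := QuotientGroup.mk' N with hf
  have hfs : Function.Surjective f := QuotientGroup.mk'_surjective N
  have noTop : ∀ A ∈ S, A.map f ≠ ⊤ := by
    intro A hA e
    refine hNT (top_le_iff.1 ?_)
    rw [← perfect hS h2 h1 h3 h4, commutator_def, ← QuotientGroup.ker_mk' N, ← Subgroup.map_eq_bot_iff,
      Subgroup.map_commutator, Subgroup.map_top_of_surjective f hfs, ← e]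
    exact RankOne.commutator_eq_bot_iff.2 (by
      rintro _ ⟨x, hx, rfl⟩ _ ⟨y, hy, rfl⟩
      rw [← map_mul, ← map_mul, RootSets.comm_self hS hA x hx y hy])
  have img := (Graph.image hS h1 f hfs).resolve_right fun ⟨A, hA, e⟩ => noTop A hA e
  have mne : ∀ A ∈ S, A.map f ≠ ⊥ := fun A hA => img.1.ne_bot _ ⟨A, hA, rfl⟩
  have self_comm : ∀ A ∈ S, ∀ C : Subgroup G, C.map f = A.map f → ⁅A.map f, C.map f⁆ = ⊥ := by
    intro A hA C e
    rw [e, RankOne.commutator_eq_bot_iff]
    rintro _ ⟨x, hx, rfl⟩ _ ⟨y, hy, rfl⟩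
    rw [← map_mul, ← map_mul, RootSets.comm_self hS hA x hx y hy]
  -- no rank one pair in a fibre
  have fibre : ∀ A ∈ S, ∀ C ∈ S, IsRankOnePair A C → C.map f ≠ A.map f := by
    intro A hA C hC hp e
    by_cases hdeg : IsDegenerateRootSet S
    · refine mne A hA (le_bot_iff.1 ?_)
      have := Subgroup.map_mono (f := f) (SpecialPerfect.le_commutator (h4 A hA C ⟨hC, hp⟩) (h3 hdeg A hA))
      rw [Subgroup.map_commutator, Subgroup.map_sup, e, sup_idem] at this
      exact this.trans (by simpa only [e] using (self_comm A hA C e).le)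
    · have hnd := nondegenerate_of_case hS h2 h1 hdeg
      have hgen := LineClass.generated (isClass hS h2 h1) hnd hA ⟨hC, hp⟩
      have hle : (⊤ : Subgroup G) ≤ (Subgroup.normalizer (A.map f : Set (G ⧸ N))).comap f := by
        rw [← hgen]
        refine sup_le (iSup₂_le fun D hD => ?_) ?_
        · intro d hd
          refine mem_normalizer_of_centralizes ?_
          rintro _ ⟨a, ha, rfl⟩
          rw [← map_mul, ← map_mul, RankOne.commutator_eq_bot_iff.1 hD.1.2.2 a ha d hd]
        · rw [← Subgroup.map_le_iff_le_comap, e]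
          exact Subgroup.le_normalizer
      refine noTop A hA (top_le_iff.1 ?_)
      rw [← Subgroup.map_top_of_surjective f hfs, ← hS.generates, Subgroup.map_le_iff_le_comap]
      refine iSup₂_le fun X hX => ?_
      obtain ⟨g, rfl⟩ := (isClass hS h2 h1).2.2 A hA X hX
      rw [← Subgroup.map_le_iff_le_comap, map_conj, conjBy_eq_iff.2 (hle (Subgroup.mem_top g))]
  -- a rank one pair has non-commuting images
  have rank : ∀ A ∈ S, ∀ C ∈ S, IsRankOnePair A C → ⁅A.map f, C.map f⁆ ≠ ⊥ := by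
    intro A hA C hC hp hc
    obtain ⟨a, ha, ha1⟩ := RankOne.exists_ne_one hp
    obtain ⟨b, hb, -, e⟩ := hp.cond_left a ha ha1
    have e' := congrArg (Subgroup.map f) e
    rw [map_conj, map_conj] at e'
    have hc' := RankOne.commutator_eq_bot_iff.1 hc
    rw [conjBy_eq_iff.2 (mem_normalizer_of_centralizes fun x hx =>
        (hc' x hx _ ⟨b⁻¹, inv_mem hb, rfl⟩).symm),
      conjBy_eq_iff.2 (mem_normalizer_of_centralizes fun y hy =>
        hc' _ ⟨a⁻¹, inv_mem ha, rfl⟩ y hy)] at e'
    exact fibre A hA C hC hp e'.symm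
  -- members with one image centralize the same members
  have sub : ∀ A ∈ S, ∀ C ∈ S, C.map f = A.map f → centralizingMembers S A ⊆ centralizingMembers S C := by
    intro A hA C hC e M hM
    rw [Incomparable.mem_centralizingMembers] at hM ⊢
    refine ⟨hM.1, ?_⟩
    have hMC : ⁅M.map f, C.map f⁆ = ⊥ := by
      rw [e, ← Subgroup.map_commutator, hM.2, Subgroup.map_bot]
    rcases hS.pair M hM.1 C hC with h | h | h
    · exact h
    · exact absurd hMC (rank M hM.1 C hC h)
    · rw [← Subgroup.map_commutator] at hMC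
      exact absurd hMC (mne _ h.1)
  have normal : ∀ A ∈ S, ∀ n ∈ N, conjBy A n = A := by
    intro A hA n hn
    by_contra hne
    have e : (conjBy A n).map f = A.map f := by
      rw [map_conj, show f n = 1 from (QuotientGroup.eq_one_iff n).2 hn, conjBy_one]
    exact h2' A hA _ (hS.conj_mem A hA n) (Ne.symm hne)
      (Set.Subset.antisymm (sub A hA _ (hS.conj_mem A hA n) e) (sub _ (hS.conj_mem A hA n) A hA e.symm))
  intro n hn
  have key : ∀ A ∈ S, ∀ a ∈ A, Commute a n := by
    intro A hA a ha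
    set c := n * a * n⁻¹ * a⁻¹ with hc
    have hcA : c ∈ A := mul_mem (by
      have := conj_mem_conjBy (g := n) ha
      rwa [normal A hA n hn] at this) (inv_mem ha)
    have hcN : f c = 1 := (QuotientGroup.eq_one_iff c).2 (by
      rw [hc, mul_assoc n, mul_assoc n]
      exact mul_mem hn (hN.conj_mem _ (inv_mem hn) a))
    by_cases hc1 : c = 1
    · exact (mul_inv_eq_iff_eq_mul.1 (mul_inv_eq_one.1 hc1)).symm
    exfalso
    obtain ⟨B, hB, hp⟩ := exists_partner hS h2 h1 hA
    obtain ⟨b, hb, -, e⟩ := hp.cond_left c hcA hc1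
    have e' := congrArg (Subgroup.map f) e
    rw [map_conj, map_conj, map_inv, map_inv, hcN, inv_one, conjBy_one] at e'
    have := eq_conjBy_inv e'
    rw [inv_inv, conjBy_eq_self_of_mem (⟨b, hb, rfl⟩ : f b ∈ B.map f)] at this
    exact fibre A hA B hB hp this.symm
  rw [Subgroup.mem_center_iff]
  intro g
  have hle : (⊤ : Subgroup G) ≤ Subgroup.centralizer ({n} : Set G) :=
    hS.generates ▸ iSup₂_le fun A hA a ha => Subgroup.mem_centralizer_singleton_iff.2 (key A hA a ha).eq
  exact Subgroup.mem_centralizer_singleton_iff.1 (hle (Subgroup.mem_top g))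

theorem main (h3 : IsDegenerateRootSet S → ∀ A ∈ S, 3 < ENat.card A)
    (h4 : ∀ A ∈ S, ∀ B ∈ rankOnePartners S A, IsSpecialRankOnePair A B)
    (h2' : ∀ A ∈ S, ∀ C ∈ S, A ≠ C → centralizingMembers S A ≠ centralizingMembers S C) :
    (∀ A ∈ S, commutator G ⊔ A = ⊤ ∧ A ⊓ commutator G ≠ ⊥) ∧ Cfsg.IsQuasisimple ↥(commutator G) ∧
    commutator G = ⊤ := by
  have hp := perfect hS h2 h1 h3 h4
  refine ⟨fun A hA => ⟨by rw [hp, top_sup_eq], by rw [hp, inf_top_eq]; exact hS.ne_bot A hA⟩, ?_, hp⟩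
  have hperf : Group.IsPerfect G := ⟨hp⟩
  have hnt : Nontrivial G := by
    obtain ⟨A, hA, -⟩ := h2
    obtain ⟨a, -, ha1⟩ := (Subgroup.bot_or_exists_ne_one A).resolve_left (hS.ne_bot A hA)
    exact ⟨⟨a, 1, ha1⟩⟩
  have hq := Components.Basic.isQuasisimple_of_normal hperf hnt
    fun N hN => dichotomy hS h2 h1 h3 h4 h2' N
  rw [hp]
  exact Components.Basic.quasisimple_of_mulEquiv Subgroup.topEquiv.symm hq

end

end Cfsg.Agent.RootSubgroups.Quasisimple
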