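import Cfsg.Agent.Lib.RootSubgroups.Commutator
import Cfsg.Agent.Lib.RootSubgroups.Quasisimple

/-!
# Rank one pairs in degenerate sets of abstract root subgroups

If two commuting members `A, C` have a common rank one partner `B`, the pair `A, B` is special.
-/

set_option linter.all false
set_option autoImplicit false

namespace Cfsg.Agent.RootSubgroups.Degenerate

open Cfsg
open Cfsg.Agent.ThreeTransp
open Cfsg.Agent.ThreeTransp.RankOne
open Cfsg.Agent.RootSubgroups.Commutator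

variable {G : Type*} [Group G] {S : Set (Subgroup G)}

/-- The right conjugate `x⁻¹ F x`. -/
def R (F : Subgroup G) (x : G) : Subgroup G := conjBy F x⁻¹

theorem mem_R {F : Subgroup G} {x y : G} : y ∈ R F x ↔ x * y * x⁻¹ ∈ F := by
  show y ∈ conjBy F x⁻¹ ↔ _
  rw [mem_conjBy, inv_inv]

theorem R_R (F : Subgroup G) (x y : G) : R (R F x) y = R F (x * y) := by
  simp [R, conjBy_conjBy]

theorem R_one (F : Subgroup G) : R F 1 = F := by simp [R]

theorem R_inj {F F' : Subgroup G} {x : G} : R F x = R F' x ↔ F = F' := conjBy_inj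

theorem R_self {F : Subgroup G} {x : G} (hx : x ∈ F) : R F x = F := conjBy_eq_self_of_mem (inv_mem hx)

theorem R_of_commute {F : Subgroup G} {x : G} (h : ∀ f ∈ F, f * x = x * f) : R F x = F :=
  conjBy_eq_iff.2 (inv_mem (mem_normalizer_of_centralizes fun f hf => (h f hf).symm))

theorem mem_R_conj {F : Subgroup G} {f : G} (hf : f ∈ F) (x : G) : x⁻¹ * f * x ∈ R F x :=
  mem_R.2 (by simpa [mul_assoc] using hf)

theorem R_mem (hS : IsRootSubgroupSet S) {F : Subgroup G} (hF : F ∈ S) (x : G) : R F x ∈ S :=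
  hS.conj_mem F hF x⁻¹

theorem comm_R {F F' : Subgroup G} (h : ⁅F, F'⁆ = ⊥) (x : G) : ⁅R F x, R F' x⁆ = ⊥ :=
  Incomparable.commute_conj h x⁻¹

theorem of_comm_R {F F' : Subgroup G} {x : G} (h : ⁅R F x, R F' x⁆ = ⊥) : ⁅F, F'⁆ = ⊥ :=
  Incomparable.commute_of_conj x⁻¹ h

theorem pair_R {F F' : Subgroup G} (h : IsRankOnePair F F') (x : G) : IsRankOnePair (R F x) (R F' x) :=
  rankOne_conj h x⁻¹

theorem symm {F F' : Subgroup G} (h : ⁅F, F'⁆ = ⊥) : ⁅F', F⁆ = ⊥ := Incomparable.comm_symm h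

/-- A member commuting with two conjugates of `B` under `A` centralizes `A`. -/
theorem centralizes_of_two {A B H : Subgroup G} (hp : IsRankOnePair A B) {a a' : G} (ha : a ∈ A)
    (ha' : a' ∈ A) (h1 : ⁅R B a, H⁆ = ⊥) (h2 : ⁅R B a', H⁆ = ⊥) (hne : a ≠ a') : ⁅A, H⁆ = ⊥ := by
  have m1 : R B a ∈ unipotentSubgroups A B := conj_mem (right_mem hp) (Subgroup.mem_sup_left (inv_mem ha))
  have m2 : R B a' ∈ unipotentSubgroups A B := conj_mem (right_mem hp) (Subgroup.mem_sup_left (inv_mem ha'))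
  have hd : R B a ≠ R B a' := by
    intro e
    have e' : R B (a * a'⁻¹) = B := by rw [← R_R, e, R_R, mul_inv_cancel, R_one]
    have h3 := inf_normalizer hp (mul_mem ha (inv_mem ha'))
      (inv_inv (a * a'⁻¹) ▸ inv_mem (conjBy_eq_iff.1 e'))
    exact hne (mul_inv_eq_one.1 h3)
  have hs := sup_eq hp m1 m2 hd
  rw [Subgroup.commutator_eq_bot_iff_le_centralizer] at h1 h2 ⊢
  exact (le_sup_left (a := A) (b := B)).trans (hs ▸ sup_le h1 h2)

/-- The data attached to two commuting members with a common partner. -/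
structure Cfg (S : Set (Subgroup G)) (A B C : Subgroup G) (a b c : G) : Prop where
  hS : IsRootSubgroupSet S
  hA : A ∈ S
  hC : C ∈ S
  hB : B ∈ S
  ne : A ≠ C
  comm : ⁅A, C⁆ = ⊥
  pA : IsRankOnePair A B
  pC : IsRankOnePair C B
  ha : a ∈ A
  ha1 : a ≠ 1
  hb : b ∈ B
  hb1 : b ≠ 1
  hc : c ∈ C
  hc1 : c ≠ 1
  eA : R A b = R B a
  eC : R C b = R B c

theorem exists_cfg (hS : IsRootSubgroupSet S) {A B C : Subgroup G} (hA : A ∈ S) (hB : B ∈ S) (hC : C ∈ S)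
    (hne : A ≠ C) (hc : ⁅A, C⁆ = ⊥) (pA : IsRankOnePair A B) (pC : IsRankOnePair C B) {a b : G}
    (ha : a ∈ A) (ha1 : a ≠ 1) (hb : b ∈ B) (hb1 : b ≠ 1) (e : R A b = R B a) :
    ∃ c, Cfg S A B C a b c := by
  obtain ⟨c, hcC, hc1, e'⟩ := pC.cond_right b hb hb1
  exact ⟨c, ⟨hS, hA, hC, hB, hne, hc, pA, pC, ha, ha1, hb, hb1, hcC, hc1, e, e'.symm⟩⟩

namespace Cfg

variable {A B C : Subgroup G} {a b c : G}

theorem commute_ac (h : Cfg S A B C a b c) {x y : G} (hx : x ∈ A) (hy : y ∈ C) : x * y = y * x :=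
  commutator_eq_bot_iff.1 h.comm x hx y hy

theorem commute_self (hS : IsRootSubgroupSet S) {F : Subgroup G} (hF : F ∈ S) {x y : G} (hx : x ∈ F)
    (hy : y ∈ F) : x * y = y * x :=
  RootSets.comm_self hS hF x hx y hy

theorem flip (h : Cfg S A B C a b c) : Cfg S C B A c b a :=
  ⟨h.hS, h.hC, h.hA, h.hB, h.ne.symm, symm h.comm, h.pC, h.pA, h.hc, h.hc1, h.hb, h.hb1, h.ha, h.ha1, h.eC, h.eA⟩

theorem commute_n (h : Cfg S A B C a b c) {x : G} (hx : x ∈ A) : x * (a⁻¹ * c) = (a⁻¹ * c) * x := by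
  rw [← mul_assoc, commute_self h.hS h.hA hx (inv_mem h.ha), mul_assoc, h.commute_ac hx h.hc, mul_assoc]

theorem R_n (h : Cfg S A B C a b c) : R (R A b) (a⁻¹ * c) = R C b := by
  rw [h.eA, h.eC, R_R, mul_inv_cancel_left]

/-- The conjugates of `B` under `n` commute with `B`. -/
theorem comm_B (h : Cfg S A B C a b c) : ⁅B, R B (a⁻¹ * c)⁆ = ⊥ := by
  have h1 : ⁅R A b, R C b⁆ = ⊥ := comm_R h.comm b
  rw [h.eA, h.eC] at h1
  have h2 := comm_R h1 a⁻¹
  rw [R_R, R_R, mul_inv_cancel, R_one] at h2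
  rwa [← h.commute_ac (inv_mem h.ha) h.hc] at h2

theorem left_R (h : Cfg S A B C a b c) : A ≠ R A b ∧ B ≠ R A b := by
  refine ⟨fun e => h.hb1 ?_, fun e => h.ha1 ?_⟩
  · exact inv_eq_one.1 (inf_normalizer (RankOnePair_symm h.pA) (inv_mem h.hb) (conjBy_eq_iff.1 e.symm))
  · exact inv_eq_one.1 (inf_normalizer h.pA (inv_mem h.ha) (conjBy_eq_iff.1 (h.eA.symm.trans e.symm)))

theorem R_b_mem (h : Cfg S A B C a b c) : R A b ∈ unipotentSubgroups A B :=
  conj_mem self_mem (Subgroup.mem_sup_right (inv_mem h.hb))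

theorem comm_E (h : Cfg S A B C a b c) {x y : G} (hx : x ∈ R A b) (hy : y ∈ R C b) : x * y = y * x :=
  commutator_eq_bot_iff.1 (comm_R h.comm b) x hx y hy

theorem conj_n_mem (h : Cfg S A B C a b c) {e : G} (he : e ∈ R A b) :
    (a⁻¹ * c)⁻¹ * e * (a⁻¹ * c) ∈ R C b :=
  h.R_n ▸ mem_R_conj he _

theorem relate (h : Cfg S A B C a b c) {e : G} (he : e ∈ R A b) :
    ⁅R B e, R B ((a⁻¹ * c)⁻¹ * e * (a⁻¹ * c))⁆ = ⊥ := by
  set n := a⁻¹ * c with hn
  by_cases e1 : e = 1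
  · subst e1
    simpa [R_one] using Incomparable.self_bot h.hS h.hB
  set e' := n⁻¹ * e * n with he'
  have hAn : R A n = A := R_of_commute fun x hx => h.commute_n hx
  have hAn' : R A n⁻¹ = A := by rw [← hAn, R_R, mul_inv_cancel, R_one, hAn]
  have hm : R A e ∈ unipotentSubgroups A B :=
    conj_mem self_mem (inv_mem (mem_le h.R_b_mem he))
  have hA1 : R A e ≠ A := fun h0 => e1 (inv_eq_one.1
    (eq_one_of_normalizes h.pA h.R_b_mem self_mem h.left_R.1.symm (inv_mem he) (conjBy_eq_iff.1 h0)))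
  obtain ⟨a2, ha2, h2⟩ := ((mem_iff h.pA).1 hm).resolve_left hA1
  have h2' : R A e = R B a2⁻¹ := h2.trans (by simp [R])
  have h3 : R A e' = R (R A e) n := by rw [he', ← R_R A (n⁻¹ * e) n, ← R_R A n⁻¹ e, hAn']
  have h4 : ⁅R A e, R A e'⁆ = ⊥ := by
    rw [h3, h2', R_R, h.commute_n (inv_mem ha2)]
    have := comm_R h.comm_B a2⁻¹
    rwa [R_R] at this
  -- move `A` to `B` by an element of `R A b`
  obtain ⟨k, hk, hkB⟩ : ∃ k ∈ R A b, B = R A k := by
    have hp : IsRankOnePair (R A b) A := pair_mem h.pA h.R_b_mem self_mem h.left_R.1.symm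
    have hmem : B ∈ unipotentSubgroups (R A b) A := by
      obtain ⟨x, hx, hxB⟩ := right_mem h.pA
      have hs := sup_eq h.pA h.R_b_mem self_mem h.left_R.1.symm
      rw [hxB]
      exact conj_mem (right_mem hp) (hs ▸ hx)
    obtain ⟨k, hk, hkB⟩ := ((mem_iff hp).1 hmem).resolve_left h.left_R.2
    exact ⟨k⁻¹, inv_mem hk, hkB.trans (by simp [R])⟩
  have h5 := comm_R h4 k
  rw [R_R, R_R, commute_self h.hS (R_mem h.hS h.hA b) he hk,
    ← h.comm_E hk (h.conj_n_mem he), ← R_R, ← R_R, ← hkB] at h5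
  exact h5

/-- Conjugation by `n` carries `b⁻¹ a b` to `b⁻¹ c b`. -/
theorem conj_u (h : Cfg S A B C a b c) :
    (a⁻¹ * c)⁻¹ * (b⁻¹ * a * b) * (a⁻¹ * c) = b⁻¹ * c * b := by
  set n := a⁻¹ * c with hn
  set u := b⁻¹ * a * b with hu
  have huE : u ∈ R A b := mem_R_conj h.ha b
  have hx : n⁻¹ * u * n ∈ R C b := h.conj_n_mem huE
  have hy : b⁻¹ * c * b ∈ R C b := mem_R_conj h.hc b
  by_contra hne
  have h1 : ⁅R B u, R B (b⁻¹ * c * b)⁆ = ⊥ := by
    have h0 : ⁅R B a, R B c⁆ = ⊥ := by rw [← h.eA, ← h.eC]; exact comm_R h.comm b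
    have h1 := comm_R h0 b
    rw [R_R, R_R] at h1
    have e : ∀ x : G, R B (b⁻¹ * x * b) = R B (x * b) := fun x => by
      rw [mul_assoc, ← R_R, R_self (inv_mem h.hb)]
    rwa [e, e]
  have hp : IsRankOnePair (R C b) B := by
    have := pair_R h.pC b
    rwa [R_self h.hb] at this
  have h2 := centralizes_of_two hp hx hy (symm (h.relate huE)) (symm h1) hne
  have h3 := comm_R h2 u⁻¹
  rw [R_R B u u⁻¹, mul_inv_cancel, R_one, R_of_commute (F := R C b) (x := u⁻¹) fun f hf =>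
    (h.comm_E (inv_mem huE) hf).symm] at h3
  exact not_commute hp h3

theorem y_conj (h : Cfg S A B C a b c) :
    a⁻¹ * (b * (a⁻¹ * c)⁻¹ * b⁻¹ * (a⁻¹ * c)) * a = (a⁻¹ * c) * (b * (a⁻¹ * c)⁻¹ * b⁻¹ * (a⁻¹ * c)) := by
  have h1 := h.conj_u
  set n := a⁻¹ * c with hn
  have hc : c = a * n := by rw [hn, mul_inv_cancel_left]
  rw [hc] at h1
  have han : a * n = n * a := h.commute_n h.ha
  have h2 : b⁻¹ * a * b = n * (b⁻¹ * (a * n) * b) * n⁻¹ := by rw [← h1]; simp [mul_assoc]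
  rw [han] at h2
  have h3 : b * n⁻¹ * b⁻¹ * a * b * n = n * a * b := by
    calc b * n⁻¹ * b⁻¹ * a * b * n = b * n⁻¹ * (b⁻¹ * a * b) * n := by simp [mul_assoc]
      _ = n * a * b := by rw [h2]; simp [mul_assoc]
  set y := b * n⁻¹ * b⁻¹ * n with hy
  have h4 : y * a = n * a * b * n⁻¹ * b⁻¹ * n := by
    have e : b * n⁻¹ * b⁻¹ = n * a * b * n⁻¹ * b⁻¹ * a⁻¹ := by rw [← h3]; simp [mul_assoc]
    rw [hy, e, mul_assoc (_ * a⁻¹) n a, ← han]; simp [mul_assoc]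
  calc a⁻¹ * y * a = a⁻¹ * (y * a) := mul_assoc _ _ _
    _ = a⁻¹ * ((n * a) * (b * n⁻¹ * b⁻¹ * n)) := by rw [h4]; simp [mul_assoc]
    _ = n * y := by rw [← han, hy]; simp [mul_assoc]

theorem comm_b_n (h : Cfg S A B C a b c) {x y : G} (hx : x ∈ B) (hy : y ∈ B) :
    x * ((a⁻¹ * c)⁻¹ * y * (a⁻¹ * c)) = ((a⁻¹ * c)⁻¹ * y * (a⁻¹ * c)) * x :=
  commutator_eq_bot_iff.1 h.comm_B x hx _ (mem_R_conj hy _)

theorem special (h : Cfg S A B C a b c) : b⁻¹ * a * b = a⁻¹ * b⁻¹ * a := by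
  set n := a⁻¹ * c with hn
  set u := b⁻¹ * a * b with hu
  set v := a⁻¹ * b⁻¹ * a with hv
  by_contra hne
  have huE : u ∈ R A b := mem_R_conj h.ha b
  have hvE : v ∈ R A b := by rw [h.eA]; exact mem_R_conj (inv_mem h.hb) a
  have hxv := h.conj_n_mem hvE
  have hxu := h.conj_n_mem huE
  rw [← hn] at hxv hxu
  -- both displacements equal `n * y`
  have hU : u⁻¹ * (n⁻¹ * u * n) = b⁻¹ * n * b := by
    rw [hu, hn, h.conj_u]; simp [mul_assoc]
  have hV : v⁻¹ * (n⁻¹ * v * n) = a⁻¹ * (b * n⁻¹ * b⁻¹ * n) * a := by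
    have han : a * n = n * a := h.commute_n h.ha
    have e1 : v * n = a⁻¹ * b⁻¹ * (n * a) := by rw [hv, mul_assoc, han]
    have e2 : a * n⁻¹ = n⁻¹ * a := (Commute.inv_right (show Commute a n from han)).eq
    calc v⁻¹ * (n⁻¹ * v * n) = v⁻¹ * n⁻¹ * (v * n) := by simp [mul_assoc]
      _ = a⁻¹ * b * (a * n⁻¹) * (v * n) := by rw [hv]; simp [mul_assoc]
      _ = a⁻¹ * b * (n⁻¹ * a) * (a⁻¹ * b⁻¹ * (n * a)) := by rw [e2, e1]
      _ = _ := by simp [mul_assoc]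
  have hb' : b⁻¹ * n * b = n * (b * n⁻¹ * b⁻¹ * n) := by
    have e : b * (n⁻¹ * b⁻¹ * n) = n⁻¹ * b⁻¹ * n * b := h.comm_b_n h.hb (inv_mem h.hb)
    calc b⁻¹ * n * b = n * (n⁻¹ * b⁻¹ * n * b) := by simp [mul_assoc]
      _ = _ := by rw [← e]; simp [mul_assoc]
  have hy := h.y_conj
  rw [← hn] at hy
  have hUV : u⁻¹ * (n⁻¹ * u * n) = v⁻¹ * (n⁻¹ * v * n) := by rw [hU, hV, hy, hb']
  set x := n⁻¹ * u * n with hx
  set z := n⁻¹ * v * n with hz
  have huv : v * u⁻¹ = u⁻¹ * v := commute_self h.hS (R_mem h.hS h.hA b) hvE (inv_mem huE)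
  have hxz : x * z⁻¹ = z⁻¹ * x := commute_self h.hS (R_mem h.hS h.hC b) hxu (inv_mem hxv)
  have hd : n⁻¹ * (u * v⁻¹) * n = u * v⁻¹ := by
    have e0 : n⁻¹ * (u * v⁻¹) * n = x * z⁻¹ := by rw [hx, hz]; simp [mul_assoc]
    have e1 : x = u * v⁻¹ * z := by
      calc x = u * (u⁻¹ * x) := by simp
        _ = u * (v⁻¹ * z) := by rw [hUV]
        _ = _ := by simp [mul_assoc]
    rw [e0, e1]; simp [mul_assoc]
  set d := u * v⁻¹ with hdd
  have hdE : d ∈ R A b := mul_mem huE (inv_mem hvE)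
  have hd1 : d ≠ 1 := fun e => hne (mul_inv_eq_one.1 e)
  have hAd : R A d ≠ A := fun h0 => hd1 (inv_eq_one.1
    (eq_one_of_normalizes h.pA h.R_b_mem self_mem h.left_R.1.symm (inv_mem hdE) (conjBy_eq_iff.1 h0)))
  have hs := sup_eq h.pA self_mem (conj_mem self_mem (inv_mem (mem_le h.R_b_mem hdE))) (Ne.symm hAd)
  let K := Subgroup.centralizer ({n} : Set G)
  have hK : A ≤ K := fun x hx => Subgroup.mem_centralizer_iff.2 fun m hm => by
    rw [Set.mem_singleton_iff.1 hm]; exact (h.commute_n hx).symm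
  have hdK : d ∈ K := Subgroup.mem_centralizer_iff.2 fun m hm => by
    rw [Set.mem_singleton_iff.1 hm]
    calc n * d = n * (n⁻¹ * d * n) := by rw [hd]
      _ = d * n := by simp [mul_assoc]
  have hBK : B ≤ K := by
    have : conjBy A d⁻¹ ≤ K := fun x hx => by
      have := hK (mem_conjBy.1 hx)
      have h2 := mul_mem (mul_mem (inv_mem hdK) this) hdK
      simpa [mul_assoc] using h2
    exact (le_sup_right (a := A) (b := B)).trans (hs ▸ sup_le hK this)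
  have hBn : R B n = B := R_of_commute fun f hf =>
    (Subgroup.mem_centralizer_iff.1 (hBK hf) n rfl).symm
  refine h.ne ((R_inj (x := b)).1 ?_)
  rw [h.eA, h.eC]
  have hca : a⁻¹ * c * a = c := by
    rw [mul_assoc, ← h.commute_ac h.ha h.hc, inv_mul_cancel_left]
  calc R B a = R (R B n) a := by rw [hBn]
    _ = R B c := by rw [R_R, hn, hca]

end Cfg

end Cfsg.Agent.RootSubgroups.Degenerate
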