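import Cfsg.Agent.Lib.RootSubgroups.DegenerateBase

/-!
# A cubic relation in the configuration of two commuting members with a common partner

With `n = a⁻¹ c` the element `b` lies in the subgroup generated by `R B n`, `R B n²`, `R B n³`.
-/

set_option linter.all false
set_option autoImplicit false

namespace Cfsg.Agent.RootSubgroups.Degenerate

open Cfsg
open Cfsg.Agent.ThreeTransp
open Cfsg.Agent.ThreeTransp.RankOne
open Cfsg.Agent.RootSubgroups.Commutator

variable {G : Type*} [Group G] {S : Set (Subgroup G)}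

namespace Cfg

variable {A B C : Subgroup G} {a b c : G}

/-- The partner in `C` of an element of `A`. -/
theorem relate_A (h : Cfg S A B C a b c) {x : G} (hx : x ∈ A) :
    (b * (a⁻¹ * c) * b⁻¹)⁻¹ * x * (b * (a⁻¹ * c) * b⁻¹) ∈ C ∧
      ⁅R B x, R B ((b * (a⁻¹ * c) * b⁻¹)⁻¹ * x * (b * (a⁻¹ * c) * b⁻¹))⁆ = ⊥ := by
  set n := a⁻¹ * c with hn
  have he : b⁻¹ * x * b ∈ R A b := mem_R_conj hx b
  refine ⟨?_, ?_⟩
  · have := mem_R.1 (h.conj_n_mem he)
    simpa [hn, mul_assoc] using this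
  · have h1 := comm_R (h.relate he) b⁻¹
    rw [R_R, R_R] at h1
    have e1 : b⁻¹ * x * b * b⁻¹ = b⁻¹ * x := mul_inv_cancel_right _ _
    have e2 : n⁻¹ * (b⁻¹ * x * b) * n * b⁻¹ = b⁻¹ * ((b * n * b⁻¹)⁻¹ * x * (b * n * b⁻¹)) := by
      simp [mul_assoc]
    rw [← hn, e1, e2] at h1
    rwa [← R_R B b⁻¹, ← R_R B b⁻¹, R_self (inv_mem h.hb)] at h1

theorem relate_pow (h : Cfg S A B C a b c) (k : ℕ) :
    ⁅B, R B ((a⁻¹ * c) ^ k)⁆ = ⊥ ∧ (a ^ k ≠ 1 → R B ((a⁻¹ * c) ^ k) ≠ B) := by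
  set n := a⁻¹ * c with hn
  set m := b * n * b⁻¹ with hm
  have hmc : m⁻¹ * a * m = c := by
    have h0 := h.conj_u
    rw [← hn] at h0
    calc m⁻¹ * a * m = b * (n⁻¹ * (b⁻¹ * a * b) * n) * b⁻¹ := by rw [hm]; simp [mul_assoc]
      _ = c := by rw [h0]; simp [mul_assoc]
  have hck : m⁻¹ * a ^ k * m = c ^ k := by
    rw [← hmc]
    simpa using (conj_pow (a := m⁻¹) (b := a) (i := k)).symm
  have h1 := (h.relate_A (pow_mem h.ha k)).2
  rw [← hn, ← hm, hck] at h1
  have hcom : Commute a⁻¹ c := h.commute_ac (inv_mem h.ha) h.hc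
  have hnk : n ^ k = (a ^ k)⁻¹ * c ^ k := by rw [hn, hcom.mul_pow, inv_pow]
  have hnk' : c ^ k * (a ^ k)⁻¹ = n ^ k := by
    rw [hnk]; exact (h.commute_ac (inv_mem (pow_mem h.ha k)) (pow_mem h.hc k)).symm
  constructor
  · have h2 := comm_R h1 (a ^ k)⁻¹
    rwa [R_R, R_R, mul_inv_cancel, R_one, hnk'] at h2
  · intro hak e
    have e2 : R B (a ^ k) = R B (c ^ k) := by
      have h0 := congrArg (R · (a ^ k)) e
      simp only [R_R] at h0
      rw [← hnk', inv_mul_cancel_right] at h0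
      exact h0.symm
    have hck1 : c ^ k ≠ 1 := fun h0 => hak (by
      calc a ^ k = m * (m⁻¹ * a ^ k * m) * m⁻¹ := by simp [mul_assoc]
        _ = 1 := by rw [hck, h0]; simp)
    obtain ⟨b', hb', -, e3⟩ := h.pA.cond_left _ (pow_mem h.ha k) hak
    obtain ⟨b'', hb'', -, e4⟩ := h.pC.cond_left _ (pow_mem h.hc k) hck1
    have hAC : A = conjBy C (b' * b''⁻¹) := by
      rw [← conjBy_conjBy, e4, show conjBy B (c ^ k)⁻¹ = R B (c ^ k) from rfl, ← e2,
        show R B (a ^ k) = conjBy B (a ^ k)⁻¹ from rfl, ← e3, conjBy_conjBy, mul_inv_cancel, conjBy_one]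
    have hmem : A ∈ unipotentSubgroups C B := hAC ▸
      conj_mem self_mem (Subgroup.mem_sup_right (mul_mem hb' (inv_mem hb'')))
    exact h.ne (not_commute_mem h.pC hmem self_mem h.comm)

/-- `b` is in the subgroup generated by three translates of `b` by `n`. -/
theorem cubic (h : Cfg S A B C a b c) {M : Subgroup G}
    (h1 : (a⁻¹ * c)⁻¹ * b * (a⁻¹ * c) ∈ M) (h2 : ((a⁻¹ * c) ^ 2)⁻¹ * b * (a⁻¹ * c) ^ 2 ∈ M)
    (h3 : ((a⁻¹ * c) ^ 3)⁻¹ * b * (a⁻¹ * c) ^ 3 ∈ M) : b ∈ M := by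
  set n := a⁻¹ * c with hn
  set T : G ≃* G := MulAut.conj n⁻¹ with hT
  have hTa : ∀ x, T x = n⁻¹ * x * n := fun x => by simp [hT, MulAut.conj_apply]
  set b1 := T b with hb1
  set b2 := T b1 with hb2
  set b3 := T b2 with hb3
  have m1 : b1 = n⁻¹ * b * n := hTa b
  have m2 : b2 = (n ^ 2)⁻¹ * b * n ^ 2 := by rw [hb2, hTa, m1, pow_two]; simp [mul_assoc]
  have m3 : b3 = (n ^ 3)⁻¹ * b * n ^ 3 := by rw [hb3, hTa, m2, pow_succ _ 2]; simp [mul_assoc]
  have han : ∀ x ∈ A, x * n = n * x := fun x hx => h.commute_n hx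
  have hcn : Commute c n := by
    have := h.flip.commute_n h.hc
    have e : c⁻¹ * a = n⁻¹ := by simp [hn]
    rw [e] at this
    exact inv_inv n ▸ Commute.inv_right this
  have hB1 : ∀ x ∈ B, Commute x b1 := fun x hx =>
    commutator_eq_bot_iff.1 h.comm_B x hx _ (by rw [m1]; exact mem_R_conj h.hb n)
  have hB2 : ∀ x ∈ B, Commute x b2 := fun x hx =>
    commutator_eq_bot_iff.1 (h.relate_pow 2).1 x hx _ (by rw [m2]; exact mem_R_conj h.hb _)
  have c01 : Commute b b1 := hB1 b h.hb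
  have c02 : Commute b b2 := hB2 b h.hb
  have c12 : Commute b1 b2 := c01.map T
  set y := b * n⁻¹ * b⁻¹ * n with hy
  have hy' : y = b * b1⁻¹ := by rw [hy, m1]; simp [mul_assoc]
  have hTy : T y = b1 * b2⁻¹ := by rw [hy', map_mul, map_inv]
  have cy : Commute y (T y) := by
    rw [hTy, hy']
    exact ((c01.mul_right c02.inv_right)).mul_left (((Commute.refl b1).mul_right c12.inv_right).inv_left)
  set w := y⁻¹ * T y with hw
  have hya := h.y_conj
  rw [← hn, ← hy] at hya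
  have hwa : Commute a w := by
    have hTa' : T a = a := by rw [hTa, mul_assoc, han a h.ha, inv_mul_cancel_left]
    have hTn : T n = n := by rw [hTa]; simp
    have e2 : a⁻¹ * T y * a = n * T y := by
      have := congrArg T hya
      rwa [map_mul T (a⁻¹ * y) a, map_mul T a⁻¹ y, map_inv, hTa', map_mul T n y, hTn] at this
    have e3 : a⁻¹ * w * a = w := by
      calc a⁻¹ * w * a = (a⁻¹ * y * a)⁻¹ * (a⁻¹ * T y * a) := by rw [hw]; simp [mul_assoc]
        _ = w := by rw [hya, e2, hw]; simp [mul_assoc]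
    calc a * w = a * (a⁻¹ * w * a) := by rw [e3]
      _ = w * a := by simp [mul_assoc]
  have hwB : ∀ x ∈ B, Commute x w := fun x hx => by
    have hxb : Commute x b := commute_self h.hS h.hB hx h.hb
    rw [hw, hTy, hy']
    exact ((hxb.mul_right (hB1 x hx).inv_right).inv_right).mul_right
      ((hB1 x hx).mul_right (hB2 x hx).inv_right)
  have hwA : ∀ x ∈ A, Commute x w := by
    have hmem : R B a ∈ unipotentSubgroups A B :=
      conj_mem (right_mem h.pA) (Subgroup.mem_sup_left (inv_mem h.ha))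
    have hne : R B a ≠ B := fun e => h.left_R.2 (by rw [h.eA, e])
    have hs := sup_eq h.pA hmem (right_mem h.pA) hne
    intro x hx
    have hle : A ⊔ B ≤ Subgroup.centralizer ({w} : Set G) := by
      rw [← hs]
      refine sup_le (fun z hz => ?_) fun z hz => ?_ <;>
        refine Subgroup.mem_centralizer_iff.2 fun g hg => ?_ <;> rw [Set.mem_singleton_iff.1 hg]
      · have h0 : Commute (a * z * a⁻¹) w := hwB _ (mem_R.1 hz)
        have h1 : Commute (a⁻¹ * (a * z * a⁻¹) * a) w := (hwa.inv_left.mul_left h0).mul_left hwa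
        simpa [mul_assoc] using h1.symm.eq
      · exact (hwB z hz).symm.eq
    exact (Subgroup.mem_centralizer_iff.1 (hle (Subgroup.mem_sup_left hx)) w rfl).symm
  have hwc : Commute c w := by
    have f := h.flip
    have e : c⁻¹ * a = n⁻¹ := by simp [hn]
    -- the analogue of `w` for the roles of `A`, `C` exchanged
    set y' := b * n * b⁻¹ * n⁻¹ with hy2
    have hya' := f.y_conj
    rw [e, inv_inv, ← hy2] at hya'
    have hTc : n * c * n⁻¹ = c := by rw [← hcn.eq, mul_inv_cancel_right]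
    set w' := y'⁻¹ * (n * y' * n⁻¹) with hw'
    have hcw' : Commute c w' := by
      have e2 : c⁻¹ * (n * y' * n⁻¹) * c = n⁻¹ * (n * y' * n⁻¹) := by
        have q : c⁻¹ * n = n * c⁻¹ := (hcn.inv_left).eq
        have q' : n⁻¹ * c = c * n⁻¹ := (hcn.inv_right).symm.eq
        calc c⁻¹ * (n * y' * n⁻¹) * c = (c⁻¹ * n) * y' * (n⁻¹ * c) := by simp [mul_assoc]
          _ = n * (c⁻¹ * y' * c) * n⁻¹ := by rw [q, q']; simp [mul_assoc]
          _ = _ := by rw [hya']; simp [mul_assoc]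
      have e3 : c⁻¹ * w' * c = w' := by
        calc c⁻¹ * w' * c = (c⁻¹ * y' * c)⁻¹ * (c⁻¹ * (n * y' * n⁻¹) * c) := by rw [hw']; simp [mul_assoc]
          _ = w' := by rw [hya', e2, hw']; simp [mul_assoc]
      calc c * w' = c * (c⁻¹ * w' * c) := by rw [e3]
        _ = w' * c := by simp [mul_assoc]
    have hy'' : y' = n * y⁻¹ * n⁻¹ := by rw [hy2, hy]; simp [mul_assoc]
    have hww : w = T (T w') := by
      rw [hw, (cy.inv_left).eq, hw', hy'', hTa y, hTa, hTa]
      simp [mul_assoc]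
    rw [hww]
    have hTc' : T c = c := by rw [hTa, mul_assoc, hcn.eq, inv_mul_cancel_left]
    have := (hcw'.map T).map T
    rwa [hTc', hTc'] at this
  have hTw : T w = w := by
    have : Commute w n := ((hwA a h.ha).symm.inv_right).mul_right hwc.symm
    rw [hTa, mul_assoc, this.eq, inv_mul_cancel_left]
  rw [hw, hTy, hy'] at hTw
  simp only [map_mul, map_inv] at hTw
  rw [← hb1, ← hb2, ← hb3] at hTw
  have key : b⁻¹ = b1⁻¹ * ((b1 * b2⁻¹)⁻¹ * (b2 * b3⁻¹)) * b2 * b1⁻¹ := by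
    rw [hTw]; simp [mul_assoc]
  rw [← inv_inv b]
  refine inv_mem ?_
  rw [key]
  rw [← m1] at h1
  rw [← m2] at h2
  rw [← m3] at h3
  exact mul_mem (mul_mem (mul_mem (inv_mem h1)
    (mul_mem (inv_mem (mul_mem h1 (inv_mem h2))) (mul_mem h2 (inv_mem h3)))) h2) (inv_mem h1)

end Cfg

end Cfsg.Agent.RootSubgroups.Degenerate
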