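import Cfsg.Agent.Lib.RootSubgroups.Commutator

/-!
The graph of rank one pairs.
-/

set_option linter.all false
set_option autoImplicit false

namespace Cfsg.Agent.RootSubgroups.Graph

open Cfsg
open Cfsg.Agent.ThreeTransp
open Cfsg.Agent.ThreeTransp.RankOne
open Cfsg.Agent.RootSubgroups.Commutator

variable {G : Type*} [Group G] {S : Set (Subgroup G)}

/-- Every non-identity element of `N` lies in a member of `S`. -/
def Covered (S : Set (Subgroup G)) (N : Subgroup G) : Prop := ∀ x ∈ N, x ≠ 1 → ∃ C ∈ S, x ∈ C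

theorem Covered.mono {M N : Subgroup G} (h : Covered S N) (hle : M ≤ N) : Covered S M :=
  fun x hx => h x (hle hx)

theorem covered_of_line {A B : Subgroup G} (h : B ∈ linePartners S A) : Covered S (A ⊔ B) :=
  fun x hx hx1 => by obtain ⟨C, hC, hxC⟩ := h.2.2.1 x hx hx1; exact ⟨C, hC.1, hxC⟩

theorem covered_case (hS : IsRootSubgroupSet S) {A B : Subgroup G} (hA : A ∈ S) (hB : B ∈ S)
    (hiso : ¬ IsIsolatedIn (FAdj S) S A) (h : RootCommutatorCase S A B) : Covered S (A ⊔ ⁅A, B⁆) :=
  fun x hx hx1 => by obtain ⟨C, hC, hxC⟩ := (line hS hA hB hiso h).2.1.2.1 x hx hx1; exact ⟨C, hC.1, hxC⟩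

/-- A partner of `A` does not commute with a member sharing a covered sum with `A`. -/
theorem not_commute_covered (hS : IsRootSubgroupSet S) {A B D : Subgroup G} (hA : A ∈ S) (hB : B ∈ S)
    (hD : D ∈ S) (hp : IsRankOnePair A D) (hAB : ⁅A, B⁆ = ⊥) (hcov : Covered S (A ⊔ B)) :
    ⁅D, B⁆ ≠ ⊥ := by
  intro hDB
  obtain ⟨a, ha, ha1⟩ := exists_ne_one hp
  obtain ⟨b, hb, hb1⟩ := (Subgroup.bot_or_exists_ne_one B).resolve_left (hS.ne_bot _ hB)
  have hz : b ∈ Subgroup.centralizer ((A ⊔ D : Subgroup G) : Set G) := by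
    have hle : A ⊔ D ≤ Subgroup.centralizer ({b} : Set G) := sup_le
      (fun x hx => Subgroup.mem_centralizer_singleton_iff.2 (RankOne.commutator_eq_bot_iff.1 hAB x hx b hb))
      (fun x hx => Subgroup.mem_centralizer_singleton_iff.2 (RankOne.commutator_eq_bot_iff.1 hDB x hx b hb))
    exact Subgroup.mem_centralizer_iff.2 fun x hx => Subgroup.mem_centralizer_singleton_iff.1 (hle hx)
  have hne : b * a ≠ 1 := fun e => by
    have hbA : b ∈ A := by rw [eq_inv_of_mul_eq_one_left e]; exact inv_mem ha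
    exact hb1 (inf_normalizer hp hbA (mem_normalizer_of_centralizes fun d hd =>
      (RankOne.commutator_eq_bot_iff.1 hDB d hd b hb).symm))
  obtain ⟨E, hE, hm⟩ := hcov _ (mul_mem (Subgroup.mem_sup_right hb) (Subgroup.mem_sup_left ha)) hne
  exact RootSets.mul_notMem_rootElements hS hA ⟨hD, hp⟩ hz hb1 ha ha1 ⟨hne, E, hE, hm⟩

/-- A partner of `A` is not in the commutator case with two members whose sum meets `A`. -/
theorem not_two_cases (hS : IsRootSubgroupSet S) {A B E D : Subgroup G} (hA : A ∈ S) (hB : B ∈ S)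
    (hE : E ∈ S) (hD : D ∈ S) (hp : IsRankOnePair A D) (hDB : RootCommutatorCase S D B)
    (hDE : RootCommutatorCase S D E) {a e b : G} (ha : a ∈ A) (ha1 : a ≠ 1) (he : e ∈ E) (hb : b ∈ B)
    (hab : a = e * b) : False := by
  have hmove : conjBy D a ≠ D := fun h => ha1 (inf_normalizer hp ha (conjBy_eq_iff.1 h))
  have h1 : IsRankOnePair (conjBy D a) D :=
    pair_mem hp (conj_mem (right_mem hp) (Subgroup.mem_sup_left ha)) (right_mem hp) hmove
  have h2 : IsRankOnePair (conjBy D e⁻¹) (conjBy D b) := by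
    have h := rankOne_conj h1 e⁻¹
    rw [conjBy_conjBy, hab, inv_mul_cancel_left] at h
    exact RankOnePair_symm h
  have hiso := not_isolated hD hA (RankOnePair_symm hp)
  refine not_commute_covered hS (hS.conj_mem D hD e⁻¹) hD (hS.conj_mem D hD b) h2
    (RootSets.case_conj_commute hS hD (case_symm hDE) (inv_mem he)) ?_
    (RootSets.case_conj_commute hS hD (case_symm hDB) hb)
  exact (covered_case hS hD hE hiso hDE).mono (sup_le (Commutator.conj_le hS hDE (inv_mem he)) le_sup_left)

theorem symm {A B : Subgroup G} (h : Relation.ReflTransGen (FAdj S) A B) :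
    Relation.ReflTransGen (FAdj S) B A := by
  induction h with
  | refl => exact .refl
  | tail _ h ih => exact (Relation.ReflTransGen.single ⟨h.2.1, h.1, RankOnePair_symm h.2.2⟩).trans ih

theorem not_isolated_of_path {A B : Subgroup G} (h : Relation.ReflTransGen (FAdj S) A B) (hne : B ≠ A) :
    ¬ IsIsolatedIn (FAdj S) S A := by
  rcases Relation.ReflTransGen.cases_head h with e | ⟨C, hC, -⟩
  · exact absurd e.symm hne
  · exact fun hiso => (hiso.2 C).1 hC

/-- Two commuting non-isolated members with covered sum lie in one component. -/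
theorem covered_connected (hS : IsRootSubgroupSet S) {A B : Subgroup G} (hA : A ∈ S) (hB : B ∈ S)
    (hAi : ¬ IsIsolatedIn (FAdj S) S A) (hBi : ¬ IsIsolatedIn (FAdj S) S B) (hAB : ⁅A, B⁆ = ⊥)
    (hpart : ∀ x ∈ A ⊔ B, x ≠ 1 → ∃ C ∈ membersIn S (A ⊔ B), x ∈ C) :
    Relation.ReflTransGen (FAdj S) A B := by
  by_cases hne : A = B
  · subst hne; exact .refl
  obtain ⟨D, hD, hp⟩ := RootSets.exists_partner hS hAi hA
  obtain ⟨D', hD', hp'⟩ := RootSets.exists_partner hS hBi hB
  obtain ⟨a, ha, ha1⟩ := exists_ne_one hp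
  obtain ⟨b, hb, hb1⟩ := exists_ne_one hp'
  have hne1 : a * b ≠ 1 := fun e => ha1 (by
    have haB : a ∈ B := by rw [eq_inv_of_mul_eq_one_left e]; exact inv_mem hb
    exact Subgroup.mem_bot.1 (((S5028.result hS hAi hA B hB).resolve_right hne).le ⟨ha, haB⟩))
  have hcov : Covered S (A ⊔ B) := fun x hx hx1 => by
    obtain ⟨C, hC, hxC⟩ := hpart x hx hx1; exact ⟨C, hC.1, hxC⟩
  obtain ⟨E, ⟨hE, hEle⟩, hm⟩ := hpart _ (mul_mem (Subgroup.mem_sup_left ha) (Subgroup.mem_sup_right hb)) hne1
  have hab : A ⊔ B ≤ Subgroup.centralizer ((A ⊔ B : Subgroup G) : Set G) := by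
    have hA' : A ⊔ B ≤ Subgroup.centralizer (A : Set G) := sup_le
      (fun x hx => Subgroup.mem_centralizer_iff.2 fun y hy => RootSets.comm_self hS hA y hy x hx)
      (fun x hx => Subgroup.mem_centralizer_iff.2 fun y hy => RankOne.commutator_eq_bot_iff.1 hAB y hy x hx)
    have hB' : A ⊔ B ≤ Subgroup.centralizer (B : Set G) := sup_le
      (fun x hx => Subgroup.mem_centralizer_iff.2 fun y hy => (RankOne.commutator_eq_bot_iff.1 hAB x hx y hy).symm)
      (fun x hx => Subgroup.mem_centralizer_iff.2 fun y hy => RootSets.comm_self hS hB y hy x hx)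
    exact Subgroup.le_centralizer_iff.1 (sup_le (Subgroup.le_centralizer_iff.1 hA') (Subgroup.le_centralizer_iff.1 hB'))
  have hcomm : ∀ X, X ≤ A ⊔ B → ⁅X, E⁆ = ⊥ := fun X hX => by
    rw [Subgroup.commutator_eq_bot_iff_le_centralizer]
    exact hX.trans (hab.trans (Subgroup.centralizer_le hEle))
  by_cases hDB : IsRankOnePair D B
  · exact (Relation.ReflTransGen.single (show FAdj S A D from ⟨hA, hD, hp⟩)).tail ⟨hD, hB, hDB⟩
  by_cases hD'A : IsRankOnePair D' A
  · exact symm ((Relation.ReflTransGen.single (show FAdj S B D' from ⟨hB, hD', hp'⟩)).tail ⟨hD', hA, hD'A⟩)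
  have cDB : RootCommutatorCase S D B :=
    ((hS.pair D hD B hB).resolve_left (not_commute_covered hS hA hB hD hp hAB hcov)).resolve_left hDB
  have cD'A : RootCommutatorCase S D' A :=
    ((hS.pair D' hD' A hA).resolve_left (not_commute_covered hS hB hA hD' hp'
      (by rw [Subgroup.commutator_comm]; exact hAB) (hcov.mono (sup_comm B A).le))).resolve_left hD'A
  have rDE : IsRankOnePair D E := by
    rcases hS.pair D hD E hE with h | h | h
    · exact absurd h (not_commute_covered hS hA hE hD hp (hcomm A le_sup_left) (hcov.mono (sup_le le_sup_left hEle)))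
    · exact h
    · exact (not_two_cases hS hA hB hE hD hp cDB h ha ha1 hm (inv_mem hb) (by rw [mul_inv_cancel_right])).elim
  have rD'E : IsRankOnePair D' E := by
    rcases hS.pair D' hD' E hE with h | h | h
    · exact absurd h (not_commute_covered hS hB hE hD' hp' (hcomm B le_sup_right) (hcov.mono (sup_le le_sup_right hEle)))
    · exact h
    · exact (not_two_cases hS hB hA hE hD' hp' cD'A h hb hb1 hm (inv_mem ha) (by
        rw [RankOne.commutator_eq_bot_iff.1 hAB a ha b hb, mul_inv_cancel_right])).elim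
  exact (((Relation.ReflTransGen.single (show FAdj S A D from ⟨hA, hD, hp⟩)).tail ⟨hD, hE, rDE⟩).tail
    ⟨hE, hD', RankOnePair_symm rD'E⟩).tail ⟨hD', hB, RankOnePair_symm hp'⟩

theorem line_connected (hS : IsRootSubgroupSet S) {A B : Subgroup G} (hA : A ∈ S) (hB : B ∈ linePartners S A)
    (hAi : ¬ IsIsolatedIn (FAdj S) S A) (hBi : ¬ IsIsolatedIn (FAdj S) S B) :
    Relation.ReflTransGen (FAdj S) A B :=
  covered_connected hS hA hB.1.1 hAi hBi hB.1.2.2 hB.2.2.1

theorem isolated_conj (hS : IsRootSubgroupSet S) {A : Subgroup G} (hA : A ∈ S)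
    (h : ¬ IsIsolatedIn (FAdj S) S A) (g : G) : ¬ IsIsolatedIn (FAdj S) S (conjBy A g) := by
  obtain ⟨D, hD, hp⟩ := RootSets.exists_partner hS h hA
  exact not_isolated (hS.conj_mem A hA g) (hS.conj_mem D hD g) (rankOne_conj hp g)

theorem path_conj (hS : IsRootSubgroupSet S) {A B : Subgroup G} (h : Relation.ReflTransGen (FAdj S) A B) (g : G) :
    Relation.ReflTransGen (FAdj S) (conjBy A g) (conjBy B g) := by
  induction h with
  | refl => exact .refl
  | @tail X Y _ h ih => exact ih.tail ⟨hS.conj_mem X h.1 g, hS.conj_mem Y h.2.1 g, rankOne_conj h.2.2 g⟩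

theorem exists_conj_of_path {A B : Subgroup G} (h : Relation.ReflTransGen (FAdj S) A B) :
    ∃ g : G, B = conjBy A g := by
  induction h with
  | refl => exact ⟨1, (conjBy_one A).symm⟩
  | @tail X Y _ h ih =>
    obtain ⟨g, rfl⟩ := ih
    obtain ⟨x, -, e⟩ := right_mem h.2.2
    exact ⟨x * g, e.trans (conjBy_conjBy _ _ _)⟩

/-- Connected iff a class with a rank one pair. -/
theorem connected_iff (hS : IsRootSubgroupSet S) (h2 : ∃ A ∈ S, ∃ B ∈ S, A ≠ B) :
    IsConnectedFamily (FAdj S) S ↔ (IsConjClassOfSubgroups S ∧ ∃ A ∈ S, ¬ IsIsolatedIn (FAdj S) S A) := by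
  constructor
  · intro h
    obtain ⟨A, hA, B, hB, hne⟩ := h2
    exact ⟨⟨⟨A, hA⟩, fun X hX Y hY => exists_conj_of_path (h X hX Y hY)⟩, A, hA,
      not_isolated_of_path (h A hA B hB) hne.symm⟩
  · rintro ⟨⟨-, hconj⟩, A₀, hA₀, hiso₀⟩
    have hiso : ∀ A ∈ S, ¬ IsIsolatedIn (FAdj S) S A := fun A hA => by
      obtain ⟨g, rfl⟩ := hconj A₀ hA₀ A hA
      exact isolated_conj hS hA₀ hiso₀ g
    have step : ∀ A ∈ S, ∀ B ∈ S, ∀ b ∈ B, Relation.ReflTransGen (FAdj S) A (conjBy A b) := by
      intro A hA B hB b hb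
      rcases hS.pair A hA B hB with h | h | h
      · rw [conjBy_eq_iff.2 (mem_normalizer_of_centralizes fun a ha => (RankOne.commutator_eq_bot_iff.1 h a ha b hb).symm)]
      · have h1 : FAdj S (conjBy A b) (conjBy B b) := ⟨hS.conj_mem A hA b, hS.conj_mem B hB b, rankOne_conj h b⟩
        rw [conjBy_eq_self_of_mem hb] at h1
        exact (Relation.ReflTransGen.single (show FAdj S A B from ⟨hA, hB, h⟩)).trans (symm (.single h1))
      · have hAb := RootSets.case_conj_commute hS hA (case_symm h) hb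
        rw [Subgroup.commutator_comm] at hAb
        refine covered_connected hS hA (hS.conj_mem A hA b) (hiso A hA) (hiso _ (hS.conj_mem A hA b)) hAb ?_
        intro x hx hx1
        by_cases e : conjBy A b = A
        · exact ⟨A, ⟨hA, le_sup_left⟩, by rwa [e, sup_idem] at hx⟩
        have hle : A ⊔ conjBy A b ≤ A ⊔ ⁅A, B⁆ := sup_le le_sup_left (Commutator.conj_le hS h hb)
        obtain ⟨C, hC, hxC⟩ := (line hS hA hB (hiso A hA) h).2.1.2.1 x (hle hx) hx1
        refine ⟨C, ⟨hC.1, hC.2.trans ?_⟩, hxC⟩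
        refine sup_le le_sup_left fun c hc => ?_
        have hb1 : b ≠ 1 := fun e0 => e (by rw [e0, conjBy_one])
        obtain ⟨a, ha, e0⟩ := exists_left h hb hb1 hc
        rw [← e0, show a * b * a⁻¹ * b⁻¹ = a * (b * a⁻¹ * b⁻¹) by simp [mul_assoc]]
        exact mul_mem (Subgroup.mem_sup_left ha) (Subgroup.mem_sup_right (conj_mem_conjBy (inv_mem ha)))
    have all : ∀ g : G, ∀ A ∈ S, Relation.ReflTransGen (FAdj S) A (conjBy A g) := by
      intro g
      have hg : g ∈ ⨆ A ∈ S, A := hS.generates ▸ Subgroup.mem_top g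
      rw [iSup_subtype', Subgroup.iSup_eq_closure] at hg
      induction hg using Subgroup.closure_induction with
      | mem x hx =>
        obtain ⟨⟨B, hB⟩, hxB⟩ := Set.mem_iUnion.1 hx
        exact fun A hA => step A hA B hB x hxB
      | one => intro A hA; rw [conjBy_one]
      | mul x y _ _ ix iy =>
        intro A hA
        rw [← conjBy_conjBy]
        exact (iy A hA).trans (ix _ (hS.conj_mem A hA y))
      | inv x _ ix =>
        intro A hA
        have := ix _ (hS.conj_mem A hA x⁻¹)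
        rw [conjBy_conjBy, mul_inv_cancel, conjBy_one] at this
        exact symm this
    intro A hA B hB
    obtain ⟨g, rfl⟩ := hconj A hA B hB
    exact all g A hA

/-- The image of a connected set of root subgroups. -/
theorem image (hS : IsRootSubgroupSet S) {H : Type*} [Group H]
    (hc : IsConnectedFamily (FAdj S) S) (f : G →* H) (hf : Function.Surjective f) :
    (IsRootSubgroupSet ((fun A : Subgroup G => A.map f) '' S) ∧
      IsConnectedFamily (FAdj ((fun A : Subgroup G => A.map f) '' S)) ((fun A : Subgroup G => A.map f) '' S)) ∨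
    ∃ A ∈ S, A.map f = ⊤ := by
  have hmap : ∀ (A : Subgroup G) (g : G), (conjBy A g).map f = conjBy (A.map f) (f g) := fun A g => by
    show (A.map _).map f = (A.map f).map _
    rw [Subgroup.map_map, Subgroup.map_map]
    congr 1
    ext x
    simp
  by_cases hbot : ∃ A ∈ S, A.map f = ⊥
  · obtain ⟨A, hA, hA0⟩ := hbot
    refine Or.inr ⟨A, hA, top_le_iff.1 ?_⟩
    have hz : ∀ X ∈ S, X.map f = ⊥ := fun X hX => by
      obtain ⟨g, rfl⟩ := exists_conj_of_path (hc A hA X hX)
      rw [hmap, hA0]; exact Subgroup.map_bot _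
    calc (⊤ : Subgroup H) = (⨆ X ∈ S, X).map f := by
          rw [hS.generates, Subgroup.map_top_of_surjective f hf]
      _ ≤ A.map f := by
          rw [Subgroup.map_le_iff_le_comap]
          exact iSup₂_le fun X hX => Subgroup.map_le_iff_le_comap.1 ((hz X hX).le.trans bot_le)
  push Not at hbot
  have pairImg : ∀ A B, IsRankOnePair A B → A.map f = B.map f ∨ IsRankOnePair (A.map f) (B.map f) := by
    intro A B h
    refine or_iff_not_imp_left.2 fun hne => ?_
    have cond : ∀ {A B : Subgroup G}, A.map f ≠ B.map f → RankOneCondition A B → RankOneCondition (A.map f) (B.map f) := by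
      intro A B hne hc x hx hx1
      obtain ⟨a, ha, rfl⟩ := hx
      obtain ⟨b, hb, -, e⟩ := hc a ha (fun e => hx1 (by rw [e, map_one]))
      have e' := congrArg (Subgroup.map f) e
      rw [hmap, hmap, map_inv, map_inv] at e'
      refine ⟨f b, ⟨b, hb, rfl⟩, fun hb1 => ?_, e'⟩
      rw [hb1, inv_one, conjBy_one] at e'
      have h3 := eq_conjBy_inv e'.symm
      rw [inv_inv, conjBy_eq_self_of_mem (⟨a, ha, rfl⟩ : f a ∈ A.map f)] at h3
      exact hne h3.symm
    refine ⟨hne, ?_, ?_, cond hne h.cond_left, cond (Ne.symm hne) h.cond_right⟩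
    · haveI := h.nilpotent_left
      exact Group.nilpotent_of_surjective _ (f.subgroupMap_surjective A)
    · haveI := h.nilpotent_right
      exact Group.nilpotent_of_surjective _ (f.subgroupMap_surjective B)
  refine Or.inl ⟨⟨?_, ?_, ?_, ?_, ?_⟩, ?_⟩
  · rintro _ ⟨A, hA, rfl⟩
    haveI := hS.commutative A hA
    infer_instance
  · rintro _ ⟨A, hA, rfl⟩
    exact hbot A hA
  · rw [eq_top_iff, ← Subgroup.map_top_of_surjective f hf, ← hS.generates, Subgroup.map_le_iff_le_comap]
    exact iSup₂_le fun X hX => Subgroup.map_le_iff_le_comap.1 (le_iSup₂_of_le (X.map f) ⟨X, hX, rfl⟩ le_rfl)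
  · rintro _ ⟨A, hA, rfl⟩ h
    obtain ⟨g, rfl⟩ := hf h
    exact ⟨_, hS.conj_mem A hA g, hmap A g⟩
  · rintro _ ⟨A, hA, rfl⟩ _ ⟨B, hB, rfl⟩
    rcases hS.pair A hA B hB with h | h | h
    · left; rw [← Subgroup.map_commutator, h, Subgroup.map_bot]
    · rcases pairImg A B h with e | h'
      · left
        simp only [e]
        exact RankOne.commutator_eq_bot_iff.2 (by
          rintro _ ⟨x, hx, rfl⟩ _ ⟨y, hy, rfl⟩
          rw [← map_mul, ← map_mul, RootSets.comm_self hS hB x hx y hy])
      · exact Or.inr (Or.inl h')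
    · refine Or.inr (Or.inr ?_)
      obtain ⟨h1, h2, h3, h4⟩ := h
      rw [RootCommutatorCase, ← Subgroup.map_commutator]
      refine ⟨⟨_, h1, rfl⟩, ?_, ?_, ?_⟩
      · rintro _ ⟨c, hc, rfl⟩ x hx
        rw [← Subgroup.map_sup] at hx
        obtain ⟨y, hy, rfl⟩ := hx
        rw [← map_mul, ← map_mul, h2 c hc y hy]
      · rintro _ ⟨a, ha, rfl⟩ hne
        rw [← h3 a ha (fun e => hne (by rw [e, map_one])), MonoidHom.map_closure, Subgroup.coe_map,
          Set.image_image, Set.image_image]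
        simp
      · rintro _ ⟨b, hb, rfl⟩ hne
        rw [← h4 b hb (fun e => hne (by rw [e, map_one])), MonoidHom.map_closure, Subgroup.coe_map,
          Set.image_image, Set.image_image]
        simp
  · rintro _ ⟨A, hA, rfl⟩ _ ⟨B, hB, rfl⟩
    have := hc A hA B hB
    clear hB
    induction this with
    | refl => exact .refl
    | @tail X Y _ h ih =>
      rcases pairImg X Y h.2.2 with e | h'
      · simp only [← e]; exact ih
      · exact ih.tail ⟨⟨X, h.1, rfl⟩, ⟨Y, h.2.1, rfl⟩, h'⟩

end Cfsg.Agent.RootSubgroups.Graph
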