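import Cfsg.Agent.Lib.RootSubgroups.LineClass

/-!
Centralizer sets and partner sets of members are incomparable.
-/

set_option linter.all false
set_option autoImplicit false

namespace Cfsg.Agent.RootSubgroups.Incomparable

open Cfsg
open Cfsg.Agent.ThreeTransp
open Cfsg.Agent.ThreeTransp.RankOne
open Cfsg.Agent.RootSubgroups.Commutator
open Cfsg.Agent.RootSubgroups.Lines
open Cfsg.Agent.RootSubgroups.LineClass

variable {G : Type*} [Group G] {S : Set (Subgroup G)}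

theorem comm_symm {A B : Subgroup G} (h : ⁅A, B⁆ = ⊥) : ⁅B, A⁆ = ⊥ := by rwa [Subgroup.commutator_comm]

theorem self_bot (hS : IsRootSubgroupSet S) {A : Subgroup G} (hA : A ∈ S) : ⁅A, A⁆ = ⊥ :=
  RankOne.commutator_eq_bot_iff.2 (RootSets.comm_self hS hA)

theorem commute_conj {A B : Subgroup G} (h : ⁅A, B⁆ = ⊥) (g : G) : ⁅conjBy A g, conjBy B g⁆ = ⊥ := by
  rw [← commutator_conj, h]; exact Subgroup.map_bot _

theorem commute_of_conj {A B : Subgroup G} (g : G) (h : ⁅conjBy A g, conjBy B g⁆ = ⊥) : ⁅A, B⁆ = ⊥ := by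
  have := commute_conj h g⁻¹
  simpa only [conjBy_conjBy, inv_mul_cancel, conjBy_one] using this

/-- `C` centralizes `F` but then not `[D, F]`, for a partner `D` of `C`. -/
theorem no_triangle (hS : IsRootSubgroupSet S) {C D F : Subgroup G} (hp : IsRankOnePair C D)
    (h : RootCommutatorCase S D F) (hCF : ⁅C, F⁆ = ⊥) (hCR : ⁅C, ⁅D, F⁆⁆ = ⊥) : False := by
  obtain ⟨c, hc, hc1⟩ := exists_ne_one hp
  obtain ⟨d, hd, -, e⟩ := hp.cond_left c hc hc1
  refine hS.ne_bot _ h.1 ?_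
  have h1 : ⁅conjBy D c⁻¹, conjBy F d⁻¹⁆ = ⊥ := by rw [← e]; exact commute_conj hCF _
  have h2 := commute_conj h1 c
  rw [conjBy_conjBy, mul_inv_cancel, conjBy_one] at h2
  have hle : conjBy F d⁻¹ ≤ F ⊔ ⁅D, F⁆ := by
    have := Commutator.conj_le hS (case_symm h) (b := d⁻¹) (inv_mem hd)
    rwa [Subgroup.commutator_comm F D] at this
  have hcen : c ∈ Subgroup.centralizer ((F ⊔ ⁅D, F⁆ : Subgroup G) : Set G) :=
    (Subgroup.le_centralizer_iff.1 (sup_le
      (Subgroup.le_centralizer_iff.1 (Subgroup.commutator_eq_bot_iff_le_centralizer.1 hCF))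
      (Subgroup.le_centralizer_iff.1 (Subgroup.commutator_eq_bot_iff_le_centralizer.1 hCR)))) hc
  have hfix : conjBy (conjBy F d⁻¹) c = conjBy F d⁻¹ :=
    conjBy_eq_iff.2 (mem_normalizer_of_centralizes fun x hx =>
      (Subgroup.mem_centralizer_iff.1 hcen x (hle hx)).symm)
  rw [hfix] at h2
  have h3 : ⁅conjBy D d⁻¹, conjBy F d⁻¹⁆ = ⊥ := by rwa [conjBy_eq_self_of_mem (inv_mem hd)]
  exact commute_of_conj _ h3

section

variable (hS : IsRootSubgroupSet S) (hF : ∀ A ∈ S, ¬ IsIsolatedIn (FAdj S) S A)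
include hS hF

/-- Members other than the distinguished one of a line are partners. -/
theorem line_partners {A C D : Subgroup G} (hA : A ∈ S) (hC : C ∈ linePartners S A) (hD : D ∈ S)
    (hp : IsRankOnePair A D) :
    ∃ E, RootCommutatorCase S D E ∧ E ∈ membersIn S (A ⊔ C) ∧ E ≠ A ∧
      ∀ M ∈ membersIn S (A ⊔ C), M ≠ E → IsRankOnePair M D := by
  obtain ⟨E, hE, heq, hDE, hcase, hopp⟩ := line_structure hS hF hA hC hD hp
  refine ⟨E, hDE, ⟨hE.1.1, le_sup_right.trans heq.le⟩, hE.1.2.1, fun M hM hne => ?_⟩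
  obtain ⟨p, hpP, rfl⟩ := line_members hS hF hA hDE.1 hcase hopp (heq ▸ hM) hne
  have := rankOne_conj hp p
  rwa [fix_of_commute (case_comm_left hDE) hpP] at this

theorem exists_opposite {A E : Subgroup G} (hA : A ∈ S) (hE : E ∈ S) (h : RootCommutatorCase S A E) :
    ∃ Q ∈ S, RootCommutatorCase S ⁅A, E⁆ Q ∧ ⁅⁅A, E⁆, Q⁆ = A := by
  obtain ⟨-, -, l⟩ := line hS hA hE (hF A hA) h
  have hC : ⁅A, E⁆ ∈ linePartners S A := linePartners_symm h.1 l
  obtain ⟨D, hD, hp⟩ := RootSets.exists_partner hS (hF A hA) hA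
  obtain ⟨E₀, P, hPS, hE₀, hAE, -, -, hcase, hAP, -⟩ := line_data hS hF hA hC hD hp
  have hAm : A ∈ membersIn S (A ⊔ ⁅A, E⁆) := ⟨hA, le_sup_left⟩
  obtain ⟨x, -, x1, x2⟩ := (two_transitive hS hF hA hC).1 A hAm E₀
    ⟨hE₀.1.1, hAE ▸ le_sup_right⟩ ⁅A, E⁆ ⟨h.1, le_sup_right⟩ A hAm (Ne.symm hE₀.1.2.1) hC.1.2.1
  refine ⟨conjBy P x, hS.conj_mem P hPS x, ?_, ?_⟩
  · have := case_conj hS hA hPS hcase x
    rwa [x1] at this
  · have := congrArg (conjBy · x) hAP
    simp only [commutator_conj, x1, x2] at this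
    exact this

theorem key_rankOne {A C : Subgroup G} (hA : A ∈ S) (hAC : ∀ M ∈ S, ⁅M, A⁆ = ⊥ → ⁅M, C⁆ = ⊥)
    {D : Subgroup G} (hD : D ∈ S) (hp : IsRankOnePair C D) : IsRankOnePair A D := by
  rcases hS.pair A hA D hD with h | h | h
  · exact absurd (comm_symm (hAC D hD (comm_symm h))) (not_commute hp)
  · exact h
  · exfalso
    refine no_triangle hS hp (case_symm h) (comm_symm (hAC A hA (self_bot hS hA))) ?_
    refine comm_symm (hAC _ (case_symm h).1 ?_)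
    exact comm_symm (case_comm_right (case_symm h))

/-- A containment of centralizer sets is symmetric. -/
theorem centralizing_symm {A C : Subgroup G} (hA : A ∈ S) (hC : C ∈ S) (hne : A ≠ C)
    (hAC : ∀ M ∈ S, ⁅M, A⁆ = ⊥ → ⁅M, C⁆ = ⊥) {E : Subgroup G} (hE : E ∈ S) (hEC : ⁅E, C⁆ = ⊥) :
    ⁅E, A⁆ = ⊥ := by
  by_contra hEA
  obtain ⟨D, hD, hp⟩ := RootSets.exists_partner hS (hF C hC) hC
  have cAC : ⁅A, C⁆ = ⊥ := hAC A hA (self_bot hS hA)
  have invC : ∀ U : Subgroup G, (∀ M ∈ S, ⁅M, U⁆ = ⊥ → ⁅M, C⁆ = ⊥) → ∀ x : G, conjBy C x = C →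
      ∀ M ∈ S, ⁅M, conjBy U x⁆ = ⊥ → ⁅M, C⁆ = ⊥ := by
    intro U hU x hx M hM h
    refine commute_of_conj x⁻¹ ?_
    rw [show conjBy C x⁻¹ = C from (eq_conjBy_inv hx).symm]
    refine hU _ (hS.conj_mem M hM _) ?_
    have := commute_conj h x⁻¹
    rwa [conjBy_conjBy U x⁻¹ x, inv_mul_cancel, conjBy_one] at this
  have fixC : ∀ U : Subgroup G, ⁅U, C⁆ = ⊥ → ∀ u ∈ U, conjBy C u = C :=
    fun U h u hu => fix_of_commute (comm_symm h) hu
  rcases hS.pair A hA E hE with h | h | h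
  · exact hEA (comm_symm h)
  · obtain ⟨x, hx, ex⟩ := right_mem h
    have hxC : conjBy C x = C := by
      refine conjBy_eq_iff.2 ((sup_le ?_ ?_ : A ⊔ E ≤ Subgroup.normalizer (C : Set G)) hx)
      · exact fun u hu => conjBy_eq_iff.1 (fixC A cAC u hu)
      · exact fun u hu => conjBy_eq_iff.1 (fixC E hEC u hu)
    have hEC' : ∀ M ∈ S, ⁅M, E⁆ = ⊥ → ⁅M, C⁆ = ⊥ := by rw [ex]; exact invC A hAC x hxC
    have hpA := key_rankOne hS hF hA hAC hD hp
    have hpE := key_rankOne hS hF hE hEC' hD hp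
    obtain ⟨d, hd, hd1⟩ := exists_ne_one (RankOnePair_symm hp)
    obtain ⟨c, hc, hc1, ec⟩ := hp.cond_right d hd hd1
    obtain ⟨a, ha, ha1, ea⟩ := hpA.cond_right d hd hd1
    obtain ⟨e, he, he1, ee⟩ := hpE.cond_right d hd hd1
    -- `conjBy D (u c⁻¹)` commutes with `D` and `C_S(D)` centralizes it
    have facts : ∀ U : Subgroup G, U ∈ S → ⁅U, C⁆ = ⊥ → (∀ M ∈ S, ⁅M, U⁆ = ⊥ → ⁅M, C⁆ = ⊥) →
        ∀ u ∈ U, conjBy D u⁻¹ = conjBy U d⁻¹ →
        ⁅conjBy D (u * c⁻¹), D⁆ = ⊥ ∧ ∀ M ∈ S, ⁅M, D⁆ = ⊥ → ⁅M, conjBy D (u * c⁻¹)⁆ = ⊥ := by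
      intro U hU hUC hU' u hu eu
      have h2 : ∀ M ∈ S, ⁅M, D⁆ = ⊥ → ⁅M, conjBy D (u * c⁻¹)⁆ = ⊥ := by
        intro M hM h
        refine commute_of_conj u⁻¹ ?_
        rw [conjBy_conjBy, inv_mul_cancel_left, ec]
        have h3 := commute_conj h u⁻¹
        rw [eu] at h3
        refine commute_of_conj d ?_
        have h4 := commute_conj h3 d
        rw [conjBy_conjBy U, mul_inv_cancel, conjBy_one] at h4
        rw [conjBy_conjBy C, mul_inv_cancel, conjBy_one]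
        exact hU' _ (hS.conj_mem _ (hS.conj_mem M hM _) _) h4
      exact ⟨comm_symm (h2 D hD (self_bot hS hD)), h2⟩
    obtain ⟨fA, fA'⟩ := facts A hA cAC hAC a ha ea
    obtain ⟨fE, fE'⟩ := facts E hE hEC hEC' e he ee
    have hcfix : ∀ {U : Subgroup G} {u : G}, ⁅U, C⁆ = ⊥ → u ∈ U → c * (u * c⁻¹) = u := fun hU hu => by
      rw [← mul_assoc, ← RankOne.commutator_eq_bot_iff.1 hU _ hu c hc, mul_inv_cancel_right]
    have hae : ⁅conjBy D e, conjBy D a⁆ = ⊥ := by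
      have := commute_conj (fA' _ (hS.conj_mem D hD _) fE) c
      rwa [conjBy_conjBy, conjBy_conjBy, hcfix hEC he, hcfix cAC ha] at this
    -- the element of `D` sending `U` to `conjBy D u`
    have delta : ∀ U : Subgroup G, U ∈ S → ⁅U, C⁆ = ⊥ → (∀ M ∈ S, ⁅M, U⁆ = ⊥ → ⁅M, C⁆ = ⊥) →
        ∀ u ∈ U, u ≠ 1 → IsRankOnePair U D →
        ∀ V : Subgroup G, IsRankOnePair V D → ∀ v ∈ V, v ≠ 1 →
        ⁅conjBy D v, conjBy D u⁆ = ⊥ → ⁅conjBy D (v * c⁻¹), D⁆ = ⊥ → c * (v * c⁻¹) = v →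
        ∃ δ ∈ D, conjBy U δ = conjBy D u ∧ conjBy C δ = conjBy D c := by
      intro U hU hUC hU' u hu hu1 hpU V hpV v hv hv1 hvu hvc hcv
      obtain ⟨δ, hδ, -, eδ⟩ := hpU.cond_left u⁻¹ (inv_mem hu) (inv_ne_one.2 hu1)
      rw [inv_inv] at eδ
      refine ⟨δ⁻¹, inv_mem hδ, eδ, ?_⟩
      by_contra hne'
      have w1 : ⁅conjBy C δ⁻¹, conjBy D v⁆ = ⊥ := by
        have h1 := commute_conj hvu δ
        rw [← eδ, conjBy_conjBy U, mul_inv_cancel, conjBy_one] at h1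
        have h2 := hU' _ (hS.conj_mem _ (hS.conj_mem D hD v) δ) h1
        have h3 := commute_conj h2 δ⁻¹
        rw [conjBy_conjBy (conjBy D v), inv_mul_cancel, conjBy_one] at h3
        exact comm_symm h3
      have w2 : ⁅conjBy D c, conjBy D v⁆ = ⊥ := by
        have h1 := commute_conj hvc c
        rw [conjBy_conjBy, hcv] at h1
        exact comm_symm h1
      have m1 : conjBy C δ⁻¹ ∈ unipotentSubgroups C D :=
        conj_mem self_mem (Subgroup.mem_sup_right (inv_mem hδ))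
      have m2 : conjBy D c ∈ unipotentSubgroups C D :=
        conj_mem (right_mem hp) (Subgroup.mem_sup_left hc)
      have hall : ⁅C ⊔ D, conjBy D v⁆ = ⊥ := by
        rw [← sup_eq hp m1 m2 hne']
        rw [Subgroup.commutator_eq_bot_iff_le_centralizer] at w1 w2 ⊢
        exact sup_le w1 w2
      have hDv : ⁅D, conjBy D v⁆ = ⊥ :=
        le_bot_iff.1 ((Subgroup.commutator_mono le_sup_right le_rfl).trans hall.le)
      have := not_commute_mem hpV (right_mem hpV) (conj_mem (right_mem hpV) (Subgroup.mem_sup_left hv)) hDv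
      exact hv1 (inf_normalizer hpV hv (conjBy_eq_iff.1 this.symm))
    obtain ⟨δ, hδ, d1, d2⟩ := delta A hA cAC hAC a ha ha1 hpA E hpE e he he1 hae fE (hcfix hEC he)
    obtain ⟨δ', hδ', d1', d2'⟩ :=
      delta E hE hEC hEC' e he he1 hpE A hpA a ha ha1 (comm_symm hae) fA (hcfix cAC ha)
    have hδδ : δ = δ' := by
      have h1 : conjBy C (δ'⁻¹ * δ) = C := by
        rw [← conjBy_conjBy, d2, ← d2', conjBy_conjBy, inv_mul_cancel, conjBy_one]
      have := inf_normalizer (RankOnePair_symm hp) (mul_mem (inv_mem hδ') hδ) (conjBy_eq_iff.1 h1)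
      exact (inv_mul_eq_one.1 this).symm
    subst hδδ
    rw [← d1, ← d1'] at hae
    exact hEA (commute_of_conj _ hae)
  · obtain ⟨hmem, -, l⟩ := line hS hA hE (hF A hA) h
    have hCl : ⁅A, E⁆ ∈ linePartners S A := linePartners_symm h.1 l
    obtain ⟨Q, hQ, hQc, hQA⟩ := exists_opposite hS hF hA hE h
    have hQC : ⁅Q, C⁆ = ⊥ := hAC Q hQ (by
      have := case_comm_right hQc
      rwa [hQA] at this)
    have hAE : ∀ e ∈ E, ∀ M ∈ S, ⁅M, conjBy A e⁆ = ⊥ → ⁅M, C⁆ = ⊥ := fun e he =>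
      invC A hAC e (fixC E hEC e he)
    have hF' : ∀ M ∈ S, ⁅M, ⁅A, E⁆⁆ = ⊥ → ⁅M, C⁆ = ⊥ := by
      obtain ⟨e, he, he1⟩ := (Subgroup.bot_or_exists_ne_one E).resolve_left (hS.ne_bot _ hE)
      have hm : conjBy A e ∈ membersIn S (⁅A, E⁆ ⊔ ⁅⁅A, E⁆, Q⁆) :=
        ⟨hS.conj_mem A hA e, by rw [hQA, sup_comm]; exact Commutator.conj_le hS h he⟩
      obtain ⟨q, hq, eq⟩ := line_members hS hF h.1 hQ hQc rfl hm
        (fun eAQ => (conj_mem_linePartners hS hF hA hE h he he1).1.2.1 (eAQ.trans hQA))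
      have : conjBy (conjBy A e) q⁻¹ = ⁅A, E⁆ := by
        rw [← eq, conjBy_conjBy, inv_mul_cancel, conjBy_one]
      rw [← this]
      exact invC _ (hAE e he) _ (fixC Q hQC _ (inv_mem hq))
    have hp' := key_rankOne hS hF hA hAC hD hp
    obtain ⟨F₀, hc₀, hm₀, -, -⟩ := line_partners hS hF hA hCl hD hp'
    rw [hmem] at hm₀
    rcases hm₀ with ⟨e, he, rfl⟩ | rfl
    · exact not_case hS (hS.conj_mem A hA e)
        (RankOnePair_symm (key_rankOne hS hF (hS.conj_mem A hA e) (hAE e he) hD hp)) hc₀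
    · exact not_case hS h.1 (RankOnePair_symm (key_rankOne hS hF h.1 hF' hD hp)) hc₀

/-- A containment of partner sets forces commuting. -/
theorem partners_commute {A C : Subgroup G} (hA : A ∈ S) (hC : C ∈ S)
    (h : rankOnePartners S A ⊆ rankOnePartners S C) : ⁅A, C⁆ = ⊥ := by
  rcases hS.pair A hA C hC with h0 | h0 | h0
  · exact h0
  · exact absurd (h ⟨hC, h0⟩).2.ne (fun f => f rfl)
  exfalso
  obtain ⟨hmemA, -, lA⟩ := line hS hA hC (hF A hA) h0
  have hH : ⁅A, C⁆ ∈ linePartners S A := linePartners_symm h0.1 lA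
  obtain ⟨B, hB, hBA, hBH⟩ : ∃ B ∈ S, IsRankOnePair A B ∧ IsRankOnePair ⁅A, C⁆ B := by
    obtain ⟨B, hB, hp⟩ := RootSets.exists_partner hS (hF A hA) hA
    obtain ⟨E, hcE, hEm, hEA, hrest⟩ := line_partners hS hF hA hH hB hp
    by_cases hEH : E = ⁅A, C⁆
    · obtain ⟨Q, hQ, hQc, hQA⟩ := exists_opposite hS hF hA hC h0
      obtain ⟨x, hx, hx1⟩ := (Subgroup.bot_or_exists_ne_one Q).resolve_left (hS.ne_bot _ hQ)
      have hT : conjBy ⁅A, C⁆ x ∈ membersIn S (A ⊔ ⁅A, C⁆) := by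
        refine ⟨hS.conj_mem _ h0.1 x, ?_⟩
        have := Commutator.conj_le hS hQc hx
        rwa [hQA, sup_comm] at this
      have hTne : conjBy ⁅A, C⁆ x ≠ E := hEH ▸ (conj_mem_linePartners hS hF h0.1 hQ hQc hx hx1).1.2.1
      have hfix : ∀ q ∈ Q, conjBy A q = A := fun q hq => fix_of_commute (by
        have := case_comm_right hQc
        rw [hQA] at this
        exact comm_symm this) hq
      refine ⟨conjBy B x⁻¹, hS.conj_mem B hB _, ?_, ?_⟩
      · have := rankOne_conj hp x⁻¹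
        rwa [hfix _ (inv_mem hx)] at this
      · have := rankOne_conj (hrest _ hT hTne) x⁻¹
        rwa [conjBy_conjBy, inv_mul_cancel, conjBy_one] at this
    · exact ⟨B, hB, hp, hrest _ ⟨h0.1, le_sup_right⟩ (Ne.symm hEH)⟩
  obtain ⟨-, -, lC⟩ := line hS hC hA (hF C hC) (case_symm h0)
  obtain ⟨E, hcE, hEm, -, -⟩ :=
    line_partners hS hF hC (linePartners_symm (case_symm h0).1 lC) hB (h ⟨hB, hBA⟩).2
  rw [(line hS hC hA (hF C hC) (case_symm h0)).1] at hEm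
  rcases hEm with ⟨a, ha, rfl⟩ | rfl
  · have h1 : IsRankOnePair A (conjBy B a⁻¹) := by
      have := rankOne_conj hBA a⁻¹
      rwa [conjBy_eq_self_of_mem (inv_mem ha)] at this
    have h2 := rankOne_conj (h ⟨hS.conj_mem B hB _, h1⟩).2 a
    rw [conjBy_conjBy B, mul_inv_cancel, conjBy_one] at h2
    exact not_case hS (hS.conj_mem C hC a) (RankOnePair_symm h2) hcE
  · rw [Subgroup.commutator_comm C A] at hcE
    exact not_case hS h0.1 (RankOnePair_symm hBH) hcE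

theorem partners_symm {A C : Subgroup G} (hA : A ∈ S) (hC : C ∈ S) (hne : A ≠ C)
    (h : rankOnePartners S A ⊆ rankOnePartners S C) : rankOnePartners S C ⊆ rankOnePartners S A := by
  have hCA : ∀ M ∈ S, ⁅M, C⁆ = ⊥ → ⁅M, A⁆ = ⊥ := by
    intro E hE hEC
    rcases hS.pair A hA E hE with h0 | h0 | h0
    · exact comm_symm h0
    · exact absurd (comm_symm hEC) (not_commute (h ⟨hE, h0⟩).2)
    exfalso
    have hcEA := case_symm h0
    obtain ⟨D, hD, hDc, hDE⟩ := exists_opposite hS hF hE hA hcEA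
    have hDE' : ⁅D, ⁅E, A⁆⁆ = E := (Subgroup.commutator_comm _ _).trans hDE
    have hp : IsRankOnePair A D := (OppositePartners.main hS hE hA hcEA.1 hD hDE').1
    refine no_triangle hS (h ⟨hD, hp⟩).2 (case_symm hDc) ?_ (by rw [hDE']; exact comm_symm hEC)
    rw [Subgroup.commutator_eq_bot_iff_le_centralizer]
    refine Subgroup.le_centralizer_iff.1 ?_
    rw [Subgroup.commutator_le]
    intro x hx y hy
    have e1 : x ∈ Subgroup.centralizer (C : Set G) :=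
      Subgroup.commutator_eq_bot_iff_le_centralizer.1 hEC hx
    have e2 : y ∈ Subgroup.centralizer (C : Set G) :=
      Subgroup.commutator_eq_bot_iff_le_centralizer.1 (partners_commute hS hF hA hC h) hy
    exact mul_mem (mul_mem (mul_mem e1 e2) (inv_mem e1)) (inv_mem e2)
  have hAC : ∀ M ∈ S, ⁅M, A⁆ = ⊥ → ⁅M, C⁆ = ⊥ := fun M hM hMA =>
    centralizing_symm hS hF hC hA hne.symm hCA hM hMA
  exact fun D hD => ⟨hD.1, key_rankOne hS hF hA hAC hD.1 hD.2⟩

end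

theorem mem_centralizingMembers {A M : Subgroup G} :
    M ∈ centralizingMembers S A ↔ M ∈ S ∧ ⁅M, A⁆ = ⊥ :=
  and_congr_right fun _ => Subgroup.commutator_eq_bot_iff_le_centralizer.symm

theorem main (hS : IsRootSubgroupClass S) (hdn : IsDegenerateRootSet S ∨ IsNondegenerateRootSet S)
    {A C : Subgroup G} (hA : A ∈ S) (hC : C ∈ S) (hAC : A ≠ C) :
    (centralizingMembers S A ⊆ centralizingMembers S C → centralizingMembers S A = centralizingMembers S C) ∧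
    (rankOnePartners S A ⊆ rankOnePartners S C → ⁅A, C⁆ = ⊥ ∧ rankOnePartners S A = rankOnePartners S C) := by
  by_cases hex : ∃ X ∈ S, ∃ Y ∈ S, IsRankOnePair X Y
  · obtain ⟨X, hX, Y, hY, hp⟩ := hex
    have hF : ∀ A ∈ S, ¬ IsIsolatedIn (FAdj S) S A := fun A hA => by
      obtain ⟨g, rfl⟩ := hS.2.2 X hX A hA
      exact Graph.isolated_conj hS.1 hX (not_isolated hX hY hp) g
    refine ⟨fun h => subset_antisymm h fun E hE => ?_, fun h => ⟨partners_commute hS.1 hF hA hC h,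
      subset_antisymm h (partners_symm hS.1 hF hA hC hAC h)⟩⟩
    rw [mem_centralizingMembers] at hE ⊢
    refine ⟨hE.1, centralizing_symm hS.1 hF hA hC hAC (fun M hM hMA => ?_) hE.1 hE.2⟩
    exact (mem_centralizingMembers.1 (h (mem_centralizingMembers.2 ⟨hM, hMA⟩))).2
  · have hdeg : IsDegenerateRootSet S := hdn.resolve_right fun h => hex h.2.1
    have hall : ∀ X ∈ S, ∀ Y ∈ S, ⁅X, Y⁆ = ⊥ := fun X hX Y hY =>
      (hS.1.pair X hX Y hY).resolve_right (fun h => h.elim (fun h => hex ⟨X, hX, Y, hY, h⟩) (hdeg X hX Y hY))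
    refine ⟨fun _ => ?_, fun _ => ⟨hall A hA C hC, ?_⟩⟩
    · ext M
      rw [mem_centralizingMembers, mem_centralizingMembers]
      exact and_congr_right fun hM => iff_of_true (hall M hM A hA) (hall M hM C hC)
    · ext M
      exact iff_of_false (fun h => hex ⟨A, hA, M, h.1, h.2⟩) (fun h => hex ⟨C, hC, M, h.1, h.2⟩)

end Cfsg.Agent.RootSubgroups.Incomparable
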