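import Cfsg.Agent.Lib.RootSubgroups.Lines

/-!
Transitivity on lines and non-degenerate classes.
-/

set_option linter.all false
set_option autoImplicit false

namespace Cfsg.Agent.RootSubgroups.LineClass

open Cfsg
open Cfsg.Agent.ThreeTransp
open Cfsg.Agent.ThreeTransp.RankOne
open Cfsg.Agent.RootSubgroups.Commutator
open Cfsg.Agent.RootSubgroups.Lines

variable {G : Type*} [Group G] {S : Set (Subgroup G)}

theorem case_conj (hS : IsRootSubgroupSet S) {A B : Subgroup G} (hA : A ∈ S) (hB : B ∈ S)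
    (h : RootCommutatorCase S A B) (g : G) : RootCommutatorCase S (conjBy A g) (conjBy B g) :=
  case_of_mem hS (hS.conj_mem A hA g) (hS.conj_mem B hB g) (by rw [← commutator_conj]; exact hS.conj_mem _ h.1 g)

theorem members_conj (hS : IsRootSubgroupSet S) {L M : Subgroup G} {x : G}
    (hx : x ∈ Subgroup.normalizer (L : Set G)) (hM : M ∈ membersIn S L) : conjBy M x ∈ membersIn S L :=
  ⟨hS.conj_mem M hM.1 x, (Subgroup.map_mono hM.2).trans (conjBy_eq_iff.2 hx).le⟩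

theorem linePartners_conj (hS : IsRootSubgroupSet S) {A C : Subgroup G} (h : C ∈ linePartners S A) (x : G) :
    conjBy C x ∈ linePartners S (conjBy A x) := by
  obtain ⟨⟨hC, hne, hAC⟩, hp⟩ := h
  refine ⟨⟨hS.conj_mem C hC x, fun e => hne (conjBy_inj.1 e), ?_⟩, ?_⟩
  · rw [← commutator_conj, hAC]; exact Subgroup.map_bot _
  · rw [← sup_conj]
    refine ⟨fun M hM => hM.2, fun y hy hy1 => ?_, fun M hM N hN hMN => ?_⟩
    · have hy' := mem_conjBy.1 hy
      obtain ⟨M, hM, hm⟩ := hp.2.1 _ hy' (fun e => hy1 (by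
        have := congrArg (fun t => x * t * x⁻¹) e
        simpa [mul_assoc] using this))
      exact ⟨conjBy M x, ⟨hS.conj_mem M hM.1 x, Subgroup.map_mono hM.2⟩, mem_conjBy.2 hm⟩
    · have back : ∀ {P : Subgroup G}, P ∈ membersIn S (conjBy (A ⊔ C) x) → conjBy P x⁻¹ ∈ membersIn S (A ⊔ C) :=
        fun {P} hP => ⟨hS.conj_mem P hP.1 _, (Subgroup.map_mono hP.2).trans (le_of_eq (by
          show conjBy (conjBy (A ⊔ C) x) x⁻¹ = A ⊔ C
          rw [conjBy_conjBy, inv_mul_cancel, conjBy_one]))⟩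
      have := hp.2.2 _ (back hM) _ (back hN) (fun e => hMN (conjBy_inj.1 e))
      refine (Subgroup.eq_bot_iff_forall _).2 fun y hy => ?_
      have hy' : x⁻¹ * y * x⁻¹⁻¹ ∈ conjBy M x⁻¹ ⊓ conjBy N x⁻¹ :=
        ⟨conj_mem_conjBy hy.1, conj_mem_conjBy hy.2⟩
      exact conj_eq_one_iff.1 (Subgroup.mem_bot.1 (this.le hy'))

section

variable (hS : IsRootSubgroupSet S) (hF : ∀ A ∈ S, ¬ IsIsolatedIn (FAdj S) S A)
include hS hF

/-- The conjugates of the line containing `A`, `E` and the members moving it. -/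
theorem line_data {A C D : Subgroup G} (hA : A ∈ S) (hC : C ∈ linePartners S A) (hD : D ∈ S)
    (hp : IsRankOnePair A D) :
    ∃ E P, P ∈ S ∧ E ∈ linePartners S A ∧ A ⊔ E = A ⊔ C ∧ P = ⁅D, E⁆ ∧
      P ∈ normalizingMembers S (A ⊔ C) ∧ RootCommutatorCase S A P ∧ ⁅A, P⁆ = E ∧
      ∀ M ∈ membersIn S (A ⊔ C), M ≠ E → ∃ p ∈ P, conjBy A p = M := by
  obtain ⟨E, hE, heq, hDE, hcase, hopp⟩ := line_structure hS hF hA hC hD hp
  refine ⟨E, ⁅D, E⁆, hDE.1, hE, heq, rfl, ⟨hDE.1, ?_⟩, hcase, hopp, fun M hM hne => ?_⟩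
  · rw [← heq]
    nth_rewrite 2 [← hopp]
    exact le_normalizer_line hS hF hA hcase
  · rw [← heq] at hM
    exact line_members hS hF hA hDE.1 hcase hopp hM hne

/-- Two-transitivity on a line. -/
theorem two_transitive {A B : Subgroup G} (hA : A ∈ S) (hB : B ∈ linePartners S A) :
    (∀ C₁ ∈ membersIn S (A ⊔ B), ∀ C₂ ∈ membersIn S (A ⊔ B), ∀ D₁ ∈ membersIn S (A ⊔ B),
      ∀ D₂ ∈ membersIn S (A ⊔ B), C₁ ≠ C₂ → D₁ ≠ D₂ →
        ∃ x ∈ ⨆ E ∈ normalizingMembers S (A ⊔ B), E, conjBy C₁ x = D₁ ∧ conjBy C₂ x = D₂) ∧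
    ∃ Q ∈ linePartners S A, ∀ M ∈ membersIn S (A ⊔ B), ∀ M' ∈ membersIn S (A ⊔ B), M ≠ A → M' ≠ A →
      ∃ q ∈ Q, conjBy M q = M' := by
  set L := A ⊔ B with hL
  set N := ⨆ E ∈ normalizingMembers S L, E with hN
  have hNL : N ≤ Subgroup.normalizer (L : Set G) := iSup₂_le fun E hE => hE.2
  have memN : ∀ {P : Subgroup G}, P ∈ normalizingMembers S L → ∀ p ∈ P, p ∈ N := fun hP p hp =>
    (le_iSup₂_of_le _ hP le_rfl : _ ≤ N) hp
  obtain ⟨D, hD, hp⟩ := RootSets.exists_partner hS (hF A hA) hA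
  obtain ⟨E, P, hPS, hE, hAE, hPdef, hPN, hcase, hAP, hPM⟩ := line_data hS hF hA hB hD hp
  have hES : E ∈ S := hE.1.1
  have hEA : A ∈ linePartners S E := linePartners_symm hA hE
  have hLE : E ⊔ A = L := by rw [sup_comm]; exact hAE
  have hAm : A ∈ membersIn S L := ⟨hA, le_sup_left⟩
  have hEm : E ∈ membersIn S L := ⟨hES, hLE ▸ le_sup_left⟩
  obtain ⟨D', hD', hp'⟩ := RootSets.exists_partner hS (hF E hES) hES
  obtain ⟨E₂, P₂, -, hE₂, -, -, hP₂N, -, -, hP₂M⟩ := line_data hS hF hES hEA hD' hp'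
  rw [hLE] at hP₂N hP₂M
  -- a third member
  obtain ⟨p₀, hp₀, hp₀1⟩ := (Subgroup.bot_or_exists_ne_one P).resolve_left (hS.ne_bot _ hPS)
  set T := conjBy A p₀ with hT
  have hTm : T ∈ membersIn S L := members_conj hS (hPN.2 hp₀) hAm
  have hTA : T ≠ A := (conj_mem_linePartners hS hF hA hPS hcase hp₀ hp₀1).1.2.1
  have hfixE : ∀ p ∈ P, conjBy E p = E := fun p hp => by
    rw [← hAP]
    exact fix_of_commute (by rw [Subgroup.commutator_comm]; exact case_comm_right hcase) hp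
  have hTE : T ≠ E := fun e => hE.1.2.1 (by
    rw [hT, ← hfixE p₀ hp₀, conjBy_inj] at e
    exact e.symm)
  have trans : ∀ M ∈ membersIn S L, ∃ x ∈ N, conjBy A x = M := by
    intro M hM
    by_cases hME : M = E
    · subst hME
      by_cases h2 : E₂ = A
      · obtain ⟨q, hq, e⟩ := hP₂M T hTm (h2 ▸ hTA)
        refine ⟨q⁻¹ * p₀, mul_mem (inv_mem (memN hP₂N q hq)) (memN hPN _ hp₀), ?_⟩
        rw [← conjBy_conjBy, ← hT, ← e, conjBy_conjBy, inv_mul_cancel, conjBy_one]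
      · obtain ⟨q, hq, e⟩ := hP₂M A hAm (Ne.symm h2)
        exact ⟨q⁻¹, inv_mem (memN hP₂N q hq), by rw [← e, conjBy_conjBy, inv_mul_cancel, conjBy_one]⟩
    · obtain ⟨p, hp, e⟩ := hPM M hM hME
      exact ⟨p, memN hPN p hp, e⟩
  constructor
  · intro C₁ hC₁ C₂ hC₂ D₁ hD₁ D₂ hD₂ hC hD
    obtain ⟨y₁, hy₁, e₁⟩ := trans C₁ hC₁
    obtain ⟨z₁, hz₁, f₁⟩ := trans D₁ hD₁
    obtain ⟨yE, hyE, eE⟩ := trans E hEm
    set x := z₁ * y₁⁻¹ with hx
    have hxN : x ∈ N := mul_mem hz₁ (inv_mem hy₁)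
    have hx1 : conjBy C₁ x = D₁ := by
      rw [← e₁, conjBy_conjBy, hx, inv_mul_cancel_right, f₁]
    set w := z₁ * yE⁻¹ with hw
    have hwN : w ∈ N := mul_mem hz₁ (inv_mem hyE)
    have hw1 : conjBy E w = D₁ := by rw [← eE, conjBy_conjBy, hw, inv_mul_cancel_right, f₁]
    have back : ∀ M, M ≠ D₁ → conjBy M w⁻¹ ≠ E := fun M hM e => hM (by
      rw [← hw1, ← e, conjBy_conjBy, mul_inv_cancel, conjBy_one])
    have hC2' : conjBy C₂ x ≠ D₁ := fun e => hC ((conjBy_inj.1 (e.trans hx1.symm)).symm)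
    obtain ⟨p, hp, ep⟩ := hPM _ (members_conj hS (hNL (inv_mem hwN)) (members_conj hS (hNL hxN) hC₂))
      (back _ hC2')
    obtain ⟨q, hq, eq⟩ := hPM _ (members_conj hS (hNL (inv_mem hwN)) hD₂) (back _ (Ne.symm hD))
    refine ⟨w * q * p⁻¹ * w⁻¹ * x,
      mul_mem (mul_mem (mul_mem (mul_mem hwN (memN hPN q hq)) (inv_mem (memN hPN p hp))) (inv_mem hwN)) hxN, ?_, ?_⟩
    · rw [← conjBy_conjBy, hx1, ← conjBy_conjBy, ← conjBy_conjBy, ← conjBy_conjBy,
        ← hw1, conjBy_conjBy E w⁻¹ w, inv_mul_cancel, conjBy_one, hfixE _ (inv_mem hp), hfixE q hq, hw1]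
    · rw [← conjBy_conjBy _ (w * q * p⁻¹ * w⁻¹) x, ← conjBy_conjBy _ (w * q * p⁻¹) w⁻¹, ← ep,
        conjBy_conjBy, inv_mul_cancel_right, ← conjBy_conjBy, eq, conjBy_conjBy, mul_inv_cancel, conjBy_one]
  · obtain ⟨y, hy, ey⟩ := trans E hEm
    set w := y⁻¹ with hw
    have hwN : w ∈ N := inv_mem hy
    have ew : conjBy E w = A := by rw [← ey, conjBy_conjBy, hw, inv_mul_cancel, conjBy_one]
    refine ⟨conjBy P w, ?_, fun M hM M' hM' hne hne' => ?_⟩
    · obtain ⟨-, -, h3⟩ := line hS hPS hA (hF P hPS) (case_symm hcase)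
      rw [Subgroup.commutator_comm, hAP] at h3
      have := linePartners_conj hS h3 w
      rwa [ew] at this
    · have back : ∀ X, X ≠ A → conjBy X w⁻¹ ≠ E := fun X hX e => hX (by
        rw [← ew, ← e, conjBy_conjBy, mul_inv_cancel, conjBy_one])
      obtain ⟨p, hp, ep⟩ := hPM _ (members_conj hS (hNL (inv_mem hwN)) hM) (back M hne)
      obtain ⟨q, hq, eq⟩ := hPM _ (members_conj hS (hNL (inv_mem hwN)) hM') (back M' hne')
      refine ⟨w * (q * p⁻¹) * w⁻¹, conj_mem_conjBy (mul_mem hq (inv_mem hp)), ?_⟩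
      rw [← conjBy_conjBy, ← ep, conjBy_conjBy, mul_assoc, inv_mul_cancel_right, ← conjBy_conjBy, eq,
        conjBy_conjBy, mul_inv_cancel, conjBy_one]

end

section

variable (hS : IsRootSubgroupClass S) (hnd : IsNondegenerateRootSet S)
include hS hnd

theorem all_not_isolated : ∀ A ∈ S, ¬ IsIsolatedIn (FAdj S) S A := by
  intro A hA
  obtain ⟨X, hX, Y, hY, hp⟩ := hnd.2.1
  obtain ⟨g, rfl⟩ := hS.2.2 X hX A hA
  exact Graph.isolated_conj hS.1 hX (not_isolated hX hY hp) g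

theorem connected : IsConnectedFamily (FAdj S) S := by
  obtain ⟨X, hX, Y, hY, hp⟩ := hnd.2.1
  exact (Graph.connected_iff hS.1 ⟨X, hX, Y, hY, hp.ne⟩).2 ⟨hS.2, X, hX, not_isolated hX hY hp⟩

theorem exists_linePartner {A : Subgroup G} (hA : A ∈ S) : ∃ C, C ∈ linePartners S A := by
  obtain ⟨X, hX, Y, hY, hc⟩ := hnd.2.2
  obtain ⟨g, rfl⟩ := hS.2.2 X hX A hA
  obtain ⟨-, -, h⟩ := line hS.1 (hS.1.conj_mem X hX g) (hS.1.conj_mem Y hY g)
    (all_not_isolated hS hnd _ (hS.1.conj_mem X hX g)) (case_conj hS.1 hX hY hc g)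
  exact ⟨_, linePartners_symm (hS.1.conj_mem _ hc.1 g |> fun _ => (case_conj hS.1 hX hY hc g).1) h⟩

theorem partner_line {A B : Subgroup G} (hA : A ∈ S) (hB : B ∈ rankOnePartners S A) :
    ∃ E ∈ linePartners S A, RootCommutatorCase S B E ∧ RootCommutatorCase S A ⁅B, E⁆ ∧ ⁅A, ⁅B, E⁆⁆ = E := by
  obtain ⟨C, hC⟩ := exists_linePartner hS hnd hA
  obtain ⟨E, hE, -, h1, h2, h3⟩ := line_structure hS.1 (all_not_isolated hS hnd) hA hC hB.1 hB.2
  exact ⟨E, hE, h1, h2, h3⟩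

theorem line_graph_connected : IsConnectedFamily (EAdj S S) S ∧ IsConnectedFamily (DAdj S) S := by
  have step : ∀ A B : Subgroup G, FAdj S A B → Relation.ReflTransGen (EAdj S S) A B := by
    rintro A B ⟨hA, hB, hp⟩
    obtain ⟨E, hE, h1, h2, h3⟩ := partner_line hS hnd hA ⟨hB, hp⟩
    have hFS : ⁅B, E⁆ ∈ S := h1.1
    have hF := all_not_isolated hS hnd
    obtain ⟨-, -, l1⟩ := line hS.1 hFS hA (hF _ hFS) (case_symm h2)
    rw [Subgroup.commutator_comm ⁅B, E⁆ A, h3] at l1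
    obtain ⟨-, -, l2⟩ := line hS.1 hB hE.1.1 (hF B hB) h1
    exact ((Relation.ReflTransGen.single (show EAdj S S A E from ⟨hA, hE.1.1, hE⟩)).tail
      ⟨hE.1.1, hFS, l1⟩).tail ⟨hFS, hB, l2⟩
  have hE : IsConnectedFamily (EAdj S S) S := fun A hA B hB => by
    have := connected hS hnd A hA B hB
    clear hB
    induction this with
    | refl => exact .refl
    | tail _ h ih => exact ih.trans (step _ _ h)
  exact ⟨hE, fun A hA B hB => Relation.ReflTransGen.mono (fun X Y h => ⟨h.1, h.2.1, fun e => h.2.2.1.2.1 e.symm, h.2.2.1.2.2⟩) _ _ (hE A hA B hB)⟩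

theorem generated {A B : Subgroup G} (hA : A ∈ S) (hB : B ∈ rankOnePartners S A) :
    (⨆ C ∈ linePartners S A, C) ⊔ B = ⊤ := by
  set M := (⨆ C ∈ linePartners S A, C) ⊔ B with hM
  have hF := all_not_isolated hS hnd
  have hLM : ∀ C ∈ linePartners S A, C ≤ M := fun C hC => le_sup_of_le_left (le_iSup₂_of_le C hC le_rfl)
  have commM : ∀ {X Y : Subgroup G}, X ≤ M → Y ≤ M → ⁅X, Y⁆ ≤ M := fun hX hY =>
    (Subgroup.commutator_mono hX hY).trans (Subgroup.le_normalizer_iff_commutator_le_left.1 Subgroup.le_normalizer)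
  have hAM : A ≤ M := by
    obtain ⟨E, hE, h1, h2, h3⟩ := partner_line hS hnd hA hB
    have hFM : ⁅B, E⁆ ≤ M := commM le_sup_right (hLM E hE)
    obtain ⟨f, hf, hf1⟩ := (Subgroup.bot_or_exists_ne_one ⁅B, E⁆).resolve_left (hS.1.ne_bot _ h1.1)
    have := hLM _ (conj_mem_linePartners hS.1 hF hA h1.1 h2 hf hf1)
    intro a ha
    have h4 := this (conj_mem_conjBy (g := f) ha)
    have := mul_mem (mul_mem (inv_mem (hFM hf)) h4) (hFM hf)
    simpa [mul_assoc] using this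
  have key : ∀ C ∈ linePartners S A, ∃ x ∈ M, conjBy A x = C := by
    intro C hC
    obtain ⟨E, P, hPS, hE, hAE, hPdef, hPN, hcase, hAP, hPM⟩ := line_data hS.1 hF hA hC hB.1 hB.2
    have hPle : P ≤ M := hPdef ▸ commM le_sup_right (hLM E hE)
    have hCm : C ∈ membersIn S (A ⊔ C) := ⟨hC.1.1, le_sup_right⟩
    by_cases hCE : C = E
    · obtain ⟨p, hp, hp1⟩ := (Subgroup.bot_or_exists_ne_one P).resolve_left (hS.1.ne_bot _ hPS)
      have hT := conj_mem_linePartners hS.1 hF hA hPS hcase hp hp1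
      have hTm : conjBy A p ∈ membersIn S (A ⊔ C) := members_conj hS.1 (hPN.2 hp) ⟨hA, le_sup_left⟩
      obtain ⟨Q, hQ, hQM⟩ := (two_transitive hS.1 hF hA hC).2
      obtain ⟨q, hq, e⟩ := hQM _ hTm C hCm hT.1.2.1 hC.1.2.1
      exact ⟨q * p, mul_mem (hLM Q hQ hq) (hPle hp), by rw [← conjBy_conjBy]; exact e⟩
    · obtain ⟨p, hp, e⟩ := hPM C hCm hCE
      exact ⟨p, hPle hp, e⟩
  refine top_le_iff.1 (hS.1.generates ▸ iSup₂_le fun X hX => ?_)
  have hpath := (line_graph_connected hS hnd).1 A hA X hX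
  suffices ∃ x ∈ M, conjBy A x = X by
    obtain ⟨x, hx, rfl⟩ := this
    exact conjBy_le hAM hx
  clear hX
  induction hpath with
  | refl => exact ⟨1, one_mem _, conjBy_one A⟩
  | @tail Y Z _ h ih =>
    obtain ⟨x, hx, rfl⟩ := ih
    have := linePartners_conj hS.1 h.2.2 x⁻¹
    rw [conjBy_conjBy, inv_mul_cancel, conjBy_one] at this
    obtain ⟨y, hy, e⟩ := key _ this
    refine ⟨x * y, mul_mem hx hy, ?_⟩
    rw [← conjBy_conjBy, e, conjBy_conjBy, mul_inv_cancel, conjBy_one]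

end

end Cfsg.Agent.RootSubgroups.LineClass
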