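import Cfsg.Agent.Lib.RootSubgroups.Commutator

/-!
`A`, `B`, `C = ⁅A, B⁆` and `D` with `⁅D, C⁆ = A`.
-/

set_option linter.all false
set_option autoImplicit false

namespace Cfsg.Agent.RootSubgroups.OppositePartners

open Cfsg
open Cfsg.Agent.ThreeTransp
open Cfsg.Agent.ThreeTransp.RankOne
open Cfsg.Agent.RootSubgroups.Commutator

variable {G : Type*} [Group G] {S : Set (Subgroup G)}

theorem commute_of_comm_eq_one {x y : G} (h : x * y * x⁻¹ * y⁻¹ = 1) : x * y = y * x := by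
  rwa [mul_inv_eq_one, mul_inv_eq_iff_eq_mul] at h

theorem comm_eq_one_of_commute {x y : G} (h : x * y = y * x) : x * y * x⁻¹ * y⁻¹ = 1 := by
  rw [h, mul_inv_cancel_right, mul_inv_cancel]

theorem main (hS : IsRootSubgroupSet S) {A B D : Subgroup G} (hA : A ∈ S) (hB : B ∈ S)
    (hC : ⁅A, B⁆ ∈ S) (hD : D ∈ S) (hDC : ⁅D, ⁅A, B⁆⁆ = A) :
    IsRankOnePair B D ∧
    {E | ∃ x ∈ B ⊔ D, E = conjBy A x} = {E | ∃ x ∈ B ⊔ D, E = conjBy ⁅A, B⁆ x} ∧
    {E | ∃ x ∈ B ⊔ D, E = conjBy A x} = (fun b : G => conjBy A b) '' (B : Set G) ∪ {⁅A, B⁆} ∧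
    {E | ∃ x ∈ B ⊔ D, E = conjBy A x} = (fun d : G => conjBy ⁅A, B⁆ d) '' (D : Set G) ∪ {A} ∧
    IsSubgroupPartition (A ⊔ ⁅A, B⁆) {E | ∃ x ∈ B ⊔ D, E = conjBy A x} ∧
    ∀ x ∈ (B ⊔ D) ⊓ Subgroup.centralizer ((A ⊔ ⁅A, B⁆ : Subgroup G) : Set G), ∀ y ∈ B ⊔ D, x * y = y * x := by
  set C := ⁅A, B⁆ with hCdef
  have h : RootCommutatorCase S A B := case_of_mem hS hA hB hC
  have h' : RootCommutatorCase S D C := case_of_mem hS hD hC (by rw [hDC]; exact hA)
  set N := A ⊔ C with hNdef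
  have habel : ∀ x ∈ N, ∀ y ∈ N, x * y = y * x := fun x hx y hy => sup_abelian hS hB h hx hy hA
  have hCcB : ∀ c ∈ C, ∀ b ∈ B, c * b = b * c := fun c hc b hb => h.2.1 c hc b (Subgroup.mem_sup_right hb)
  have hAcD : ∀ a ∈ A, ∀ d ∈ D, a * d = d * a := fun a ha d hd =>
    h'.2.1 a (hDC.symm ▸ ha) d (Subgroup.mem_sup_left hd)
  obtain ⟨a0, ha0, ha01⟩ := (Subgroup.bot_or_exists_ne_one A).resolve_left (hS.ne_bot _ hA)
  obtain ⟨c0, hc0, hc01⟩ := (Subgroup.bot_or_exists_ne_one C).resolve_left (hS.ne_bot _ hC)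
  have fixB : ∀ x ∈ N, (∀ b ∈ B, x * b = b * x) → x ∈ C := by
    intro x hx hfix
    obtain ⟨a, ha, c, hc, rfl⟩ := mem_sup hS h hA hx
    by_cases ha1 : a = 1
    · simpa [ha1] using hc
    · obtain ⟨b, hb, e⟩ := exists_right h ha ha1 hc0
      refine absurd ?_ hc01
      rw [← e]
      refine comm_eq_one_of_commute (mul_right_cancel (b := c) ?_)
      rw [mul_assoc a b c, ← hCcB c hc b hb, ← mul_assoc, hfix b hb, mul_assoc]
  have fixD : ∀ x ∈ N, (∀ d ∈ D, x * d = d * x) → x ∈ A := by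
    intro x hx hfix
    obtain ⟨a, ha, c, hc, rfl⟩ := mem_sup hS h hA hx
    by_cases hc1 : c = 1
    · simpa [hc1] using ha
    · obtain ⟨d, hd, e⟩ := exists_left h' hc hc1 (c := a0) (hDC.symm ▸ ha0)
      refine absurd ?_ ha01
      rw [← e]
      refine comm_eq_one_of_commute (mul_left_cancel (a := a) ?_)
      rw [← mul_assoc a c d, hfix d hd, ← mul_assoc, ← mul_assoc, hAcD a ha d hd]
  have hdisj : ∀ x ∈ A, x ∈ C → x = 1 := fun x hxA hxC => by
    by_contra hx1
    obtain ⟨d, hd, e⟩ := exists_left h' hxC hx1 (c := a0) (hDC.symm ▸ ha0)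
    exact ha01 (by rw [← e]; exact comm_eq_one_of_commute (hAcD x hxA d hd).symm)
  -- conjugation preserves `N`
  have hBN : ∀ b ∈ B, conjBy N b ≤ N := fun b hb => by
    rw [hNdef]
    show (A ⊔ C).map _ ≤ _
    rw [Subgroup.map_sup]
    refine sup_le (Commutator.conj_le hS h hb) (le_trans (le_of_eq ?_) le_sup_right)
    exact conjBy_eq_iff.2 (mem_normalizer_of_centralizes fun c hc => (hCcB c hc b hb).symm)
  have hDN : ∀ d ∈ D, conjBy N d ≤ N := fun d hd => by
    rw [hNdef]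
    show (A ⊔ C).map _ ≤ _
    rw [Subgroup.map_sup]
    refine sup_le (le_trans (le_of_eq ?_) le_sup_left) ?_
    · exact conjBy_eq_iff.2 (mem_normalizer_of_centralizes fun a ha => (hAcD a ha d hd).symm)
    · have := Commutator.conj_le hS (case_symm h') (b := d) hd
      rw [Subgroup.commutator_comm, hDC, sup_comm] at this
      exact this
  have hXN : ∀ x ∈ B ⊔ D, conjBy N x = N := by
    have hle : B ⊔ D ≤ Subgroup.normalizer (N : Set G) := sup_le
      (Subgroup.le_normalizer_iff.2 fun b hb n hn => hBN b hb (conj_mem_conjBy hn))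
      (Subgroup.le_normalizer_iff.2 fun d hd n hn => hDN d hd (conj_mem_conjBy hn))
    exact fun x hx => conjBy_eq_iff.2 (hle hx)
  -- the rank one pair
  have hp : IsRankOnePair B D := by
    rcases hS.pair B hB D hD with h0 | h0 | h0
    · exfalso
      have hBD := RankOne.commutator_eq_bot_iff.1 h0
      have hgen : A ≤ C := by
        rw [← hDC, Subgroup.commutator_le]
        intro d hd c hc
        rw [commutatorElement_def]
        refine mul_mem (fixB _ (hDN d hd (conj_mem_conjBy (Subgroup.mem_sup_right hc))) fun b hb => ?_) (inv_mem hc)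
        have e1 : (b * d = d * b) := hBD b hb d hd
        have e2 : d⁻¹ * b = b * d⁻¹ := ((show Commute b d from e1).inv_right).symm.eq
        rw [mul_assoc _ d⁻¹, e2, ← mul_assoc, mul_assoc d c b, hCcB c hc b hb, ← mul_assoc, ← e1]
        simp [mul_assoc]
      exact ha01 (hdisj a0 ha0 (hgen ha0))
    · exact h0
    · exfalso
      obtain ⟨b, hb, hb1⟩ := (Subgroup.bot_or_exists_ne_one B).resolve_left (hS.ne_bot _ hB)
      obtain ⟨d, hd, hd1⟩ := (Subgroup.bot_or_exists_ne_one D).resolve_left (hS.ne_bot _ hD)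
      set f := b * d * b⁻¹ * d⁻¹ with hf
      have hfF : f ∈ ⁅B, D⁆ := comm_mem h0 hb hd
      have hfN : ∀ n ∈ N, f * n * f⁻¹ ∈ N := fun n hn => by
        have hfX : f ∈ B ⊔ D := mul_mem (mul_mem (mul_mem (Subgroup.mem_sup_left hb) (Subgroup.mem_sup_right hd))
          (inv_mem (Subgroup.mem_sup_left hb))) (inv_mem (Subgroup.mem_sup_right hd))
        have := conj_mem_conjBy (g := f) hn
        rwa [hXN f hfX] at this
      have hfC : ∀ c ∈ C, f * c * f⁻¹ ∈ C := fun c hc => fixB _ (hfN c (Subgroup.mem_sup_right hc)) fun y hy => by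
        have e1 : Commute f y := h0.2.1 f hfF y (Subgroup.mem_sup_left hy)
        have e2 : Commute c y := hCcB c hc y hy
        exact ((e1.mul_left e2).mul_left e1.inv_left).eq
      have hfA : ∀ a ∈ A, f * a * f⁻¹ ∈ A := fun a ha => fixD _ (hfN a (Subgroup.mem_sup_left ha)) fun y hy => by
        have e1 : Commute f y := h0.2.1 f hfF y (Subgroup.mem_sup_right hy)
        have e2 : Commute a y := hAcD a ha y hy
        exact ((e1.mul_left e2).mul_left e1.inv_left).eq
      have split : ∀ a a' c c' : G, a ∈ A → a' ∈ A → c ∈ C → c' ∈ C → a * c = a' * c' → a = a' ∧ c = c' := by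
        intro a a' c c' ha ha' hc hc' e
        have e' : a'⁻¹ * a = c' * c⁻¹ := by
          rw [eq_mul_inv_iff_mul_eq, mul_assoc, e, inv_mul_cancel_left]
        have := hdisj _ (mul_mem (inv_mem ha') ha) (e' ▸ mul_mem hc' (inv_mem hc))
        have haa : a = a' := (inv_mul_eq_one.1 this).symm
        exact ⟨haa, mul_left_cancel (haa ▸ e)⟩
      have hdec : ∀ n : G, b * (d * n * d⁻¹) * b⁻¹ = f * (d * (b * n * b⁻¹) * d⁻¹) * f⁻¹ := fun n => by
        rw [hf]; simp [mul_assoc]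
      -- `f` centralizes `C`
      have hA_act : ∀ a ∈ A, f * (d * (b * a * b⁻¹ * a⁻¹) * d⁻¹ * (b * a * b⁻¹ * a⁻¹)⁻¹) * a * f⁻¹ = a ∧
          f * (b * a * b⁻¹ * a⁻¹) * f⁻¹ = b * a * b⁻¹ * a⁻¹ := by
        intro a ha
        set g := b * a * b⁻¹ * a⁻¹ with hg
        have hgC : g ∈ C := by
          have := inv_mem (comm_mem h ha hb)
          rwa [show (a * b * a⁻¹ * b⁻¹)⁻¹ = g by rw [hg]; simp [mul_assoc]] at this
        have ht : d * g * d⁻¹ * g⁻¹ ∈ A := hDC ▸ comm_mem h' hd hgC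
        have e := hdec a
        rw [show d * a * d⁻¹ = a by rw [← hAcD a ha d hd, mul_inv_cancel_right]] at e
        rw [show b * a * b⁻¹ = g * a by rw [hg]; simp [mul_assoc]] at e
        rw [habel g (Subgroup.mem_sup_right hgC) a (Subgroup.mem_sup_left ha)] at e
        have e2 : f * (d * (a * g) * d⁻¹) * f⁻¹ =
            (f * (d * g * d⁻¹ * g⁻¹) * a * f⁻¹) * (f * g * f⁻¹) := by
          have hc1 : d * a = a * d := (hAcD a ha d hd).symm
          have hc2 : (d * g * d⁻¹ * g⁻¹) * a = a * (d * g * d⁻¹ * g⁻¹) :=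
            habel _ (Subgroup.mem_sup_left ht) a (Subgroup.mem_sup_left ha)
          rw [mul_assoc f _ a, hc2, ← mul_assoc d a g, hc1]
          simp [mul_assoc]
        rw [e2] at e
        have hA' : f * (d * g * d⁻¹ * g⁻¹) * a * f⁻¹ ∈ A := by
          rw [mul_assoc f _ a]; exact hfA _ (mul_mem ht ha)
        obtain ⟨e3, e4⟩ := split a _ g _ ha hA' hgC (hfC g hgC) e
        exact ⟨e3.symm, e4.symm⟩
      have fixC : ∀ c ∈ C, f * c * f⁻¹ = c := fun c hc => by
        obtain ⟨a, ha, e⟩ := exists_left h hb hb1 (c := c⁻¹) (inv_mem hc)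
        have := (hA_act a ha).2
        rwa [show b * a * b⁻¹ * a⁻¹ = c by rw [← inv_inv c, ← e]; simp [mul_assoc]] at this
      have fixA : ∀ t ∈ A, f * t * f⁻¹ = t := fun t ht => by
        obtain ⟨c, hc, e⟩ := exists_right h' hd hd1 (c := t) (hDC.symm ▸ ht)
        have e0 := hdec c
        rw [show b * c * b⁻¹ = c by rw [← hCcB c hc b hb, mul_inv_cancel_right]] at e0
        rw [show d * c * d⁻¹ = t * c by rw [← e]; simp [mul_assoc]] at e0
        have hg : (b * t * b⁻¹ * t⁻¹) ∈ C := by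
          have := inv_mem (comm_mem h ht hb)
          rwa [show (t * b * t⁻¹ * b⁻¹)⁻¹ = b * t * b⁻¹ * t⁻¹ by simp [mul_assoc]] at this
        have e1 : b * (t * c) * b⁻¹ = t * ((b * t * b⁻¹ * t⁻¹) * c) := by
          rw [← mul_assoc t, ← habel _ (Subgroup.mem_sup_right hg) t (Subgroup.mem_sup_left ht)]
          have hcb : c * b⁻¹ = b⁻¹ * c := ((show Commute c b from hCcB c hc b hb).inv_right).eq
          calc b * (t * c) * b⁻¹ = b * t * (c * b⁻¹) := by simp [mul_assoc]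
            _ = b * t * (b⁻¹ * c) := by rw [hcb]
            _ = b * t * b⁻¹ * t⁻¹ * t * c := by simp [mul_assoc]
        have e2 : f * (t * c) * f⁻¹ = (f * t * f⁻¹) * (f * c * f⁻¹) := by simp [mul_assoc]
        rw [e1, e2] at e0
        exact (split t _ _ _ ht (hfA t ht) (mul_mem hg hc) (hfC c hc) e0).1.symm
      obtain ⟨c, hc, e⟩ := exists_right h' hd hd1 (c := a0) (hDC.symm ▸ ha0)
      obtain ⟨a, ha, e'⟩ := exists_left h hb hb1 (c := c⁻¹) (inv_mem hc)
      have h1 := (hA_act a ha).1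
      rw [show b * a * b⁻¹ * a⁻¹ = c by rw [← inv_inv c, ← e']; simp [mul_assoc], e, mul_assoc f a0 a,
        fixA _ (mul_mem ha0 ha)] at h1
      exact ha01 (mul_eq_right.1 h1)
  -- the fixed points
  have hC_eq : ∀ g ∈ B ⊔ D, ∀ x, x ∈ conjBy C g ↔ x ∈ N ∧ ∀ y ∈ conjBy B g, x * y = y * x := by
    intro g hg x
    rw [mem_conjBy]
    constructor
    · intro hx
      refine ⟨?_, fun y hy => ?_⟩
      · rw [← hXN g hg]; exact mem_conjBy.2 (Subgroup.mem_sup_right hx)
      · have := congrArg (fun z => g * z * g⁻¹) (hCcB _ hx _ (mem_conjBy.1 hy))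
        simpa [mul_assoc] using this
    · rintro ⟨hxN, hx⟩
      refine fixB _ (mem_conjBy.1 (show x ∈ conjBy N g by rw [hXN g hg]; exact hxN)) fun y hy => ?_
      have := congrArg (fun z => g⁻¹ * z * g) (hx _ (conj_mem_conjBy hy))
      simpa [mul_assoc] using this
  have huniq : ∀ g ∈ B ⊔ D, ∀ k ∈ B ⊔ D, conjBy B g = conjBy B k → conjBy C g = conjBy C k := by
    intro g hg k hk e
    ext x
    rw [hC_eq g hg, hC_eq k hk, e]
  obtain ⟨x0, hx0, hx0D⟩ := right_mem hp
  have hA0 : conjBy C x0 = A := by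
    ext x
    rw [hC_eq x0 hx0, ← hx0D]
    exact ⟨fun h => fixD x h.1 h.2, fun hx => ⟨Subgroup.mem_sup_left hx, fun d hd => hAcD x hx d hd⟩⟩
  have horb : {E | ∃ x ∈ B ⊔ D, E = conjBy A x} = {E | ∃ x ∈ B ⊔ D, E = conjBy C x} := by
    ext E
    constructor
    · rintro ⟨x, hx, rfl⟩
      exact ⟨x * x0, mul_mem hx hx0, by rw [← hA0, conjBy_conjBy]⟩
    · rintro ⟨x, hx, rfl⟩
      refine ⟨x * x0⁻¹, mul_mem hx (inv_mem hx0), ?_⟩
      rw [eq_conjBy_inv hA0, conjBy_conjBy]
  have horb1 : {E | ∃ x ∈ B ⊔ D, E = conjBy A x} = (fun b : G => conjBy A b) '' (B : Set G) ∪ {C} := by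
    ext E
    constructor
    · intro hE
      rw [horb] at hE
      obtain ⟨g, hg, rfl⟩ := hE
      rcases (mem_iff hp).1 (conj_mem self_mem hg) with e | ⟨b, hb, e⟩
      · right
        have := huniq g hg 1 (one_mem _) (by rw [e, conjBy_one])
        rwa [conjBy_one] at this
      · left
        have hbx : b * x0 ∈ B ⊔ D := mul_mem (Subgroup.mem_sup_left hb) hx0
        refine ⟨b, hb, ?_⟩
        show conjBy A b = conjBy C g
        rw [← hA0, conjBy_conjBy]
        exact huniq _ hbx _ hg (by rw [e, hx0D, conjBy_conjBy])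
    · rintro (⟨b, hb, rfl⟩ | rfl)
      · exact ⟨b, Subgroup.mem_sup_left hb, rfl⟩
      · rw [horb]; exact ⟨1, one_mem _, (conjBy_one _).symm⟩
  have horb2 : {E | ∃ x ∈ B ⊔ D, E = conjBy A x} = (fun d : G => conjBy C d) '' (D : Set G) ∪ {A} := by
    ext E
    constructor
    · intro hE
      rw [horb] at hE
      obtain ⟨g, hg, rfl⟩ := hE
      have hmem : conjBy B g ∈ unipotentSubgroups D B :=
        conj_mem (right_mem (RankOnePair_symm hp)) (by rwa [sup_comm])
      rcases (mem_iff (RankOnePair_symm hp)).1 hmem with e | ⟨d, hd, e⟩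
      · right
        exact (huniq g hg x0 hx0 (e.trans hx0D)).trans hA0
      · left
        exact ⟨d, hd, huniq d (Subgroup.mem_sup_right hd) g hg e.symm⟩
    · rintro (⟨d, hd, rfl⟩ | rfl)
      · rw [horb]; exact ⟨d, Subgroup.mem_sup_right hd, rfl⟩
      · exact ⟨1, one_mem _, (conjBy_one _).symm⟩
  have hboth : ∀ x ∈ N, ∀ g ∈ B ⊔ D, ∀ k ∈ B ⊔ D, conjBy B g ≠ conjBy B k →
      x ∈ conjBy C g → x ∈ conjBy C k → x = 1 := by
    intro x hx g hg k hk hne h1 h2
    have hsup := sup_eq hp (conj_mem self_mem hg) (conj_mem self_mem hk) hne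
    have hle : B ⊔ D ≤ Subgroup.centralizer ({x} : Set G) := by
      rw [← hsup]
      exact sup_le (fun y hy => Subgroup.mem_centralizer_singleton_iff.2 (((hC_eq g hg x).1 h1).2 y hy).symm)
        (fun y hy => Subgroup.mem_centralizer_singleton_iff.2 (((hC_eq k hk x).1 h2).2 y hy).symm)
    exact hdisj x
      (fixD x hx fun d hd => (Subgroup.mem_centralizer_singleton_iff.1 (hle (Subgroup.mem_sup_right hd))).symm)
      (fixB x hx fun b hb => (Subgroup.mem_centralizer_singleton_iff.1 (hle (Subgroup.mem_sup_left hb))).symm)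
  refine ⟨hp, horb, horb1, horb2, ⟨?_, ?_, ?_⟩, ?_⟩
  · rintro E ⟨x, hx, rfl⟩
    exact (Subgroup.map_mono le_sup_left).trans (hXN x hx).le
  · intro x hx hx1
    obtain ⟨a, ha, c, hc, rfl⟩ := mem_sup hS h hA hx
    rw [horb1]
    by_cases ha1 : a = 1
    · exact ⟨C, Or.inr rfl, by simpa [ha1] using hc⟩
    · obtain ⟨b, hb, hm⟩ := mem_conj h ha ha1 hc
      exact ⟨_, Or.inl ⟨b, hb, rfl⟩, hm⟩
  · intro E hE F hF hne
    rw [horb] at hE hF
    obtain ⟨g, hg, rfl⟩ := hE
    obtain ⟨k, hk, rfl⟩ := hF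
    refine (Subgroup.eq_bot_iff_forall _).2 fun x hx =>
      hboth x ((hC_eq g hg x).1 hx.1).1 g hg k hk (fun e => hne (huniq g hg k hk e)) hx.1 hx.2
  · rintro x ⟨hxX, hxc⟩
    have hfix : ∀ n ∈ N, x⁻¹ * n * x = n := fun n hn => by
      rw [mul_assoc, Subgroup.mem_centralizer_iff.1 hxc n hn, inv_mul_cancel_left]
    have hxB : ∀ b ∈ B, x * b = b * x := by
      have hBx : conjBy B x = B := by
        by_contra hne
        refine hc01 (hboth c0 (Subgroup.mem_sup_right hc0) x hxX 1 (one_mem _) (by rwa [conjBy_one]) ?_ (by rwa [conjBy_one]))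
        rw [mem_conjBy, hfix c0 (Subgroup.mem_sup_right hc0)]; exact hc0
      intro b hb
      have hu : x * b * x⁻¹ * b⁻¹ ∈ B := mul_mem (by rw [← hBx]; exact conj_mem_conjBy hb) (inv_mem hb)
      by_contra hne
      have hu1 : x * b * x⁻¹ * b⁻¹ ≠ 1 := fun e => hne (commute_of_comm_eq_one e)
      obtain ⟨a, ha, e⟩ := exists_left h hu hu1 hc0
      refine hc01 ?_
      rw [← e]
      refine comm_eq_one_of_commute ?_
      have hxn : ∀ n ∈ N, Commute x n := fun n hn => (Subgroup.mem_centralizer_iff.1 hxc n hn).symm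
      have hbN : b⁻¹ * a * b ∈ N := by
        have h5 := hBN b⁻¹ (inv_mem hb) (conj_mem_conjBy (g := b⁻¹) (Subgroup.mem_sup_left ha : a ∈ N))
        rwa [inv_inv] at h5
      have hca := (hxn _ hbN).symm.inv_right
      calc a * (x * b * x⁻¹ * b⁻¹) = (a * x) * b * x⁻¹ * b⁻¹ := by simp [mul_assoc]
        _ = x * b * ((b⁻¹ * a * b) * x⁻¹) * b⁻¹ := by
          rw [← (hxn a (Subgroup.mem_sup_left ha)).eq]; simp [mul_assoc]
        _ = x * b * (x⁻¹ * (b⁻¹ * a * b)) * b⁻¹ := by rw [hca.eq]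
        _ = x * b * x⁻¹ * b⁻¹ * a := by simp [mul_assoc]
    have hxD : ∀ d ∈ D, x * d = d * x := by
      have hDx : conjBy D x = D := by
        by_contra hne
        refine ha01 (hboth a0 (Subgroup.mem_sup_left ha0) (x * x0) (mul_mem hxX hx0) x0 hx0 ?_ ?_ ?_)
        · rwa [← conjBy_conjBy, ← hx0D]
        · rw [← conjBy_conjBy, hA0, mem_conjBy, hfix a0 (Subgroup.mem_sup_left ha0)]; exact ha0
        · rw [hA0]; exact ha0
      intro d hd
      have hu : x * d * x⁻¹ * d⁻¹ ∈ D := mul_mem (by rw [← hDx]; exact conj_mem_conjBy hd) (inv_mem hd)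
      by_contra hne
      have hu1 : x * d * x⁻¹ * d⁻¹ ≠ 1 := fun e => hne (commute_of_comm_eq_one e)
      obtain ⟨c, hc, e⟩ := exists_right h' hu hu1 (c := a0) (hDC.symm ▸ ha0)
      refine ha01 ?_
      rw [← e]
      refine comm_eq_one_of_commute ?_
      have hxn : ∀ n ∈ N, Commute x n := fun n hn => (Subgroup.mem_centralizer_iff.1 hxc n hn).symm
      have hdN : d⁻¹ * c * d ∈ N := by
        have h5 := hDN d⁻¹ (inv_mem hd) (conj_mem_conjBy (g := d⁻¹) (Subgroup.mem_sup_right hc : c ∈ N))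
        rwa [inv_inv] at h5
      have hca := (hxn _ hdN).symm.inv_right
      symm
      calc c * (x * d * x⁻¹ * d⁻¹) = (c * x) * d * x⁻¹ * d⁻¹ := by simp [mul_assoc]
        _ = x * d * ((d⁻¹ * c * d) * x⁻¹) * d⁻¹ := by
          rw [← (hxn c (Subgroup.mem_sup_right hc)).eq]; simp [mul_assoc]
        _ = x * d * (x⁻¹ * (d⁻¹ * c * d)) * d⁻¹ := by rw [hca.eq]
        _ = x * d * x⁻¹ * d⁻¹ * c := by simp [mul_assoc]
    intro y hy
    have hle : B ⊔ D ≤ Subgroup.centralizer ({x} : Set G) := sup_le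
      (fun b hb => Subgroup.mem_centralizer_singleton_iff.2 (hxB b hb).symm)
      (fun d hd => Subgroup.mem_centralizer_singleton_iff.2 (hxD d hd).symm)
    exact (Subgroup.mem_centralizer_singleton_iff.1 (hle hy)).symm

end Cfsg.Agent.RootSubgroups.OppositePartners
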