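import Cfsg.Agent.Lib.RootSubgroups.Graph
import Cfsg.Agent.Lib.RootSubgroups.OppositePartners

/-!
Lines through a member and the rank one partners of that member.
-/

set_option linter.all false
set_option autoImplicit false

namespace Cfsg.Agent.RootSubgroups.Lines

open Cfsg
open Cfsg.Agent.ThreeTransp
open Cfsg.Agent.ThreeTransp.RankOne
open Cfsg.Agent.RootSubgroups.Commutator

variable {G : Type*} [Group G] {S : Set (Subgroup G)}

theorem commutator_conj (A B : Subgroup G) (g : G) : conjBy ⁅A, B⁆ g = ⁅conjBy A g, conjBy B g⁆ :=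
  Subgroup.map_commutator A B _

theorem sup_conj (A B : Subgroup G) (g : G) : conjBy (A ⊔ B) g = conjBy A g ⊔ conjBy B g :=
  Subgroup.map_sup A B _

theorem fix_of_commute {A C : Subgroup G} (h : ⁅A, C⁆ = ⊥) {c : G} (hc : c ∈ C) : conjBy A c = A :=
  conjBy_eq_iff.2 (mem_normalizer_of_centralizes fun a ha =>
    (RankOne.commutator_eq_bot_iff.1 h a ha c hc).symm)

theorem case_comm_left {A B : Subgroup G} (h : RootCommutatorCase S A B) : ⁅A, ⁅A, B⁆⁆ = ⊥ := by
  rw [Subgroup.commutator_comm]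
  exact RankOne.commutator_eq_bot_iff.2 fun c hc a ha => h.2.1 c hc a (Subgroup.mem_sup_left ha)

theorem case_comm_right {A B : Subgroup G} (h : RootCommutatorCase S A B) : ⁅B, ⁅A, B⁆⁆ = ⊥ := by
  rw [Subgroup.commutator_comm]
  exact RankOne.commutator_eq_bot_iff.2 fun c hc b hb => h.2.1 c hc b (Subgroup.mem_sup_right hb)

theorem not_case (hS : IsRootSubgroupSet S) {A B : Subgroup G} (hB : B ∈ S) (hp : IsRankOnePair A B) :
    ¬ RootCommutatorCase S A B := by
  intro h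
  obtain ⟨a, ha, ha1⟩ := exists_ne_one hp
  have := not_commute_mem hp (conj_mem (right_mem hp) (Subgroup.mem_sup_left ha)) (right_mem hp)
    (RootSets.case_conj_commute hS hB h ha)
  exact ha1 (inf_normalizer hp ha (conjBy_eq_iff.1 this))

theorem linePartners_symm {A B : Subgroup G} (hA : A ∈ S) (h : B ∈ linePartners S A) : A ∈ linePartners S B :=
  ⟨⟨hA, fun e => h.1.2.1 e.symm, by rw [Subgroup.commutator_comm]; exact h.1.2.2⟩, by rw [sup_comm]; exact h.2⟩

section

variable (hS : IsRootSubgroupSet S) (hF : ∀ A ∈ S, ¬ IsIsolatedIn (FAdj S) S A)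
include hS hF

theorem ti {A B : Subgroup G} (hA : A ∈ S) (hB : B ∈ S) {x : G} (hxA : x ∈ A) (hxB : x ∈ B) (hx : x ≠ 1) :
    A = B :=
  (S5028.result hS (hF A hA) hA B hB).resolve_left fun e => hx (Subgroup.mem_bot.1 (e.le ⟨hxA, hxB⟩))

theorem span {A B : Subgroup G} (hA : A ∈ S) (h : RootCommutatorCase S A B) {b : G} (hb : b ∈ B) (hb1 : b ≠ 1) :
    A ⊔ conjBy A b = A ⊔ ⁅A, B⁆ := by
  refine le_antisymm (sup_le le_sup_left (Commutator.conj_le hS h hb)) (sup_le le_sup_left fun e he => ?_)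
  obtain ⟨p, hp, rfl⟩ := exists_left h hb hb1 he
  rw [show p * b * p⁻¹ * b⁻¹ = p * (b * p⁻¹ * b⁻¹) by simp [mul_assoc]]
  exact mul_mem (Subgroup.mem_sup_left hp) (Subgroup.mem_sup_right (conj_mem_conjBy (inv_mem hp)))

theorem conj_mem_linePartners {A B : Subgroup G} (hA : A ∈ S) (hB : B ∈ S) (h : RootCommutatorCase S A B)
    {b : G} (hb : b ∈ B) (hb1 : b ≠ 1) : conjBy A b ∈ linePartners S A := by
  refine ⟨⟨hS.conj_mem A hA b, fun e => ?_, ?_⟩, ?_⟩
  · obtain ⟨a, ha, ha1⟩ := (Subgroup.bot_or_exists_ne_one A).resolve_left (hS.ne_bot _ hA)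
    obtain ⟨c, hc, hc1⟩ := (Subgroup.bot_or_exists_ne_one ⁅A, B⁆).resolve_left (hS.ne_bot _ h.1)
    have hle : ⁅A, B⁆ ≤ A := by
      have := span hS hF hA h hb hb1
      rw [e, sup_idem] at this
      exact le_sup_right.trans this.symm.le
    have := ti hS hF hA h.1 (hle hc) hc hc1
    exact hS.ne_bot _ h.1 (RankOne.commutator_eq_bot_iff.2 fun x hx y hy =>
      h.2.1 x (this.le hx) y (Subgroup.mem_sup_right hy))
  · rw [Subgroup.commutator_comm]; exact RootSets.case_conj_commute hS hA (case_symm h) hb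
  · rw [span hS hF hA h hb hb1]
    exact (line hS hA hB (hF A hA) h).2.1

/-- Some member of a covered sum is in the commutator case with a given partner. -/
theorem exists_case {A C D : Subgroup G} (hA : A ∈ S) (hC : C ∈ S) (hD : D ∈ S) (hp : IsRankOnePair A D)
    (hne : A ≠ C) (hAC : ⁅A, C⁆ = ⊥)
    (hpart : ∀ x ∈ A ⊔ C, x ≠ 1 → ∃ F ∈ membersIn S (A ⊔ C), x ∈ F) :
    ∃ F ∈ membersIn S (A ⊔ C), F ≠ A ∧ RootCommutatorCase S D F ∧ ∃ c ∈ C, c ≠ 1 ∧ c ∈ A ⊔ F := by
  have hcov : Graph.Covered S (A ⊔ C) := fun x hx hx1 => by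
    obtain ⟨F, hF', hxF⟩ := hpart x hx hx1; exact ⟨F, hF'.1, hxF⟩
  rcases hS.pair D hD C hC with h | h | h
  · exact absurd h (Graph.not_commute_covered hS hA hC hD hp hAC hcov)
  · obtain ⟨d, hd, hd1⟩ := exists_ne_one (RankOnePair_symm hp)
    obtain ⟨a, ha, ha1, ea⟩ := hp.cond_right d hd hd1
    obtain ⟨c, hc, hc1, ec⟩ := h.cond_left d hd hd1
    have hcom : ⁅conjBy D a⁻¹, conjBy D c⁻¹⁆ = ⊥ := by
      rw [ea, ec, ← commutator_conj, hAC]; exact Subgroup.map_bot _
    have hac : a * c⁻¹ = c⁻¹ * a :=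
      ((show Commute a c from RankOne.commutator_eq_bot_iff.1 hAC a ha c hc).inv_right).eq
    have hcom' : ⁅D, conjBy D (c⁻¹ * a)⁆ = ⊥ := by
      have := congrArg (conjBy · a) hcom
      simp only [commutator_conj, conjBy_conjBy, mul_inv_cancel, conjBy_one] at this
      rw [← hac, this]
      exact Subgroup.map_bot _
    have hz1 : c⁻¹ * a ≠ 1 := fun e => hne (ti hS hF hA hC ha (by rwa [inv_mul_eq_one.1 e] at hc) ha1)
    obtain ⟨F, ⟨hFS, hFle⟩, hzF⟩ := hpart _ (mul_mem (Subgroup.mem_sup_right (inv_mem hc)) (Subgroup.mem_sup_left ha)) hz1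
    have hFA : F ≠ A := by
      rintro rfl
      refine hne (ti hS hF hA hC ?_ hc hc1)
      have := mul_mem hzF (inv_mem ha)
      rw [mul_inv_cancel_right] at this
      exact inv_mem_iff.1 this
    refine ⟨F, ⟨hFS, hFle⟩, hFA, ?_, c, hc, hc1, ?_⟩
    · rcases hS.pair D hD F hFS with h' | h' | h'
      · refine absurd h' (Graph.not_commute_covered hS hA hFS hD hp ?_ (hcov.mono (sup_le le_sup_left hFle)))
        rw [Subgroup.commutator_eq_bot_iff_le_centralizer]
        refine le_trans ?_ (Subgroup.centralizer_le hFle)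
        rw [Subgroup.le_centralizer_iff]
        exact sup_le (fun x hx => Subgroup.mem_centralizer_iff.2 fun y hy => RootSets.comm_self hS hA y hy x hx)
          (fun x hx => Subgroup.mem_centralizer_iff.2 fun y hy => RankOne.commutator_eq_bot_iff.1 hAC y hy x hx)
      · have := not_commute_mem h' self_mem (conj_mem self_mem (Subgroup.mem_sup_right hzF)) hcom'
        exact absurd (inf_normalizer (RankOnePair_symm h') hzF (conjBy_eq_iff.1 this.symm)) hz1
      · exact h'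
    · rw [show c = a * (c⁻¹ * a)⁻¹ by simp]
      exact mul_mem (Subgroup.mem_sup_left ha) (Subgroup.mem_sup_right (inv_mem hzF))
  · obtain ⟨c, hc, hc1⟩ := (Subgroup.bot_or_exists_ne_one C).resolve_left (hS.ne_bot _ hC)
    exact ⟨C, ⟨hC, le_sup_right⟩, hne.symm, h, c, hc, hc1, Subgroup.mem_sup_right hc⟩

/-- If `B` is a partner of `A` in the commutator case with a member `C` on a line with `A`, then
`[A, [B, C]] = C`. -/
theorem opposite {A B C : Subgroup G} (hA : A ∈ S) (hB : B ∈ S) (hC : C ∈ S) (hp : IsRankOnePair A B)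
    (hBC : RootCommutatorCase S B C) (hAC : ⁅A, C⁆ = ⊥) (hcov : Graph.Covered S (A ⊔ C)) :
    ⁅A, ⁅B, C⁆⁆ = C ∧
      ∀ a ∈ A, a ≠ 1 → ∀ b ∈ B, b ≠ 1 → conjBy A b⁻¹ = conjBy B a⁻¹ →
        ∀ c ∈ C, a⁻¹ * (b⁻¹ * c * b * c⁻¹) * a * (b⁻¹ * c * b * c⁻¹)⁻¹ = c := by
  set F := ⁅B, C⁆ with hFdef
  have hFS : F ∈ S := hBC.1
  have hBF : ⁅B, F⁆ = ⊥ := case_comm_left hBC
  have hCF : ⁅C, F⁆ = ⊥ := case_comm_right hBC
  obtain ⟨hmemB, hpartB, -⟩ := line hS hB hC (hF B hB) hBC
  have hBneF : B ≠ F := fun e => hS.ne_bot _ hFS (RankOne.commutator_eq_bot_iff.2 fun x hx y hy =>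
    hBC.2.1 x (e.le hx) y (Subgroup.mem_sup_right hy))
  have hAF : RootCommutatorCase S A F := by
    obtain ⟨F₀, hF₀, hne₀, hc₀, -⟩ := exists_case hS hF hB hFS hA (RankOnePair_symm hp) hBneF hBF hpartB.2.1
    rw [hmemB] at hF₀
    rcases hF₀ with ⟨c, hc, rfl⟩ | rfl
    · have := rankOne_conj hp c
      rw [fix_of_commute hAC hc] at this
      exact absurd hc₀ (not_case hS (hS.conj_mem B hB c) this)
    · exact hc₀
  set H := ⁅A, F⁆ with hHdef
  have hHS : H ∈ S := hAF.1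
  have hAH : ⁅A, H⁆ = ⊥ := case_comm_left hAF
  have hFH : ⁅F, H⁆ = ⊥ := case_comm_right hAF
  obtain ⟨hmemA, hpartA, -⟩ := line hS hA hFS (hF A hA) hAF
  have hHne : ∀ f ∈ F, H ≠ conjBy A f := fun f hf e => by
    refine hS.ne_bot _ hHS ?_
    show ⁅A, F⁆ = ⊥
    have h1 : ⁅conjBy H f⁻¹, F⁆ = ⊥ := by
      rw [fix_of_commute (by rw [Subgroup.commutator_comm]; exact hFH) (inv_mem hf), Subgroup.commutator_comm]
      exact hFH
    rwa [e, conjBy_conjBy, inv_mul_cancel, conjBy_one] at h1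
  have hBH : RootCommutatorCase S B H := by
    obtain ⟨F₀, hF₀, -, hc₀, -⟩ := exists_case hS hF hA hHS hB hp
      (fun e => hHne 1 (one_mem _) (by rw [conjBy_one]; exact e.symm)) hAH hpartA.2.1
    rw [hmemA] at hF₀
    rcases hF₀ with ⟨f, hf, rfl⟩ | rfl
    · have := rankOne_conj hp f
      rw [fix_of_commute hBF hf] at this
      exact absurd hc₀ (not_case hS (hS.conj_mem A hA f) (RankOnePair_symm this))
    · exact hc₀
  obtain ⟨c0, hc0, hc01⟩ := (Subgroup.bot_or_exists_ne_one C).resolve_left (hS.ne_bot _ hC)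
  obtain ⟨hmemF, -, -⟩ := line hS hFS hA (hF F hFS) (case_symm hAF)
  rw [Subgroup.commutator_comm F A, ← hHdef] at hmemF
  have hBHF : ⁅B, H⁆ = F := by
    obtain ⟨a, ha, ha1⟩ := exists_ne_one hp
    obtain ⟨b, hb, hb1, e⟩ := hp.cond_left a ha ha1
    set U := conjBy A b⁻¹ with hU
    have hUS : U ∈ S := hS.conj_mem A hA _
    have hCa : conjBy C a⁻¹ = C := fix_of_commute (by rw [Subgroup.commutator_comm]; exact hAC) (inv_mem ha)
    have hUC : ⁅U, C⁆ = conjBy F a⁻¹ := by rw [hFdef, commutator_conj, hCa, ← e]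
    have hUCc : RootCommutatorCase S U C := case_of_mem hS hUS hC (by rw [hUC]; exact hS.conj_mem F hFS _)
    set f' := b * c0 * b⁻¹ * c0⁻¹ with hf'
    have hf'F : f' ∈ F := comm_mem hBC hb hc0
    have hf'1 : f' ≠ 1 := fun h => hc01 (inj_right hS hBC (hF B hB) hB hb hb1 hc0 h)
    have key : ∀ c ∈ C, conjBy U c = conjBy (conjBy A (b * c * b⁻¹ * c⁻¹)) b⁻¹ := fun c hc => by
      rw [hU, conjBy_conjBy, conjBy_conjBy]
      nth_rewrite 2 [← fix_of_commute hAC hc]
      rw [conjBy_conjBy]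
      simp [mul_assoc]
    have hspan : conjBy (A ⊔ H) b⁻¹ = U ⊔ conjBy F a⁻¹ := by
      rw [hHdef, ← span hS hF hA hAF hf'F hf'1, sup_conj, ← key c0 hc0, ← hUC, ← span hS hF hUS hUCc hc0 hc01]
    have hH' : conjBy H b⁻¹ = conjBy F a⁻¹ := by
      have hm : conjBy H b⁻¹ ∈ membersIn S (U ⊔ ⁅U, C⁆) :=
        ⟨hS.conj_mem H hHS _, by rw [hUC, ← hspan]; exact Subgroup.map_mono le_sup_right⟩
      rw [(line hS hUS hC (hF U hUS) hUCc).1, hUC] at hm
      rcases hm with ⟨c, hc, e'⟩ | e'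
      · exfalso
        simp only at e'
        rw [key c hc, conjBy_inj] at e'
        exact hHne _ (comm_mem hBC hb hc) e'.symm
      · exact e'
    have hle : ⁅B, H⁆ ≤ F ⊔ H := by
      rw [Subgroup.commutator_comm B H]
      calc ⁅H, B⁆ ≤ H ⊔ ⁅H, B⁆ := le_sup_right
        _ = H ⊔ conjBy H b⁻¹ := (span hS hF hHS (case_symm hBH) (inv_mem hb) (inv_ne_one.2 hb1)).symm
        _ ≤ F ⊔ H := by
          refine sup_le le_sup_right ?_
          rw [hH']
          have := Commutator.conj_le hS (case_symm hAF) (b := a⁻¹) (inv_mem ha)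
          rwa [Subgroup.commutator_comm, ← hHdef] at this
    have hm : ⁅B, H⁆ ∈ membersIn S (F ⊔ H) := ⟨hBH.1, hle⟩
    rw [hmemF] at hm
    rcases hm with ⟨a', ha', e'⟩ | e'
    · simp only at e'
      by_cases ha'1 : a' = 1
      · rw [← e', ha'1, conjBy_one]
      exfalso
      have h1 : ⁅conjBy B a'⁻¹, F⁆ = ⊥ := by
        have h2 : ⁅B, conjBy F a'⁆ = ⊥ := by rw [e']; exact case_comm_left hBH
        have h3 := congrArg (conjBy · a'⁻¹) h2
        simp only [commutator_conj, conjBy_conjBy, inv_mul_cancel, conjBy_one] at h3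
        exact h3.trans (Subgroup.map_bot _)
      obtain ⟨b', hb', -, e''⟩ := hp.cond_left a' ha' ha'1
      rw [← e''] at h1
      have h3 := congrArg (conjBy · b') h1
      simp only [commutator_conj, conjBy_conjBy, mul_inv_cancel, conjBy_one] at h3
      rw [fix_of_commute (by rw [Subgroup.commutator_comm]; exact hBF) hb'] at h3
      exact hS.ne_bot _ hHS (h3.trans (Subgroup.map_bot _))
    · exfalso
      refine hS.ne_bot _ hBH.1 (RankOne.commutator_eq_bot_iff.2 fun x hx y hy => ?_)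
      exact (hBH.2.1 y (e'.symm.le hy) x (Subgroup.mem_sup_left hx)).symm
  have cAC := RankOne.commutator_eq_bot_iff.1 hAC
  have cAH := RankOne.commutator_eq_bot_iff.1 hAH
  have cFH := RankOne.commutator_eq_bot_iff.1 hFH
  have cCF := RankOne.commutator_eq_bot_iff.1 hCF
  have cBF := RankOne.commutator_eq_bot_iff.1 hBF
  have cCH : ∀ c ∈ C, ∀ h ∈ H, c * h = h * c := by
    intro c hc h hh
    have hle : H ≤ Subgroup.centralizer ({c} : Set G) := by
      rw [hHdef, Subgroup.commutator_le]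
      intro x hx y hy
      have e1 : x ∈ Subgroup.centralizer ({c} : Set G) := Subgroup.mem_centralizer_singleton_iff.2 (cAC x hx c hc)
      have e2 : y ∈ Subgroup.centralizer ({c} : Set G) := Subgroup.mem_centralizer_singleton_iff.2 (cCF c hc y hy).symm
      exact mul_mem (mul_mem (mul_mem e1 e2) (inv_mem e1)) (inv_mem e2)
    exact (Subgroup.mem_centralizer_singleton_iff.1 (hle hh)).symm
  have ident : ∀ a ∈ A, a ≠ 1 → ∀ b ∈ B, b ≠ 1 → conjBy A b⁻¹ = conjBy B a⁻¹ →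
      ∀ c ∈ C, a⁻¹ * (b⁻¹ * c * b * c⁻¹) * a * (b⁻¹ * c * b * c⁻¹)⁻¹ = c := by
    intro a ha ha1 b hb hb1 e c hc
    set s := b⁻¹ * c * b * c⁻¹ with hs
    have hsF : s ∈ F := by
      have := comm_mem hBC (inv_mem hb) hc
      simpa using this
    set h := a⁻¹ * s * a * s⁻¹ with hh
    have hhH : h ∈ H := by
      have := comm_mem hAF (inv_mem ha) hsF
      simpa using this
    have hasa : a * s * a⁻¹ = h⁻¹ * s := by
      have e1 : a * h * a⁻¹ = h := by rw [cAH a ha h hhH, mul_inv_cancel_right]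
      rw [← e1, hh]; simp [mul_assoc]
    set z := h⁻¹ * c with hz
    have hq : ∀ y ∈ B, Commute (a * (b⁻¹ * c * b) * a⁻¹) y := by
      intro y hy
      have hy' : a⁻¹ * y * a ∈ conjBy A b⁻¹ := by
        rw [e]; exact mem_conjBy.2 (by simpa [mul_assoc] using hy)
      have hy'' := mem_conjBy.1 hy'
      rw [inv_inv] at hy''
      have := congrArg (fun t => a * (b⁻¹ * t * b) * a⁻¹) (cAC _ hy'' c hc).symm
      show _ * _ = _ * _
      simpa [mul_assoc] using this
    have hqz : a * (b⁻¹ * c * b) * a⁻¹ = z * s := by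
      rw [show b⁻¹ * c * b = s * c by rw [hs]; simp [mul_assoc],
        show a * (s * c) * a⁻¹ = (a * s * a⁻¹) * (a * c * a⁻¹) by simp [mul_assoc], hasa,
        cAC a ha c hc, mul_inv_cancel_right]
      show h⁻¹ * s * c = h⁻¹ * c * s
      rw [mul_assoc h⁻¹ s c, ← cCF c hc s hsF, ← mul_assoc]
    have hzB : ∀ y ∈ B, Commute z y := fun y hy => by
      have h1 := hq y hy
      rw [hqz] at h1
      have h2 : Commute s y := (cBF y hy s hsF).symm
      simpa using h1.mul_left h2.inv_left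
    have hzA : ∀ x ∈ A, Commute z x := fun x hx =>
      ((show Commute x h from cAH x hx h hhH).symm.inv_left).mul_left (show Commute c x from (cAC x hx c hc).symm)
    have hzF : ∀ x ∈ F, Commute z x := fun x hx =>
      ((show Commute x h from cFH x hx h hhH).symm.inv_left).mul_left (show Commute c x from cCF c hc x hx)
    by_contra hne
    have hz1 : z ≠ 1 := fun e' => hne (by rw [hz, inv_mul_eq_one] at e'; exact e')
    have hy1 : a * h ≠ 1 := fun e' => hHne 1 (one_mem _) (by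
      rw [conjBy_one]
      refine (ti hS hF hA hHS ha ?_ ha1).symm
      rw [eq_inv_of_mul_eq_one_left e']; exact inv_mem hhH)
    have hac1 : a * c ≠ 1 := fun e' => by
      have hca : c ∈ A := by rw [eq_inv_of_mul_eq_one_right e']; exact inv_mem ha
      by_cases hc1 : c = 1
      · exact ha1 (by simpa [hc1] using e')
      have : A = C := ti hS hF hA hC hca hc hc1
      exact not_case hS hB hp (case_symm (this ▸ hBC))
    obtain ⟨E, hE, hm⟩ := hcov _ (mul_mem (Subgroup.mem_sup_left ha) (Subgroup.mem_sup_right hc)) hac1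
    obtain ⟨f, hf, hyf⟩ := mem_conj hAF ha ha1 hhH
    have hp' : IsRankOnePair (conjBy A f) B := by
      have := rankOne_conj hp f
      rwa [fix_of_commute hBF hf] at this
    have hcent : z ∈ Subgroup.centralizer ((conjBy A f ⊔ B : Subgroup G) : Set G) := by
      have hle : conjBy A f ⊔ B ≤ Subgroup.centralizer ({z} : Set G) := sup_le
        (fun x hx => Subgroup.mem_centralizer_singleton_iff.2 (by
          have h1 := hzA _ (mem_conjBy.1 hx)
          have h2 := hzF f hf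
          have h3 := (h2.mul_right h1).mul_right h2.inv_right
          have hx' : f * (f⁻¹ * x * f) * f⁻¹ = x := by simp [mul_assoc]
          rw [hx'] at h3
          exact h3.eq.symm))
        (fun x hx => Subgroup.mem_centralizer_singleton_iff.2 (hzB x hx).eq.symm)
      exact Subgroup.mem_centralizer_iff.2 fun x hx => Subgroup.mem_centralizer_singleton_iff.1 (hle hx)
    refine RootSets.mul_notMem_rootElements hS (hS.conj_mem A hA f) ⟨hB, hp'⟩ hcent hz1 hyf hy1 ?_
    have : z * (a * h) = a * c := by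
      rw [← mul_assoc, (hzA a ha).eq, mul_assoc, hz, mul_assoc, cCH c hc h hhH, inv_mul_cancel_left]
    rw [this]
    exact ⟨hac1, E, hE, hm⟩
  obtain ⟨a, ha, ha1⟩ := exists_ne_one hp
  obtain ⟨b, hb, hb1, e⟩ := hp.cond_left a ha ha1
  refine ⟨(eq_of_le_commutator hS hA hFS (hF A hA) hAF hC fun c hc => ?_).symm, ident⟩
  rw [← ident a ha ha1 b hb hb1 e c hc]
  have hs : b⁻¹ * c * b * c⁻¹ ∈ F := by
    have := comm_mem hBC (inv_mem hb) hc
    simpa using this
  have := comm_mem hAF (inv_mem ha) hs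
  simpa using this

/-- A rank one pair with a common commutator partner is special. -/
theorem special {A B C : Subgroup G} (hA : A ∈ S) (hB : B ∈ S) (hC : C ∈ S) (hp : IsRankOnePair A B)
    (hBC : RootCommutatorCase S B C) (hAC : ⁅A, C⁆ = ⊥) (hcov : Graph.Covered S (A ⊔ C)) :
    IsSpecialRankOnePair A B := by
  obtain ⟨hopp, ident⟩ := opposite hS hF hA hB hC hp hBC hAC hcov
  refine ⟨hp, fun a ha ha1 b hb hb1 e => ?_⟩
  have hCB : ⁅C, B⁆ = ⁅B, C⁆ := Subgroup.commutator_comm _ _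
  have hcent := (OppositePartners.main hS hC hB (hCB ▸ hBC.1) hA (hCB ▸ hopp)).2.2.2.2.2
  have cAC := RankOne.commutator_eq_bot_iff.1 hAC
  set u := b⁻¹ * a * b with hu
  set v := a⁻¹ * b⁻¹ * a with hv
  have huU : u ∈ conjBy A b⁻¹ := mem_conjBy.2 (by rw [hu]; simpa [mul_assoc] using ha)
  have hvU : v ∈ conjBy A b⁻¹ := by rw [e, mem_conjBy, hv]; simpa [mul_assoc] using inv_mem hb
  have habel : ∀ x ∈ C ⊔ ⁅C, B⁆, ∀ y ∈ C ⊔ ⁅C, B⁆, Commute x y := fun x hx y hy =>
    sup_abelian hS hB (case_symm hBC) hx hy hC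
  have act : ∀ c ∈ C, u * c * u⁻¹ = v * c * v⁻¹ ∧
      u * (b⁻¹ * c * b * c⁻¹) * u⁻¹ = v * (b⁻¹ * c * b * c⁻¹) * v⁻¹ := by
    intro c hc
    set s := b⁻¹ * c * b * c⁻¹ with hs
    have hsF : s ∈ ⁅B, C⁆ := by
      have := comm_mem hBC (inv_mem hb) hc
      simpa using this
    have hsc : Commute s c := habel s (Subgroup.mem_sup_right (hCB.symm ▸ hsF)) c (Subgroup.mem_sup_left hc)
    have e3 : b⁻¹ * c * b = s * c := by rw [hs]; simp [mul_assoc]
    have hbs : Commute b s := (hBC.2.1 s hsF b (Subgroup.mem_sup_left hb)).symm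
    have e3' : b⁻¹ * s * b = s := by rw [mul_assoc, ← hbs.eq, inv_mul_cancel_left]
    have e3b : b * s * b⁻¹ = s := by rw [hbs.eq, mul_inv_cancel_right]
    have e5 : b * c * b⁻¹ = s⁻¹ * c := by
      have h1 : b * (b⁻¹ * c * b) * b⁻¹ = c := by simp [mul_assoc]
      rw [e3, show b * (s * c) * b⁻¹ = (b * s * b⁻¹) * (b * c * b⁻¹) by simp [mul_assoc], e3b] at h1
      rw [eq_inv_mul_iff_mul_eq, h1]
    have hac : Commute a c := cAC a ha c hc
    have e1 : a * c * a⁻¹ = c := by rw [hac.eq, mul_inv_cancel_right]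
    have e1' : a⁻¹ * c * a = c := by rw [mul_assoc, ← hac.eq, inv_mul_cancel_left]
    have e4 : a⁻¹ * s * a = c * s := mul_inv_eq_iff_eq_mul.1 (ident a ha ha1 b hb hb1 e c hc)
    have e6 : a * s * a⁻¹ = c⁻¹ * s := by
      have h1 : a * (a⁻¹ * s * a) * a⁻¹ = s := by simp [mul_assoc]
      rw [e4, show a * (c * s) * a⁻¹ = (a * c * a⁻¹) * (a * s * a⁻¹) by simp [mul_assoc], e1] at h1
      rw [eq_inv_mul_iff_mul_eq, h1]
    have e6i : a * s⁻¹ * a⁻¹ = s⁻¹ * c := by
      have := congrArg (·⁻¹) e6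
      simpa [mul_assoc] using this
    have cj : ∀ g x y : G, g * (x * y) * g⁻¹ = (g * x * g⁻¹) * (g * y * g⁻¹) := fun g x y => by simp [mul_assoc]
    have cj' : ∀ g x y : G, g⁻¹ * (x * y) * g = (g⁻¹ * x * g) * (g⁻¹ * y * g) := fun g x y => by simp [mul_assoc]
    have e3i : b⁻¹ * c⁻¹ * b = c⁻¹ * s⁻¹ := by
      have := congrArg (·⁻¹) e3
      simpa [mul_assoc] using this
    have hu' : ∀ x, u * x * u⁻¹ = b⁻¹ * (a * (b * x * b⁻¹) * a⁻¹) * b := fun x => by rw [hu]; simp [mul_assoc]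
    have hv' : ∀ x, v * x * v⁻¹ = a⁻¹ * (b⁻¹ * (a * x * a⁻¹) * b) * a := fun x => by rw [hv]; simp [mul_assoc]
    have e3si : b⁻¹ * s⁻¹ * b = s⁻¹ := by rw [mul_assoc, ← hbs.inv_right.eq, inv_mul_cancel_left]
    constructor
    · have L1 : a * (s⁻¹ * c) * a⁻¹ = s⁻¹ * c * c := by rw [cj a, e6i, e1]
      have L2 : b⁻¹ * (s⁻¹ * c * c) * b = c * (s * c) := by
        rw [cj' b (s⁻¹ * c) c, cj' b s⁻¹ c, e3si, e3, inv_mul_cancel_left]
      have R1 : a⁻¹ * (s * c) * a = c * (s * c) := by rw [cj' a s c, e4, e1', mul_assoc]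
      rw [hu', hv', e5, L1, L2, e1, e3, R1]
    · have L1 : b⁻¹ * (c⁻¹ * s) * b = c⁻¹ := by
        rw [cj' b c⁻¹ s, e3i, e3', mul_assoc, inv_mul_cancel, mul_one]
      have R1 : a⁻¹ * c⁻¹ * a = c⁻¹ := by rw [mul_assoc, ← hac.inv_right.eq, inv_mul_cancel_left]
      rw [hu', hv', e3b, e6, L1, R1]
  have hy : ∀ n ∈ C ⊔ ⁅C, B⁆, Commute n (v⁻¹ * u) := by
    intro n hn
    obtain ⟨c, hc, f, hf, rfl⟩ := mem_sup hS (case_symm hBC) hC hn
    have key : ∀ x, u * x * u⁻¹ = v * x * v⁻¹ → Commute x (v⁻¹ * u) := fun x hx => by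
      have h1 := congrArg (fun t => v⁻¹ * t * u) hx
      simp [mul_assoc] at h1
      show x * (v⁻¹ * u) = v⁻¹ * u * x
      rw [mul_assoc v⁻¹ u x]
      exact h1.symm
    obtain ⟨c', hc', hf'⟩ := exists_right hBC (inv_mem hb) (inv_ne_one.2 hb1) (c := f) (hCB ▸ hf)
    rw [inv_inv] at hf'
    exact (key c (act c hc).1).mul_left (key f (hf' ▸ (act c' hc').2))
  have hyU : v⁻¹ * u ∈ conjBy A b⁻¹ := mul_mem (inv_mem hvU) huU
  have hUmem : conjBy A b⁻¹ ∈ unipotentSubgroups A B :=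
    conj_mem self_mem (Subgroup.mem_sup_right (inv_mem hb))
  have hUne : conjBy A b⁻¹ ≠ B := fun h => ha1 (inv_eq_one.1 (inf_normalizer hp (inv_mem ha)
    (conjBy_eq_iff.1 (e.symm.trans h))))
  have hyX : v⁻¹ * u ∈ B ⊔ A := (sup_comm A B).le (mem_le hUmem hyU)
  have hcentral := hcent (v⁻¹ * u) ⟨hyX, Subgroup.mem_centralizer_iff.2 fun n hn => (hy n hn).eq⟩
  have := eq_one_of_normalizes hp hUmem (right_mem hp) hUne hyU
    (mem_normalizer_of_centralizes fun y hy => hcentral y (Subgroup.mem_sup_left hy))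
  exact (inv_mul_eq_one.1 this).symm

/-- For a line through `A` and a partner of `A`: the distinguished member. -/
theorem line_structure {A C D : Subgroup G} (hA : A ∈ S) (hC : C ∈ linePartners S A) (hD : D ∈ S)
    (hp : IsRankOnePair A D) :
    ∃ E, E ∈ linePartners S A ∧ A ⊔ E = A ⊔ C ∧ RootCommutatorCase S D E ∧ RootCommutatorCase S A ⁅D, E⁆ ∧
      ⁅A, ⁅D, E⁆⁆ = E := by
  obtain ⟨⟨hCS, hne, hAC⟩, hpart⟩ := hC
  obtain ⟨E, ⟨hES, hEle⟩, hEA, hDE, c, hc, hc1, hcE⟩ :=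
    exists_case hS hF hA hCS hD hp (Ne.symm hne) hAC hpart.2.1
  have hAE : ⁅A, E⁆ = ⊥ := by
    rw [Subgroup.commutator_eq_bot_iff_le_centralizer]
    refine le_trans ?_ (Subgroup.centralizer_le hEle)
    rw [Subgroup.le_centralizer_iff]
    exact sup_le (fun x hx => Subgroup.mem_centralizer_iff.2 fun y hy => RootSets.comm_self hS hA y hy x hx)
      (fun x hx => Subgroup.mem_centralizer_iff.2 fun y hy => RankOne.commutator_eq_bot_iff.1 hAC y hy x hx)
  have hcov : Graph.Covered S (A ⊔ E) := fun x hx hx1 => by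
    obtain ⟨M, hM, hxM⟩ := hpart.2.1 x (sup_le le_sup_left hEle hx) hx1
    exact ⟨M, hM.1, hxM⟩
  have hopp := (opposite hS hF hA hD hES hp hDE hAE hcov).1
  have hcase : RootCommutatorCase S A ⁅D, E⁆ := case_of_mem hS hA hDE.1 (by rw [hopp]; exact hES)
  obtain ⟨-, hp2, -⟩ := line hS hA hDE.1 (hF A hA) hcase
  rw [hopp] at hp2
  obtain ⟨M, hM, hcM⟩ := hp2.2.1 c hcE hc1
  have hCM : C = M := ti hS hF hCS hM.1 hc hcM hc1
  have heq : A ⊔ E = A ⊔ C :=
    le_antisymm (sup_le le_sup_left hEle) (sup_le le_sup_left (hCM ▸ hM.2))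
  exact ⟨E, ⟨⟨hES, hEA, hAE⟩, hp2⟩, heq, hDE, hcase, hopp⟩

/-- The members of a line other than `E` are conjugates of `A` under a normalizing member. -/
theorem line_members {A P E : Subgroup G} (hA : A ∈ S) (hP : P ∈ S) (h : RootCommutatorCase S A P)
    (hE : ⁅A, P⁆ = E) {M : Subgroup G} (hM : M ∈ membersIn S (A ⊔ E)) (hne : M ≠ E) :
    ∃ p ∈ P, conjBy A p = M := by
  subst hE
  rw [(line hS hA hP (hF A hA) h).1] at hM
  rcases hM with ⟨p, hp, e⟩ | e
  · exact ⟨p, hp, e⟩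
  · exact absurd e hne

theorem le_normalizer_line {A P : Subgroup G} (hA : A ∈ S) (h : RootCommutatorCase S A P) :
    P ≤ Subgroup.normalizer ((A ⊔ ⁅A, P⁆ : Subgroup G) : Set G) := by
  refine Subgroup.le_normalizer_iff.2 fun p hp x hx => ?_
  have hle : conjBy (A ⊔ ⁅A, P⁆) p ≤ A ⊔ ⁅A, P⁆ := by
    rw [sup_conj]
    refine sup_le (Commutator.conj_le hS h hp) (le_trans (le_of_eq ?_) le_sup_right)
    exact fix_of_commute (by rw [Subgroup.commutator_comm]; exact case_comm_right h) hp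
  exact hle (conj_mem_conjBy hx)

end

end Cfsg.Agent.RootSubgroups.Lines
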