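import Cfsg.Agent.Lib.RootSubgroups.Lines
import Cfsg.Agent.Lib.RootSubgroups.Incomparable

/-!
# Two chained commutator cases give a rank one pair

If `[A, B] = C` and `[C, Q] = A` are commutator cases then `Q, B` is a rank one pair.
-/

set_option linter.all false
set_option autoImplicit false

namespace Cfsg.Agent.RootSubgroups.OppositeCase

open Cfsg
open Cfsg.Agent.ThreeTransp
open Cfsg.Agent.ThreeTransp.RankOne
open Cfsg.Agent.RootSubgroups.Commutator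
open Cfsg.Agent.RootSubgroups.Lines

variable {G : Type*} [Group G] {S : Set (Subgroup G)}

theorem rankOne (hS : IsRootSubgroupSet S) (hF : ∀ A ∈ S, ¬ IsIsolatedIn (FAdj S) S A)
    {A B Q : Subgroup G} (hA : A ∈ S) (hB : B ∈ S) (hQ : Q ∈ S) (hAB : RootCommutatorCase S A B)
    (hCQ : RootCommutatorCase S ⁅A, B⁆ Q) (hCQA : ⁅⁅A, B⁆, Q⁆ = A) : IsRankOnePair Q B := by
  have hC : ⁅A, B⁆ ∈ S := hAB.1
  obtain ⟨q, hq, hq1⟩ := (Subgroup.bot_or_exists_ne_one Q).resolve_left (hS.ne_bot _ hQ)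
  obtain ⟨b, hb, hb1⟩ := (Subgroup.bot_or_exists_ne_one B).resolve_left (hS.ne_bot _ hB)
  obtain ⟨c, hc, hc1⟩ := (Subgroup.bot_or_exists_ne_one ⁅A, B⁆).resolve_left (hS.ne_bot _ hC)
  have cCB : ∀ x ∈ ⁅A, B⁆, ∀ y ∈ B, Commute x y := fun x hx y hy =>
    hAB.2.1 x hx y (Subgroup.mem_sup_right hy)
  have cCA : ∀ x ∈ ⁅A, B⁆, ∀ y ∈ A, Commute x y := fun x hx y hy =>
    hAB.2.1 x hx y (Subgroup.mem_sup_left hy)
  have cAQ : ∀ x ∈ A, ∀ y ∈ Q, Commute x y := fun x hx y hy =>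
    hCQ.2.1 x (hCQA.ge hx) y (Subgroup.mem_sup_right hy)
  set a := q * c * q⁻¹ * c⁻¹ with ha'
  have haA : a ∈ A := by
    rw [← hCQA, Subgroup.commutator_comm]
    exact comm_mem (case_symm hCQ) hq hc
  have ha1 : a ≠ 1 := fun e => hc1 (inj_right hS (case_symm hCQ) (hF Q hQ) hQ hq hq1 hc e)
  set γ := b * a * b⁻¹ * a⁻¹ with hγ
  have hγC : γ ∈ ⁅A, B⁆ := by
    rw [Subgroup.commutator_comm]; exact comm_mem (case_symm hAB) hb haA
  have hγ1 : γ ≠ 1 := fun e => ha1 (inj_right hS (case_symm hAB) (hF B hB) hB hb hb1 haA e)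
  set k := q * b * q⁻¹ * b⁻¹ with hk
  rcases hS.pair Q hQ B hB with h | h | hQB
  · exfalso
    have hqb : Commute q b := RankOne.commutator_eq_bot_iff.1 h q hq b hb
    refine hγ1 ?_
    have : Commute b a := ((hqb.symm.mul_right (cCB c hc b hb).symm).mul_right
      hqb.symm.inv_right).mul_right (cCB c hc b hb).symm.inv_right
    rw [hγ, this.eq]; simp
  · exact h
  exfalso
  have hR : ⁅Q, B⁆ ∈ S := hQB.1
  have hkR : k ∈ ⁅Q, B⁆ := comm_mem hQB hq hb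
  have hk1 : k ≠ 1 := fun e => hb1 (inj_right hS hQB (hF Q hQ) hQ hq hq1 hb e)
  have cRB : ∀ x ∈ ⁅Q, B⁆, ∀ y ∈ B, Commute x y := fun x hx y hy =>
    hQB.2.1 x hx y (Subgroup.mem_sup_right hy)
  have cRQ : ∀ x ∈ ⁅Q, B⁆, ∀ y ∈ Q, Commute x y := fun x hx y hy =>
    hQB.2.1 x hx y (Subgroup.mem_sup_left hy)
  have eq0 : k * (γ * a * c) * k⁻¹ = a * c := by
    have e2 : q * c * q⁻¹ = a * c := by simp [ha', mul_assoc]
    have e1 : q * b * q⁻¹ = k * b := by simp [hk, mul_assoc]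
    have h1 : Commute (k * b) (a * c) := by
      rw [← e1, ← e2]
      exact (cCB c hc b hb).symm.map (MulAut.conj q).toMonoidHom
    have h2 : b * (a * c) * b⁻¹ = γ * a * c := by
      calc b * (a * c) * b⁻¹ = b * a * b⁻¹ * (b * c * b⁻¹) := by simp [mul_assoc]
        _ = γ * a * c := by rw [← (cCB c hc b hb).eq, mul_inv_cancel_right]; simp [hγ, mul_assoc]
    rw [← h2]
    calc k * (b * (a * c) * b⁻¹) * k⁻¹ = k * b * (a * c) * (k * b)⁻¹ := by simp [mul_assoc]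
      _ = a * c := by rw [h1.eq, mul_inv_cancel_right]
  rcases hS.pair ⁅Q, B⁆ hR ⁅A, B⁆ hC with h | h | hM
  · have hkc : Commute k c := RankOne.commutator_eq_bot_iff.1 h k hkR c hc
    have hkγ : Commute k γ := RankOne.commutator_eq_bot_iff.1 h k hkR γ hγC
    have hka : Commute k a := (((cRQ k hkR q hq).mul_right hkc).mul_right
      (cRQ k hkR q hq).inv_right).mul_right hkc.inv_right
    rw [((hkγ.mul_right hka).mul_right hkc).eq, mul_inv_cancel_right, mul_assoc] at eq0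
    exact hγ1 (mul_eq_right.1 eq0)
  · obtain ⟨-, -, lR⟩ := line hS hQ hB (hF Q hQ) hQB
    obtain ⟨-, -, lB⟩ := line hS hB hQ (hF B hB) (case_symm hQB)
    rw [Subgroup.commutator_comm B Q] at lB
    exact Graph.not_commute_covered hS hR hB hC h
      (RankOne.commutator_eq_bot_iff.2 fun x hx y hy => cRB x hx y hy)
      (Graph.covered_of_line lB)
      (RankOne.commutator_eq_bot_iff.2 fun x hx y hy => cCB x hx y hy)
  set M := ⁅⁅Q, B⁆, ⁅A, B⁆⁆ with hMdef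
  have hMS : M ∈ S := hM.1
  have cMR : ∀ x ∈ M, ∀ y ∈ ⁅Q, B⁆, Commute x y := fun x hx y hy =>
    hM.2.1 x hx y (Subgroup.mem_sup_left hy)
  have cMC : ∀ x ∈ M, ∀ y ∈ ⁅A, B⁆, Commute x y := fun x hx y hy =>
    hM.2.1 x hx y (Subgroup.mem_sup_right hy)
  set μ₁ := k * γ * k⁻¹ * γ⁻¹ with hμ₁
  set μ₂ := k * c * k⁻¹ * c⁻¹ with hμ₂
  have hμ₁M : μ₁ ∈ M := comm_mem hM hkR hγC
  have hμ₂M : μ₂ ∈ M := comm_mem hM hkR hc
  have hμ₁1 : μ₁ ≠ 1 := fun e => hγ1 (inj_right hS hM (hF _ hR) hR hkR hk1 hγC e)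
  have hnc : ¬ Commute k γ := fun e => hμ₁1 (by rw [hμ₁, e.eq]; simp)
  have eq1 : μ₁ * γ * (k * a * k⁻¹) * μ₂ = a := by
    have : μ₁ * γ * (k * a * k⁻¹) * (μ₂ * c) = a * c := by
      rw [← eq0]; simp [hμ₁, hμ₂, mul_assoc]
    rw [← mul_assoc] at this
    exact mul_right_cancel this
  have eq2 : k * a * k⁻¹ = γ⁻¹ * μ₁⁻¹ * a * μ₂⁻¹ := by
    calc k * a * k⁻¹ = γ⁻¹ * μ₁⁻¹ * (μ₁ * γ * (k * a * k⁻¹) * μ₂) * μ₂⁻¹ := by simp [mul_assoc]
      _ = γ⁻¹ * μ₁⁻¹ * a * μ₂⁻¹ := by rw [eq1]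
  have hAM : ∀ μ ∈ M, Commute a (μ * a * μ⁻¹) := by
    intro μ hμ
    rcases hS.pair M hMS A hA with h | h | h
    · have := RankOne.commutator_eq_bot_iff.1 h μ hμ a haA
      rw [this, mul_inv_cancel_right]
    · obtain ⟨-, -, lC⟩ := line hS hC hR (hF _ hC) (case_symm hM)
      rw [Subgroup.commutator_comm ⁅A, B⁆ ⁅Q, B⁆] at lC
      exact absurd (RankOne.commutator_eq_bot_iff.2 fun x hx y hy => (cCA y hy x hx).symm)
        (Graph.not_commute_covered hS hMS hC hA h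
          (RankOne.commutator_eq_bot_iff.2 fun x hx y hy => cMC x hx y hy)
          (Graph.covered_of_line lC))
    · have hπ := comm_mem h hμ haA
      have hπa : Commute (μ * a * μ⁻¹ * a⁻¹) a := h.2.1 _ hπ a (Subgroup.mem_sup_right haA)
      have := hπa.symm.mul_right (Commute.refl a)
      rwa [inv_mul_cancel_right] at this
  rcases hS.pair ⁅Q, B⁆ hR A hA with h | h | hN
  · have hka : Commute k a := RankOne.commutator_eq_bot_iff.1 h k hkR a haA
    rw [hka.eq, mul_inv_cancel_right] at eq1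
    have e : γ = μ₁⁻¹ * (a * μ₂⁻¹ * a⁻¹) := by
      calc γ = μ₁⁻¹ * (μ₁ * γ * a * μ₂ * μ₂⁻¹ * a⁻¹) := by simp [mul_assoc]
        _ = μ₁⁻¹ * (a * μ₂⁻¹ * a⁻¹) := by rw [eq1]
    refine hnc (e ▸ ((cMR μ₁ hμ₁M k hkR).inv_left.symm.mul_right ?_))
    exact (hka.mul_right (cMR μ₂ hμ₂M k hkR).inv_left.symm).mul_right hka.inv_right
  · -- `A` and its conjugate by `k` would contain commuting non-trivial elements
    set A' := conjBy A k with hA'
    have hne : A' ≠ A := fun e => hk1 (RankOne.inf_normalizer h hkR (conjBy_eq_iff.1 e))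
    have hp : IsRankOnePair A A' :=
      pair_mem (RankOnePair_symm h)
        ⟨1, one_mem _, (conjBy_one A).symm⟩ ⟨k, Subgroup.mem_sup_right hkR, rfl⟩ hne.symm
    set a'' := k * a * k⁻¹ with ha''
    have ha''1 : a'' ≠ 1 := fun e => ha1 (conj_eq_one_iff.1 e)
    have hp2 : IsRankOnePair A (conjBy A a'') :=
      pair_mem hp ⟨1, one_mem _, (conjBy_one A).symm⟩
        ⟨a'', Subgroup.mem_sup_right (conj_mem_conjBy haA), rfl⟩ (fun e =>
          ha''1 (RankOne.inf_normalizer (RankOnePair_symm hp) (conj_mem_conjBy haA)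
            (conjBy_eq_iff.1 e.symm)))
    set x := a'' * a * a''⁻¹ with hx
    have hxa : Commute a x := by
      have h1 : a * (μ₂⁻¹ * a * μ₂) * a⁻¹ = μ₂⁻¹ * a * μ₂ := by
        have := hAM μ₂⁻¹ (inv_mem hμ₂M)
        rw [inv_inv] at this
        rw [this.eq, mul_inv_cancel_right]
      have h2 : x = γ⁻¹ * (μ₁⁻¹ * μ₂⁻¹ * a * (μ₁⁻¹ * μ₂⁻¹)⁻¹) * γ := by
        rw [hx, eq2]
        calc γ⁻¹ * μ₁⁻¹ * a * μ₂⁻¹ * a * (γ⁻¹ * μ₁⁻¹ * a * μ₂⁻¹)⁻¹
            = γ⁻¹ * (μ₁⁻¹ * (a * (μ₂⁻¹ * a * μ₂) * a⁻¹) * μ₁) * γ := by simp [mul_assoc]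
          _ = _ := by rw [h1]; simp [mul_assoc]
      rw [h2]
      exact ((cCA γ hγC a haA).inv_left.symm.mul_right
        (hAM _ (mul_mem (inv_mem hμ₁M) (inv_mem hμ₂M)))).mul_right (cCA γ hγC a haA).symm
    have hfix : a ∈ conjBy A x := mem_conjBy.2 (by
      rw [mul_assoc, hxa.eq, inv_mul_cancel_left]; exact haA)
    have hTI := Lines.ti hS hF hA (hS.conj_mem A hA x) haA hfix ha1
    exact ha1 (conj_eq_one_iff.1 (RankOne.inf_normalizer (RankOnePair_symm hp2)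
      (conj_mem_conjBy haA) (conjBy_eq_iff.1 hTI.symm)))
  · have hν := comm_mem hN hkR haA
    set α := q * γ⁻¹ * q⁻¹ * γ with hα
    have hαA : α ∈ A := by
      rw [← hCQA, Subgroup.commutator_comm]
      have := comm_mem (case_symm hCQ) hq (inv_mem hγC)
      rwa [inv_inv] at this
    have e1 : a * k * a⁻¹ = α * (γ⁻¹ * k * γ) := by
      have haq : Commute a q := cAQ a haA q hq
      have hab : a * b * a⁻¹ = γ⁻¹ * b := by simp [hγ, mul_assoc]
      calc a * k * a⁻¹ = (a * q * a⁻¹) * (a * b * a⁻¹) * (a * q * a⁻¹)⁻¹ * (a * b * a⁻¹)⁻¹ := by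
            simp [hk, mul_assoc]
        _ = q * (γ⁻¹ * b) * q⁻¹ * (γ⁻¹ * b)⁻¹ := by rw [haq.eq, mul_inv_cancel_right, hab]
        _ = α * (γ⁻¹ * (q * b * q⁻¹) * b⁻¹ * γ) := by simp [hα, mul_assoc]
        _ = α * (γ⁻¹ * k * γ) := by simp [hk, mul_assoc]
    set μ := γ⁻¹ * k * γ * k⁻¹ with hμ
    have hμM : μ ∈ M := by
      rw [hMdef, Subgroup.commutator_comm]
      have := comm_mem (case_symm hM) (inv_mem hγC) hkR
      rwa [inv_inv] at this
    have hμ1 : μ ≠ 1 := fun e => hnc (by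
      rw [hμ, mul_inv_eq_one] at e
      show k * γ = γ * k
      nth_rewrite 2 [← e]
      simp [mul_assoc])
    have hμa : Commute μ a := by
      have e2 : μ = α⁻¹ * (a * k * a⁻¹ * k⁻¹) := by rw [e1]; simp [hμ, mul_assoc]
      rw [e2]
      refine Commute.mul_left (show Commute α a from RootSets.comm_self hS hA α hαA a haA).inv_left ?_
      refine hN.2.1 _ ?_ a (Subgroup.mem_sup_right haA)
      have := inv_mem hν
      simpa [mul_assoc] using this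
    have hMA : ⁅M, A⁆ = ⊥ := by
      rcases hS.pair M hMS A hA with h | h | h
      · exact h
      · exfalso
        have hfix : a ∈ conjBy A μ := mem_conjBy.2 (by
          rw [mul_assoc, hμa.symm.eq, inv_mul_cancel_left]; exact haA)
        exact hμ1 (RankOne.inf_normalizer h hμM (conjBy_eq_iff.1
          (Lines.ti hS hF hA (hS.conj_mem A hA μ) haA hfix ha1).symm))
      · exact absurd (inj_right hS h (hF M hMS) hMS hμM hμ1 haA (by rw [hμa.eq]; simp)) ha1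
    have e3 : k * a * k⁻¹ * a⁻¹ = γ⁻¹ * μ₁⁻¹ * μ₂⁻¹ := by
      rw [eq2, mul_assoc _ a μ₂⁻¹,
        ← RankOne.commutator_eq_bot_iff.1 hMA μ₂⁻¹ (inv_mem hμ₂M) a haA]
      simp [mul_assoc]
    have h1 : Commute k (γ⁻¹ * μ₁⁻¹ * μ₂⁻¹) := by
      rw [← e3]; exact (hN.2.1 _ hν k (Subgroup.mem_sup_left hkR)).symm
    have h2 := (h1.mul_right (cMR μ₂ hμ₂M k hkR).symm).mul_right (cMR μ₁ hμ₁M k hkR).symm
    rw [inv_mul_cancel_right, inv_mul_cancel_right] at h2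
    exact hnc (by simpa using h2.inv_right)

end Cfsg.Agent.RootSubgroups.OppositeCase
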