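import Cfsg.Agent.Lib.ThreeTransp.RankOne
import Mathlib

/-!
# Calculus in special rank one groups

`Opp A B a c` says that `c` is the element of `B` opposite to `a ∈ A`; `a * c * a` is then the Weyl
element of `a`.
-/

set_option linter.all false
set_option autoImplicit false

namespace Cfsg.Agent.RootSubgroups.Special

open Cfsg
open Cfsg.Agent.ThreeTransp
open Cfsg.Agent.ThreeTransp.RankOne

variable {G : Type*} [Group G]

/-- `c ∈ B` is opposite to `a ∈ A`. -/
structure Opp (A B : Subgroup G) (a c : G) : Prop where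
  mem : a ∈ A
  ne : a ≠ 1
  mem' : c ∈ B
  conj : conjBy A c = conjBy B a⁻¹
  braid : a * c * a = c * a * c

variable {A B : Subgroup G} (h : IsSpecialRankOnePair A B)
include h

theorem exists_opp {a : G} (ha : a ∈ A) (ha1 : a ≠ 1) : ∃ c, Opp A B a c := by
  obtain ⟨b, hb, hb1, e⟩ := h.1.cond_left a ha ha1
  refine ⟨b⁻¹, ha, ha1, inv_mem hb, e, ?_⟩
  have hs := h.2 a ha ha1 b hb hb1 e
  calc a * b⁻¹ * a = a * (b⁻¹ * a * b) * b⁻¹ := by simp [mul_assoc]
    _ = b⁻¹ * a * b⁻¹ := by rw [hs]; simp [mul_assoc]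

theorem unique {a c c' : G} (hc : Opp A B a c) (hc' : c' ∈ B) (e : conjBy A c' = conjBy B a⁻¹) : c' = c := by
  have hfix : conjBy A (c⁻¹ * c') = A := by
    rw [← conjBy_conjBy, e, ← hc.conj, conjBy_conjBy, inv_mul_cancel, conjBy_one]
  have := inf_normalizer (RankOnePair_symm h.1) (mul_mem (inv_mem hc.mem') hc') (conjBy_eq_iff.1 hfix)
  exact (inv_mul_eq_one.1 this).symm

theorem Opp.eq {a c c' : G} (hc : Opp A B a c) (hc' : Opp A B a c') : c' = c :=
  unique h hc hc'.mem' hc'.conj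

theorem Opp.ne' {a c : G} (hc : Opp A B a c) : c ≠ 1 := by
  intro e
  have h1 := hc.conj
  rw [e, conjBy_one] at h1
  have h2 := eq_conjBy_inv h1.symm
  rw [inv_inv, conjBy_eq_self_of_mem hc.mem] at h2
  exact h.1.ne h2.symm

omit h in
theorem weyl_left {a c : G} (hc : Opp A B a c) : conjBy A (a * c * a) = B := by
  rw [← conjBy_conjBy, conjBy_eq_self_of_mem hc.mem, ← conjBy_conjBy, hc.conj, conjBy_conjBy,
    mul_inv_cancel, conjBy_one]

omit h in
theorem weyl_a {a c : G} (hc : Opp A B a c) : a * c * a * a * (a * c * a)⁻¹ = c :=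
  calc a * c * a * a * (a * c * a)⁻¹ = a * c * a * c⁻¹ * a⁻¹ := by simp [mul_assoc]
    _ = c := by rw [hc.braid]; simp [mul_assoc]

omit h in
theorem weyl_c {a c : G} (hc : Opp A B a c) : a * c * a * c * (a * c * a)⁻¹ = a :=
  calc a * c * a * c * (a * c * a)⁻¹ = a * (c * a * c) * (a * c * a)⁻¹ := by simp [mul_assoc]
    _ = a := by rw [← hc.braid]; simp [mul_assoc]

theorem weyl_right {a c : G} (hc : Opp A B a c) : conjBy B (a * c * a) = A := by
  by_contra hne
  have hm : a ∈ conjBy B (a * c * a) := by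
    have := conj_mem_conjBy (g := a * c * a) hc.mem'
    rwa [weyl_c hc] at this
  have hX : a * c * a ∈ A ⊔ B :=
    mul_mem (mul_mem (Subgroup.mem_sup_left hc.mem) (Subgroup.mem_sup_right hc.mem'))
      (Subgroup.mem_sup_left hc.mem)
  exact hc.ne (eq_one_of_normalizes h.1 self_mem (conj_mem (right_mem h.1) hX) (Ne.symm hne) hc.mem
    (Subgroup.le_normalizer hm))

theorem Opp.inv {a c : G} (hc : Opp A B a c) : Opp A B a⁻¹ c⁻¹ := by
  refine ⟨inv_mem hc.mem, inv_ne_one.2 hc.ne, inv_mem hc.mem', ?_, ?_⟩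
  · rw [inv_inv]
    have h1 : conjBy A (a * c * a)⁻¹ = B := (eq_conjBy_inv (weyl_right h hc)).symm
    rw [show (a * c * a)⁻¹ = a⁻¹ * (c⁻¹ * a⁻¹) by simp [mul_assoc], ← conjBy_conjBy,
      ← conjBy_conjBy A c⁻¹ a⁻¹, conjBy_eq_self_of_mem (inv_mem hc.mem)] at h1
    have h2 := eq_conjBy_inv h1
    rwa [inv_inv] at h2
  · have := congrArg (·⁻¹) hc.braid
    simpa [mul_assoc] using this

theorem Opp.symm {a c : G} (hc : Opp A B a c) : Opp B A c a := by
  refine ⟨hc.mem', hc.ne' h, hc.mem, ?_, hc.braid.symm⟩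
  have := (hc.inv h).conj
  rw [inv_inv] at this
  exact this.symm

omit h in
theorem weyl_inv {a c : G} : a⁻¹ * c⁻¹ * a⁻¹ = (a * c * a)⁻¹ := by simp [mul_assoc]

theorem weyl_inv_c {a c : G} (hc : Opp A B a c) {x : G} (hx : x ∈ B) :
    (a * c * a)⁻¹ * x * (a * c * a) ∈ A :=
  mem_conjBy.1 (by rw [weyl_left hc]; exact hx)

/-- The opposite of a product, with the relation between Weyl elements. -/
theorem sum {a e ca ce : G} (hca : Opp A B a ca) (hce : Opp A B e ce) (hae : a * e ≠ 1) :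
    ∃ y c' cx, y = e * ((e * ce * e)⁻¹ * ca * (e * ce * e)) ∧ Opp A B y c' ∧ Opp A B (a * e) cx ∧
      cx = ce * c'⁻¹ ∧ y * c' * y * (e * ce * e)⁻¹ * (a * ca * a)⁻¹ * (a * e * cx * (a * e)) = 1 := by
  set n := e * ce * e with hn
  set a' := n⁻¹ * ca * n with ha'
  have ha'A : a' ∈ A := weyl_inv_c h hce hca.mem'
  have hninv : conjBy A n⁻¹ = B := (eq_conjBy_inv (weyl_right h hce)).symm
  obtain ⟨cx, hcx⟩ := exists_opp h (mul_mem hca.mem hce.mem) hae
  have e1 : e⁻¹ = ce * e * n⁻¹ := by simp [hn, mul_assoc]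
  have main : conjBy A cx = conjBy B (ce * (e * a')) := by
    rw [hcx.conj, mul_inv_rev, ← conjBy_conjBy, ← hca.conj, conjBy_conjBy, e1,
      show ce * e * n⁻¹ * ca = ce * (e * a') * n⁻¹ by simp [ha', mul_assoc],
      ← conjBy_conjBy A (ce * (e * a')) n⁻¹, hninv]
  have hy : e * a' ≠ 1 := by
    intro hy
    rw [hy, mul_one, conjBy_eq_self_of_mem hce.mem'] at main
    have := eq_conjBy_inv main
    rw [conjBy_eq_self_of_mem (inv_mem hcx.mem')] at this
    exact h.1.ne this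
  obtain ⟨c', hc'⟩ := exists_opp h (mul_mem hce.mem ha'A) hy
  have hc'i := (hc'.inv h).conj
  rw [inv_inv] at hc'i
  rw [← conjBy_conjBy, ← hc'i, conjBy_conjBy, hcx.conj] at main
  have hcxeq : cx = ce * c'⁻¹ :=
    (unique h hcx (mul_mem hce.mem' (inv_mem hc'.mem')) main.symm).symm
  refine ⟨_, c', cx, rfl, hc', hcx, hcxeq, ?_⟩
  -- both sides are in `A` and normalize `B`
  set g := (e * a') * c' * (e * a') * n⁻¹ with hg
  have hgA : conjBy A g = A := by
    rw [hg, ← conjBy_conjBy A _ n⁻¹, hninv]; exact weyl_right h hc'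
  have hgB : conjBy B g = B := by
    rw [hg, ← conjBy_conjBy B _ n⁻¹, (eq_conjBy_inv (weyl_left hce)).symm]
    exact weyl_left hc'
  set a'' := g * a * g⁻¹ with ha''
  have ha''A : a'' ∈ A := by
    have := conj_mem_conjBy (g := g) hca.mem
    rwa [hgA] at this
  set r := g * (a * ca * a)⁻¹ * (a * e * cx * (a * e)) with hr
  have hrB : conjBy B r = B := by
    rw [hr, ← conjBy_conjBy, weyl_right h hcx, ← conjBy_conjBy,
      (eq_conjBy_inv (weyl_right h hca)).symm]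
    exact hgB
  have hrA : r = a''⁻¹ * ((e * a') * (a * e)) := by
    have h1 : (a * e)⁻¹ = cx * (e * a')⁻¹ * g * (a * (a * ca * a)⁻¹) := by
      calc (a * e)⁻¹ = e⁻¹ * (ca * a * (a * ca * a)⁻¹) := by simp [mul_assoc]
        _ = ce * (e * a') * n⁻¹ * (a * (a * ca * a)⁻¹) := by rw [e1]; simp [ha', mul_assoc]
        _ = ce * c'⁻¹ * (e * a')⁻¹ * g * (a * (a * ca * a)⁻¹) := by simp [hg, mul_assoc]
        _ = _ := by rw [hcxeq]
    have h2 : g * (a * (a * ca * a)⁻¹) = e * a' * (cx⁻¹ * (a * e)⁻¹) := by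
      rw [h1]; simp [mul_assoc]
    calc r = a''⁻¹ * (g * (a * (a * ca * a)⁻¹)) * (a * e * cx * (a * e)) := by
          simp [hr, ha'', mul_assoc]
      _ = _ := by rw [h2]; simp [mul_assoc]
  have hrmem : r ∈ A := by
    rw [hrA]; exact mul_mem (inv_mem ha''A) (mul_mem (mul_mem hce.mem ha'A) (mul_mem hca.mem hce.mem))
  exact inf_normalizer h.1 hrmem (conjBy_eq_iff.1 hrB)

/-- `c (e ^ k) ^ k = c e`. -/
theorem pow_opp (k : ℕ) : ∀ {e ce c : G}, Opp A B e ce → Opp A B (e ^ k) c → c ^ k = ce := by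
  induction k with
  | zero => intro e ce c _ h0; exact absurd (pow_zero e) h0.ne
  | succ k ih =>
    intro e ce c hce hc
    set n := e * ce * e with hn
    by_cases hk : e ^ k = 1
    · rw [pow_succ, hk, one_mul] at hc
      have hck : ce ^ k = 1 := by
        have e0 : n * e * n⁻¹ = ce := weyl_a hce
        rw [← e0, conj_pow, hk, mul_one, mul_inv_cancel]
      rw [hce.eq h hc, pow_succ, hck, one_mul]
    obtain ⟨ck, hck⟩ := exists_opp h (pow_mem hce.mem k) hk
    obtain ⟨y, c', cx, hy, hc', hcx, hcxeq, -⟩ := sum h hck hce (by rw [← pow_succ]; exact hc.ne)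
    rw [← pow_succ] at hcx
    obtain rfl : c = cx := hcx.eq h hc
    clear hcx
    set f := n⁻¹ * ck * n with hf
    have hfk : f ^ k = e := by
      have e0 : n⁻¹ * ce * n = e := by
        rw [← weyl_a hce, ← hn]; simp [mul_assoc]
      have hh := ih hce hck
      have := conj_pow (i := k) (a := n⁻¹) (b := ck)
      rw [inv_inv] at this
      rw [hf, this, hh, e0]
    have hyf : y = f ^ (k + 1) := by rw [hy, pow_succ, hfk]
    have hyk : y ^ k = e ^ (k + 1) := by rw [hyf, ← pow_mul, mul_comm (k + 1) k, pow_mul, hfk]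
    have h2 : c ^ k = c' := ih hc' (by rw [hyk]; exact hc)
    rw [← h2] at hcxeq
    rw [pow_succ', eq_mul_inv_iff_mul_eq.1 hcxeq]

/-- A non-trivial power has a root. -/
theorem exists_root {e : G} {k : ℕ} (he : e ∈ A) (hk : e ^ k ≠ 1) : ∃ f ∈ A, f ^ k = e := by
  have he1 : e ≠ 1 := fun e0 => hk (by rw [e0, one_pow])
  obtain ⟨ce, hce⟩ := exists_opp h he he1
  obtain ⟨ck, hck⟩ := exists_opp h (pow_mem he k) hk
  refine ⟨_, weyl_inv_c h hce hck.mem', ?_⟩
  have := conj_pow (i := k) (a := (e * ce * e)⁻¹) (b := ck)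
  rw [inv_inv] at this
  rw [this, pow_opp h k hce hck]
  conv_lhs => arg 1; arg 2; rw [← weyl_a hce]
  simp [mul_assoc]

/-- Elements of finite order have prime order. -/
theorem orderOf_prime {e : G} (he : e ∈ A) (he1 : e ≠ 1) (hfin : IsOfFinOrder e) :
    (orderOf e).Prime := by
  set d := orderOf e with hd
  have hd0 : 0 < d := hfin.orderOf_pos
  have hd1 : d ≠ 1 := fun e0 => he1 (orderOf_eq_one_iff.1 e0)
  obtain ⟨p, hp, l, hl⟩ := Nat.exists_prime_and_dvd hd1
  by_cases hl1 : l = 1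
  · rw [hl, hl1, mul_one]; exact hp
  exfalso
  have hlpos : 0 < l := Nat.pos_of_ne_zero (fun e0 => hd0.ne' (by rw [hl, e0, mul_zero]))
  have hep : e ^ p ≠ 1 := fun e0 => by
    have := Nat.le_of_dvd hp.pos (orderOf_dvd_of_pow_eq_one e0)
    rw [← hd, hl] at this
    nlinarith [hp.one_lt, hlpos, Nat.lt_of_le_of_ne hlpos (Ne.symm hl1)]
  obtain ⟨ce, hce⟩ := exists_opp h he he1
  obtain ⟨cp, hcp⟩ := exists_opp h (pow_mem he p) hep
  have hcpl : cp ^ l = 1 := by
    rw [← weyl_a hcp, conj_pow, ← pow_mul, ← hl, hd, pow_orderOf_eq_one, mul_one, mul_inv_cancel]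
  have hel : e ^ l = 1 := by
    have h1 : ce ^ l = 1 := by rw [← pow_opp h p hce hcp, ← pow_mul, mul_comm, pow_mul, hcpl, one_pow]
    rw [← weyl_a hce, conj_pow, conj_eq_one_iff] at h1
    exact h1
  have := Nat.le_of_dvd hlpos (orderOf_dvd_of_pow_eq_one hel)
  rw [← hd, hl] at this
  nlinarith [hp.one_lt, hlpos]

/-- `A` is elementary abelian or torsion-free and divisible. -/
theorem elementary_or_divisible (hcomm : IsMulCommutative A) :
    (∃ p : ℕ, p.Prime ∧ ∀ a ∈ A, a ^ p = 1) ∨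
    ((∀ a ∈ A, a ≠ 1 → ¬ IsOfFinOrder a) ∧ ∀ a ∈ A, ∀ n : ℕ, 0 < n → ∃ c ∈ A, c ^ n = a) := by
  by_cases hfree : ∀ a ∈ A, a ≠ 1 → ¬ IsOfFinOrder a
  · refine Or.inr ⟨hfree, fun a ha n hn => ?_⟩
    rcases eq_or_ne a 1 with rfl | ha1
    · exact ⟨1, one_mem _, one_pow _⟩
    refine exists_root h ha fun e => hfree a ha ha1 ?_
    exact isOfFinOrder_iff_pow_eq_one.2 ⟨n, hn, e⟩
  push Not at hfree
  obtain ⟨e, he, he1, hfin⟩ := hfree
  set p := orderOf e with hp
  have hpp : p.Prime := orderOf_prime h he he1 hfin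
  refine Or.inl ⟨p, hpp, fun g hg => ?_⟩
  by_contra hg1
  have comm : ∀ x ∈ A, ∀ y ∈ A, Commute x y := fun x hx y hy =>
    Subtype.ext_iff.1 (hcomm.is_comm.comm ⟨x, hx⟩ ⟨y, hy⟩)
  have hegp : (e * g) ^ p = g ^ p := by
    rw [(comm e he g hg).mul_pow, hp, pow_orderOf_eq_one, one_mul]
  obtain ⟨f, hf, hfe⟩ := exists_root h hg hg1
  obtain ⟨f₁, hf₁, hfe₁⟩ := exists_root h (mul_mem he hg) (hegp ▸ hg1 : (e * g) ^ p ≠ 1)
  set u := f₁ * f⁻¹ with hu
  have hup : u ^ p = e := by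
    rw [hu, (comm f₁ hf₁ f⁻¹ (inv_mem hf)).mul_pow, inv_pow, hfe, hfe₁, mul_inv_cancel_right]
  have hufin : IsOfFinOrder u := by
    refine isOfFinOrder_iff_pow_eq_one.2 ⟨p * p, Nat.mul_pos hpp.pos hpp.pos, ?_⟩
    rw [pow_mul, hup, hp, pow_orderOf_eq_one]
  have hu1 : u ≠ 1 := fun e0 => he1 (by rw [← hup, e0, one_pow])
  have hq := orderOf_prime h (mul_mem hf₁ (inv_mem hf)) hu1 hufin
  have hdvd : orderOf u ∣ p * p := orderOf_dvd_of_pow_eq_one (by rw [pow_mul, hup, hp, pow_orderOf_eq_one])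
  have := (hq.dvd_mul.1 hdvd).elim id id
  exact he1 (by rw [← hup]; exact orderOf_dvd_iff_pow_eq_one.1 this)

end Cfsg.Agent.RootSubgroups.Special
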