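import Cfsg.Agent.Lib.RootSubgroups.Special

/-!
# The diagonal subgroup moves all of `A`
-/

set_option linter.all false
set_option autoImplicit false

namespace Cfsg.Agent.RootSubgroups.SpecialDiagonal

open Cfsg
open Cfsg.Agent.ThreeTransp
open Cfsg.Agent.ThreeTransp.RankOne
open Cfsg.Agent.RootSubgroups.Special
open scoped commutatorElement

/-- A homomorphism satisfying `τ a ^ 2 * τ e = 1` is trivial on a group with more than three elements. -/
theorem trivial_of_identity {M P : Type*} [Group M] [CommGroup P] (h3 : 3 < ENat.card M) (τ : M →* P)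
    (key : ∀ a e : M, a ≠ 1 → e ≠ 1 → a * e ≠ 1 → τ a * τ a * τ e = 1) (x : M) : τ x = 1 := by
  have good : ∀ x e : M, e ≠ 1 → x * e ≠ 1 → x * e * e ≠ 1 → τ x = 1 := by
    intro x e he hxe hxee
    have k1 := key (x * e) e hxe he hxee
    have hswap : e * (x * e) ≠ 1 := fun hh => hxee (mul_eq_one_comm.1 hh)
    have k2 := key e (x * e) he hxe hswap
    rw [← k2, map_mul] at k1
    have : τ x * (τ x * (τ e * τ e * τ e)) = 1 * (τ x * (τ e * τ e * τ e)) := by
      rw [one_mul]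
      calc _ = τ x * τ e * (τ x * τ e) * τ e := by ac_rfl
        _ = _ := k1
        _ = _ := by ac_rfl
    exact mul_right_cancel this
  have third : ∀ x : M, ∃ f : M, f ≠ 1 ∧ f ≠ x ∧ f ≠ x⁻¹ := by
    intro x
    by_contra hh
    push Not at hh
    have hu : (Set.univ : Set M) ⊆ {1, x, x⁻¹} := fun r _ => by
      by_cases h1 : r = 1
      · exact Or.inl h1
      by_cases h2 : r = x
      · exact Or.inr (Or.inl h2)
      exact Or.inr (Or.inr (hh r h1 h2))
    have := Set.encard_le_encard hu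
    rw [Set.encard_univ] at this
    have h2 : ({1, x, x⁻¹} : Set M).encard ≤ 3 := by
      refine (Set.encard_insert_le _ _).trans ((add_le_add_left (Set.encard_insert_le _ _) 1).trans ?_)
      rw [Set.encard_singleton]
      norm_num
    exact absurd (h3.trans_le (this.trans h2)) (lt_irrefl _)
  obtain ⟨f, hf1, hfx, hfi⟩ := third x
  by_cases hb : x * f * f = 1
  swap
  · exact good x f hf1 (fun hh => hfi (eq_inv_of_mul_eq_one_right hh)) hb
  by_cases hx1 : x = 1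
  · rw [hx1, map_one]
  have hf : τ f = 1 := by
    refine good f x hx1 (fun hh => hfi (eq_inv_of_mul_eq_one_left hh)) fun hh => hfx ?_
    have e1 : f = (x * x)⁻¹ := eq_inv_of_mul_eq_one_left (by rwa [← mul_assoc])
    have e2 : f * f = x⁻¹ := eq_inv_of_mul_eq_one_right (by rwa [← mul_assoc])
    have e3 : x * x * x = 1 := by
      have : (x * x)⁻¹ * (x * x)⁻¹ = x⁻¹ := e1 ▸ e2
      rw [← mul_inv_rev, inv_inj] at this
      have h5 : x * x * x * x = 1 * x := by rw [one_mul, mul_assoc (x * x) x x, this]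
      exact mul_right_cancel h5
    rw [e1]
    exact inv_eq_of_mul_eq_one_right e3
  have hb' := congrArg τ hb
  rwa [map_mul, map_mul, hf, mul_one, mul_one, map_one] at hb'

variable {G : Type*} [Group G] {A B : Subgroup G}

theorem quot_mem_diagonal (h : IsSpecialRankOnePair A B) {a c e d : G} (hc : Opp A B a c) (hd : Opp A B e d) :
    (e * d * e)⁻¹ * (a * c * a) ∈ rankOneDiagonal A B := by
  have hX : ∀ {a c : G}, Opp A B a c → a * c * a ∈ A ⊔ B := fun ho =>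
    mul_mem (mul_mem (Subgroup.mem_sup_left ho.mem) (Subgroup.mem_sup_right ho.mem'))
      (Subgroup.mem_sup_left ho.mem)
  refine Subgroup.mem_inf.2 ⟨Subgroup.mem_inf.2 ⟨mul_mem (inv_mem (hX hd)) (hX hc), conjBy_eq_iff.1 ?_⟩, conjBy_eq_iff.1 ?_⟩
  · rw [← conjBy_conjBy, weyl_left hc, ← eq_conjBy_inv (weyl_left hd)]
  · rw [← conjBy_conjBy, weyl_right h hc, ← eq_conjBy_inv (weyl_right h hd)]

theorem hom_trivial (h : IsSpecialRankOnePair A B) (h3 : 3 < ENat.card A) {P : Type*} [CommGroup P] (τ : ↥A →* P)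
    (hτ : ∀ g ∈ rankOneDiagonal A B, ∀ x y : ↥A, (y : G) = g * x * g⁻¹ → τ y = τ x) (x : ↥A) : τ x = 1 := by
  refine trivial_of_identity h3 τ (fun a e ha he hae => ?_) x
  obtain ⟨a, haA⟩ := a
  obtain ⟨e, heA⟩ := e
  have hane : a ≠ 1 := fun e0 => ha (Subtype.ext e0)
  have hene : e ≠ 1 := fun e0 => he (Subtype.ext e0)
  obtain ⟨ca, hca⟩ := exists_opp h haA hane
  obtain ⟨ce, hce⟩ := exists_opp h heA hene
  obtain ⟨y, c', cx, hy, hc', hcx, hcxeq, -⟩ := Special.sum h hca hce (fun e0 => hae (Subtype.ext e0))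
  set n := e * ce * e with hn
  have d1 : τ ⟨n⁻¹ * ca * n, weyl_inv_c h hce hca.mem'⟩ = τ ⟨a, haA⟩ := by
    refine hτ _ (quot_mem_diagonal h hca hce) _ _ ?_
    calc n⁻¹ * ca * n = n⁻¹ * (a * ca * a * a * (a * ca * a)⁻¹) * n := by rw [weyl_a hca]
      _ = _ := by simp [hn, mul_assoc]
  have d2 : τ ⟨n⁻¹ * cx * n, weyl_inv_c h hce hcx.mem'⟩ = τ ⟨a * e, mul_mem haA heA⟩ := by
    refine hτ _ (quot_mem_diagonal h hcx hce) _ _ ?_
    calc n⁻¹ * cx * n = n⁻¹ * (a * e * cx * (a * e) * (a * e) * (a * e * cx * (a * e))⁻¹) * n := by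
          rw [weyl_a hcx]
      _ = _ := by simp [hn, mul_assoc]
  have d3 : τ ⟨n⁻¹ * c' * n, weyl_inv_c h hce hc'.mem'⟩ = τ ⟨y, hc'.mem⟩ := by
    refine hτ _ (quot_mem_diagonal h hc' hce) _ _ ?_
    calc n⁻¹ * c' * n = n⁻¹ * (y * c' * y * y * (y * c' * y)⁻¹) * n := by rw [weyl_a hc']
      _ = _ := by simp [hn, mul_assoc]
  have hsub : (⟨n⁻¹ * cx * n, weyl_inv_c h hce hcx.mem'⟩ : ↥A) =
      ⟨e, heA⟩ * (⟨n⁻¹ * c' * n, weyl_inv_c h hce hc'.mem'⟩)⁻¹ := by
    refine Subtype.ext ?_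
    show n⁻¹ * cx * n = e * (n⁻¹ * c' * n)⁻¹
    have e0 : n⁻¹ * ce * n = e := by rw [← weyl_a hce, ← hn]; simp [mul_assoc]
    conv_rhs => rw [← e0]
    rw [hcxeq]
    simp [mul_assoc]
  have hys : (⟨y, hc'.mem⟩ : ↥A) = ⟨e, heA⟩ * ⟨n⁻¹ * ca * n, weyl_inv_c h hce hca.mem'⟩ := Subtype.ext hy
  have hxs : (⟨a * e, mul_mem haA heA⟩ : ↥A) = ⟨a, haA⟩ * ⟨e, heA⟩ := rfl
  rw [hsub, map_mul, map_inv, d3, hys, map_mul, d1, hxs, map_mul, mul_inv_rev,
    mul_comm (τ ⟨a, haA⟩)⁻¹, ← mul_assoc, mul_inv_cancel, one_mul] at d2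
  rw [mul_assoc, ← d2, mul_inv_cancel]

theorem le_commutator (h : IsSpecialRankOnePair A B) (hA : IsMulCommutative A) (h3 : 3 < ENat.card A) :
    A ≤ ⁅A, rankOneDiagonal A B⁆ := by
  intro x hx
  letI : CommGroup ↥A := { (inferInstance : Group ↥A) with mul_comm := fun a b => hA.is_comm.comm a b }
  set K := (⁅A, rankOneDiagonal A B⁆ : Subgroup G).subgroupOf A
  have := hom_trivial h h3 (QuotientGroup.mk' K) (fun g hg u v huv => ?_) ⟨x, hx⟩
  · exact (QuotientGroup.eq_one_iff (N := K) _).1 this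
  · rw [QuotientGroup.mk'_eq_mk']
    refine ⟨v⁻¹ * u, ?_, by simp⟩
    show ((v⁻¹ * u : ↥A) : G) ∈ ⁅A, rankOneDiagonal A B⁆
    rw [Subgroup.commutator_comm]
    have : ((v⁻¹ * u : ↥A) : G) = ⁅g, ((u⁻¹ : ↥A) : G)⁆ := by
      simp [huv, commutatorElement_def, mul_assoc]
    rw [this]
    exact Subgroup.commutator_mem_commutator hg (u⁻¹).2

end Cfsg.Agent.RootSubgroups.SpecialDiagonal
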