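import Cfsg.Agent.Lib.RootSubgroups.Special
import Cfsg.Agent.Lib.Chevalley.SL2

/-!
# Opposite elements of prime order generate an image of `SL₂(p)`
-/

set_option linter.all false
set_option autoImplicit false

namespace Cfsg.Agent.RootSubgroups.SpecialPrime

open Cfsg
open Cfsg.Agent.ThreeTransp
open Cfsg.Agent.ThreeTransp.RankOne
open Cfsg.Agent.RootSubgroups.Special
open Cfsg.Agent.Chevalley.SL2

variable {G : Type*} [Group G] {p : ℕ} [hp : Fact p.Prime]

/-- Upper elements. -/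
def ex (a : G) (t : ZMod p) : G := a ^ t.val

/-- Lower elements. -/
def ey (c : G) (t : ZMod p) : G := c ^ (-t).val

/-- Weyl elements. -/
def ew (a c : G) (u : ZMod p) : G := ex a u * ey c (-u⁻¹) * ex a u

/-- Torus elements. -/
def eh (a c : G) (u : ZMod p) : G := ew a c u * (ew a c (1 : ZMod p))⁻¹

section Exp

variable {a : G} (hap : a ^ p = 1)
include hap

theorem ex_cast (n : ℕ) : ex a (n : ZMod p) = a ^ n := by
  rw [ex, ZMod.val_natCast, ← pow_eq_pow_mod n hap]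

theorem ex_add (s t : ZMod p) : ex a (s + t) = ex a s * ex a t := by
  conv_lhs => rw [← ZMod.natCast_zmod_val s, ← ZMod.natCast_zmod_val t, ← Nat.cast_add, ex_cast hap]
  rw [pow_add]; rfl

theorem ex_zero : ex a (0 : ZMod p) = 1 := by
  simpa using ex_cast (p := p) hap 0

theorem ex_neg (t : ZMod p) : ex a (-t) = (ex a t)⁻¹ :=
  eq_inv_of_mul_eq_one_left (by rw [← ex_add hap, neg_add_cancel, ex_zero hap])

theorem ex_pow (s : ZMod p) (n : ℕ) : ex a s ^ n = ex a ((n : ZMod p) * s) := by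
  induction n with
  | zero => simp [ex_zero hap]
  | succ n ih => rw [pow_succ, ih, ← ex_add hap, Nat.cast_succ, add_mul, one_mul]

theorem ex_one : ex a (1 : ZMod p) = a := by
  simpa using ex_cast (p := p) hap 1

theorem ex_inj (ha1 : a ≠ 1) {t : ZMod p} (ht : ex a t = 1) : t = 0 := by
  have hord : orderOf a = p := orderOf_eq_prime hap ha1
  rw [ex, ← orderOf_dvd_iff_pow_eq_one, hord] at ht
  by_contra ht0
  have := Nat.le_of_dvd (Nat.pos_of_ne_zero fun e => ht0 (by simpa using e)) ht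
  exact absurd (ZMod.val_lt t) (not_lt.2 this)

end Exp

variable {a : G} {A B : Subgroup G} (h : IsSpecialRankOnePair A B) {c : G} (hc : Opp A B a c) (hap : a ^ p = 1)
include h hc hap

theorem c_pow : c ^ p = 1 := by
  rw [← weyl_a hc, conj_pow, hap, mul_one, mul_inv_cancel]

theorem ey_add (s t : ZMod p) : ey c (s + t) = ey c s * ey c t := by
  show ex c (-(s + t)) = ex c (-s) * ex c (-t)
  rw [neg_add, ex_add (c_pow h hc hap)]

theorem ey_neg (t : ZMod p) : ey c (-t) = (ey c t)⁻¹ := ex_neg (c_pow h hc hap) (-t)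

theorem opp {u : ZMod p} (hu : u ≠ 0) : Opp A B (ex a u) (ey c (-u⁻¹)) := by
  have hne : ex a u ≠ 1 := fun e => hu (ex_inj hap hc.ne e)
  obtain ⟨d, hd⟩ := exists_opp h (pow_mem hc.mem u.val : ex a u ∈ A) hne
  have h1 : d ^ u.val = c := pow_opp h _ hc hd
  have hdp : d ^ p = 1 := by
    rw [← weyl_a hd, conj_pow, ← pow_mul, mul_comm u.val p, pow_mul, hap, one_pow, mul_one, mul_inv_cancel]
  have hcast : (((u.val * u⁻¹.val : ℕ)) : ZMod p) = 1 := by
    rw [Nat.cast_mul, ZMod.natCast_zmod_val, ZMod.natCast_zmod_val, mul_inv_cancel₀ hu]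
  have : d = ey c (-u⁻¹) :=
    calc d = ex d ((1 : ℕ) : ZMod p) := by rw [ex_cast hdp, pow_one]
      _ = ex d ((u.val * u⁻¹.val : ℕ) : ZMod p) := by rw [hcast, Nat.cast_one]
      _ = d ^ (u.val * u⁻¹.val) := ex_cast hdp _
      _ = ey c (-u⁻¹) := by rw [pow_mul, h1, ey, neg_neg]
  exact this ▸ hd

theorem ew_x {u : ZMod p} (hu : u ≠ 0) (t : ZMod p) :
    ew a c u * ex a t * (ew a c u)⁻¹ = ey c (-(t / u ^ 2)) := by
  have h0 : ew a c u * ex a u * (ew a c u)⁻¹ = ey c (-u⁻¹) := weyl_a (opp h hc hap hu)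
  have ht : t = ((t / u).val : ℕ) * u := by rw [ZMod.natCast_zmod_val, div_mul_cancel₀ _ hu]
  conv_lhs => arg 1; arg 2; rw [ht, ← ex_pow hap]
  rw [← conj_pow, h0]
  show (ex c (-(-u⁻¹))) ^ _ = ex c (-(-(t / u ^ 2)))
  rw [ex_pow (c_pow h hc hap), ZMod.natCast_zmod_val, neg_neg, neg_neg]
  congr 1
  field_simp

theorem ew_y {u : ZMod p} (hu : u ≠ 0) (t : ZMod p) :
    ew a c u * ey c t * (ew a c u)⁻¹ = ex a (-(u ^ 2 * t)) := by
  have h0 : ew a c u * ey c (-u⁻¹) * (ew a c u)⁻¹ = ex a u := weyl_c (opp h hc hap hu)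
  have ht : -t = ((-(t * u)).val : ℕ) * u⁻¹ := by
    rw [ZMod.natCast_zmod_val, neg_mul, mul_inv_cancel_right₀ hu]
  have e : ey c t = ey c (-u⁻¹) ^ (-(t * u)).val := by
    show ex c (-t) = ex c (-(-u⁻¹)) ^ _
    rw [ex_pow (c_pow h hc hap), neg_neg, ← ht]
  rw [e, ← conj_pow, h0, ex_pow hap, ZMod.natCast_zmod_val]
  congr 1
  ring

theorem ew_neg (u : ZMod p) : ew a c (-u) = (ew a c u)⁻¹ := by
  show ex a (-u) * ey c (-(-u)⁻¹) * ex a (-u) = _
  rw [inv_neg, ex_neg hap, neg_neg, show ey c u⁻¹ = (ey c (-u⁻¹))⁻¹ by rw [ey_neg h hc hap, inv_inv]]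
  exact weyl_inv

theorem ew_braid {u : ZMod p} (hu : u ≠ 0) :
    ew a c u = ey c (-u⁻¹) * ex a u * ey c (-u⁻¹) := (opp h hc hap hu).braid

theorem ew_one : ew a c (1 : ZMod p) = a * c * a := by
  simp [ew, ey, ex_one (p := p) hap, ZMod.val_one]

theorem ew_ew {u s : ZMod p} (hu : u ≠ 0) (hs : s ≠ 0) :
    ew a c u * ew a c s * (ew a c u)⁻¹ = ew a c (u ^ 2 / s) := by
  rw [ew_braid h hc hap (div_ne_zero (pow_ne_zero 2 hu) hs)]
  have : ew a c u * ew a c s * (ew a c u)⁻¹ = (ew a c u * ex a s * (ew a c u)⁻¹) *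
      (ew a c u * ey c (-s⁻¹) * (ew a c u)⁻¹) * (ew a c u * ex a s * (ew a c u)⁻¹) := by
    show ew a c u * (ex a s * ey c (-s⁻¹) * ex a s) * _ = _
    simp [mul_assoc]
  rw [this, ew_x h hc hap hu, ew_y h hc hap hu, inv_div]
  congr 3
  field_simp

theorem eh_x {u : ZMod p} (hu : u ≠ 0) (t : ZMod p) :
    eh a c u * ex a t * (eh a c u)⁻¹ = ex a (u ^ 2 * t) := by
  rw [eh, ← ew_neg h hc hap]
  have : ew a c u * ew a c (-1 : ZMod p) * ex a t * (ew a c u * ew a c (-1 : ZMod p))⁻¹ =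
      ew a c u * (ew a c (-1 : ZMod p) * ex a t * (ew a c (-1 : ZMod p))⁻¹) * (ew a c u)⁻¹ := by simp [mul_assoc]
  rw [this, ew_x h hc hap (neg_ne_zero.2 one_ne_zero), ew_y h hc hap hu]
  congr 1
  ring

theorem eh_y {u : ZMod p} (hu : u ≠ 0) (t : ZMod p) :
    eh a c u * ey c t * (eh a c u)⁻¹ = ey c (t / u ^ 2) := by
  rw [eh, ← ew_neg h hc hap]
  have : ew a c u * ew a c (-1 : ZMod p) * ey c t * (ew a c u * ew a c (-1 : ZMod p))⁻¹ =
      ew a c u * (ew a c (-1 : ZMod p) * ey c t * (ew a c (-1 : ZMod p))⁻¹) * (ew a c u)⁻¹ := by simp [mul_assoc]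
  rw [this, ew_y h hc hap (neg_ne_zero.2 one_ne_zero), ew_x h hc hap hu]
  congr 1
  ring

theorem eh_ew {v s : ZMod p} (hv : v ≠ 0) :
    eh a c v * ew a c s * (eh a c v)⁻¹ = ew a c (v ^ 2 * s) := by
  have : eh a c v * ew a c s * (eh a c v)⁻¹ = (eh a c v * ex a s * (eh a c v)⁻¹) *
      (eh a c v * ey c (-s⁻¹) * (eh a c v)⁻¹) * (eh a c v * ex a s * (eh a c v)⁻¹) := by
    show eh a c v * (ex a s * ey c (-s⁻¹) * ex a s) * _ = _
    simp [mul_assoc]
  rw [this, eh_x h hc hap hv, eh_y h hc hap hv, ew]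
  congr 3
  rw [mul_inv]
  ring

theorem commute_eh {d : G} (hx : ∀ t : ZMod p, Commute d (ex a t)) (hy : ∀ t : ZMod p, Commute d (ey c t))
    (u : ZMod p) : Commute d (eh a c u) :=
  (((hx u).mul_right (hy _)).mul_right (hx u)).mul_right
    (((hx 1).mul_right (hy _)).mul_right (hx 1)).inv_right

/-- All torus elements commute. -/
theorem eh_comm {u v : ZMod p} (hu : u ≠ 0) (hv : v ≠ 0) : Commute (eh a c u) (eh a c v) := by
  have key : ∀ u v : ZMod p, u ≠ 0 → v ≠ 0 → ∀ w : ZMod p,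
      Commute ((eh a c (u * v))⁻¹ * (eh a c u * eh a c v)) (eh a c w) := by
    intro u v hu hv w
    refine commute_eh h hc hap (fun t => ?_) (fun t => ?_) w
    · have e : eh a c u * eh a c v * ex a t * (eh a c u * eh a c v)⁻¹ =
          eh a c (u * v) * ex a t * (eh a c (u * v))⁻¹ := by
        rw [eh_x h hc hap (mul_ne_zero hu hv), show eh a c u * eh a c v * ex a t * (eh a c u * eh a c v)⁻¹ =
          eh a c u * (eh a c v * ex a t * (eh a c v)⁻¹) * (eh a c u)⁻¹ by simp [mul_assoc],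
          eh_x h hc hap hv, eh_x h hc hap hu]
        congr 1; ring
      refine mul_inv_eq_iff_eq_mul.1 ?_
      calc _ = (eh a c (u * v))⁻¹ * (eh a c u * eh a c v * ex a t * (eh a c u * eh a c v)⁻¹) * eh a c (u * v) := by
            simp [mul_assoc]
        _ = _ := by rw [e]; simp [mul_assoc]
    · have e : eh a c u * eh a c v * ey c t * (eh a c u * eh a c v)⁻¹ =
          eh a c (u * v) * ey c t * (eh a c (u * v))⁻¹ := by
        rw [eh_y h hc hap (mul_ne_zero hu hv), show eh a c u * eh a c v * ey c t * (eh a c u * eh a c v)⁻¹ =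
          eh a c u * (eh a c v * ey c t * (eh a c v)⁻¹) * (eh a c u)⁻¹ by simp [mul_assoc],
          eh_y h hc hap hv, eh_y h hc hap hu]
        congr 1; field_simp
      refine mul_inv_eq_iff_eq_mul.1 ?_
      calc _ = (eh a c (u * v))⁻¹ * (eh a c u * eh a c v * ey c t * (eh a c u * eh a c v)⁻¹) * eh a c (u * v) := by
            simp [mul_assoc]
        _ = _ := by rw [e]; simp [mul_assoc]
  obtain ⟨g, hg⟩ := IsCyclic.exists_generator (α := (ZMod p)ˣ)
  have rep : ∀ n : ℕ, ∃ d : G, (∀ w : ZMod p, Commute d (eh a c w)) ∧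
      eh a c ((g : ZMod p) ^ n) = d * eh a c (g : ZMod p) ^ n := by
    intro n
    induction n with
    | zero => exact ⟨1, fun _ => Commute.one_left _, by simp [eh]⟩
    | succ n ih =>
      obtain ⟨d, hd, e⟩ := ih
      set k := (eh a c ((g : ZMod p) ^ n * (g : ZMod p)))⁻¹ * (eh a c ((g : ZMod p) ^ n) * eh a c (g : ZMod p)) with hk
      have hkc : ∀ w, Commute k (eh a c w) := key _ _ (pow_ne_zero _ g.ne_zero) g.ne_zero
      refine ⟨k⁻¹ * d, fun w => (hkc w).inv_left.mul_left (hd w), ?_⟩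
      calc eh a c ((g : ZMod p) ^ (n + 1))
          = eh a c ((g : ZMod p) ^ n) * eh a c (g : ZMod p) * k⁻¹ := by
            rw [pow_succ]; simp [hk, mul_assoc]
        _ = k⁻¹ * (eh a c ((g : ZMod p) ^ n) * eh a c (g : ZMod p)) :=
            (((hkc _).mul_right (hkc _)).inv_left.symm).eq
        _ = _ := by rw [e, pow_succ]; simp [mul_assoc]
  have all : ∀ x : ZMod p, x ≠ 0 → ∃ n : ℕ, (g : ZMod p) ^ n = x := fun x hx => by
    obtain ⟨n, hn⟩ := (mem_powers_iff_mem_zpowers.2 (hg (Units.mk0 x hx)))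
    exact ⟨n, by simpa using congrArg Units.val hn⟩
  obtain ⟨m, rfl⟩ := all u hu
  obtain ⟨n, rfl⟩ := all v hv
  obtain ⟨d, hd, e⟩ := rep m
  obtain ⟨d', hd', e'⟩ := rep n
  have h1 : Commute d (eh a c ((g : ZMod p) ^ n)) := hd _
  have h2 : Commute (eh a c (g : ZMod p) ^ m) (eh a c ((g : ZMod p) ^ n)) := by
    rw [e']
    exact ((hd' (g : ZMod p)).symm.pow_left m).mul_right ((Commute.refl _).pow_pow m n)
  rw [e]
  exact h1.mul_left h2

theorem eh_sq_mul {u v : ZMod p} (hu : u ≠ 0) (hv : v ≠ 0) :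
    eh a c (u * v ^ 2) = eh a c u * eh a c (v ^ 2) := by
  have e1 : eh a c v * eh a c u * (eh a c v)⁻¹ = eh a c (v ^ 2 * u) * (eh a c (v ^ 2))⁻¹ := by
    show eh a c v * (ew a c u * (ew a c (1 : ZMod p))⁻¹) * (eh a c v)⁻¹ =
      ew a c (v ^ 2 * u) * (ew a c (1 : ZMod p))⁻¹ * (ew a c (v ^ 2) * (ew a c (1 : ZMod p))⁻¹)⁻¹
    rw [show eh a c v * (ew a c u * (ew a c (1 : ZMod p))⁻¹) * (eh a c v)⁻¹ =
      eh a c v * ew a c u * (eh a c v)⁻¹ * (eh a c v * ew a c (1 : ZMod p) * (eh a c v)⁻¹)⁻¹ by simp [mul_assoc],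
      eh_ew h hc hap hv, eh_ew h hc hap hv, mul_one]
    simp [mul_assoc]
  rw [(eh_comm h hc hap hv hu).eq, mul_inv_cancel_right] at e1
  rw [mul_comm]
  exact (eq_mul_inv_iff_mul_eq.1 e1).symm

theorem eh_neg_mul {u : ZMod p} (hu : u ≠ 0) :
    eh a c (u * -u) = eh a c u * eh a c (-u) := by
  have h1 := ew_ew h hc hap hu (s := -1) (neg_ne_zero.2 one_ne_zero)
  rw [ew_neg h hc hap] at h1
  calc eh a c (u * -u) = ew a c (u ^ 2 / -1) * (ew a c (1 : ZMod p))⁻¹ := by rw [eh]; congr 2; ring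
    _ = ew a c u * (ew a c (1 : ZMod p))⁻¹ * (ew a c u)⁻¹ * (ew a c (1 : ZMod p))⁻¹ := by rw [h1]
    _ = _ := by rw [eh, eh, ew_neg h hc hap]; simp [mul_assoc]

theorem eh_one : eh a c (1 : ZMod p) = 1 := mul_inv_cancel _

theorem relation {u : ZMod p} (hu : u ≠ 0) (hu1 : u + 1 ≠ 0) :
    eh a c ((u + 1) / u) * (eh a c u⁻¹)⁻¹ * eh a c (u + 1)⁻¹ = 1 := by
  have o1 := opp h hc hap (one_ne_zero : (1 : ZMod p) ≠ 0)
  have ou := opp h hc hap hu
  have hne : ex a u * ex a (1 : ZMod p) ≠ 1 := fun e => hu1 (ex_inj hap hc.ne (by rwa [ex_add hap]))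
  obtain ⟨y, c', cx, hy, hc', hcx, -, rel⟩ := Special.sum h ou o1 hne
  rw [← ex_add hap] at hcx
  have hcx' : cx = ey c (-(u + 1)⁻¹) := (opp h hc hap hu1).eq h hcx
  have e1 : (ew a c (1 : ZMod p))⁻¹ * ey c (-u⁻¹) * ew a c (1 : ZMod p) = ex a u⁻¹ := by
    have := ew_y h hc hap (u := (-1 : ZMod p)) (neg_ne_zero.2 one_ne_zero) (-u⁻¹)
    rw [ew_neg h hc hap, inv_inv] at this
    rw [this]; congr 1; ring
  have hyv : y = ex a ((u + 1) / u) := by
    rw [hy]
    show ex a (1 : ZMod p) * ((ew a c (1 : ZMod p))⁻¹ * ey c (-u⁻¹) * ew a c (1 : ZMod p)) = _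
    rw [e1, ← ex_add hap]; congr 1; field_simp
  subst hyv
  have hc'' : c' = ey c (-((u + 1) / u)⁻¹) := (opp h hc hap (div_ne_zero hu1 hu)).eq h hc'
  rw [hc'', hcx', ← ex_add hap] at rel
  have rel' : ew a c ((u + 1) / u) * (ew a c (1 : ZMod p))⁻¹ * (ew a c u)⁻¹ * ew a c (u + 1) = 1 := rel
  have swap : ∀ v : ZMod p, v ≠ 0 → (ew a c (1 : ZMod p))⁻¹ * ew a c v = eh a c v⁻¹ := fun v hv => by
    have := ew_ew h hc hap (u := (-1 : ZMod p)) (neg_ne_zero.2 one_ne_zero) hv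
    rw [ew_neg h hc hap, inv_inv, neg_one_sq, one_div] at this
    rw [eh, ← this]; simp [mul_assoc]
  rw [← swap u hu, ← swap (u + 1) hu1]
  calc _ = ew a c ((u + 1) / u) * (ew a c (1 : ZMod p))⁻¹ * (ew a c u)⁻¹ * ew a c (u + 1) := by
        simp [eh, mul_assoc]
    _ = 1 := rel'

theorem eh_neg_one_sq : eh a c (-1 : ZMod p) * eh a c (-1 : ZMod p) = 1 := by
  by_cases hsq : IsSquare (-1 : ZMod p)
  · obtain ⟨i, hi⟩ := hsq
    have hi0 : i ≠ 0 := fun e => by simp [e] at hi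
    have h1 := eh_sq_mul h hc hap (u := (-1 : ZMod p)) (v := i) (neg_ne_zero.2 one_ne_zero) hi0
    rw [sq, ← hi, neg_mul_neg, one_mul, eh_one h hc hap] at h1
    exact h1.symm
  obtain ⟨u, hu0, ⟨s, rfl⟩, hns⟩ : ∃ u : ZMod p, u ≠ 0 ∧ IsSquare u ∧ ¬ IsSquare (u + 1) := by
    by_contra hh
    push Not at hh
    have hall : ∀ n : ℕ, IsSquare (n : ZMod p) := by
      intro n
      induction n with
      | zero => simp
      | succ n ih =>
        rw [Nat.cast_succ]
        by_cases hn : (n : ZMod p) = 0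
        · rw [hn, zero_add]; exact IsSquare.one
        · exact hh _ hn ih
    exact hsq (by simpa using hall ((-1 : ZMod p).val))
  set u := s * s with hu
  have hu1 : u + 1 ≠ 0 := fun e => hsq ⟨s, by linear_combination (-1 : ZMod p) * e⟩
  have hp2 : ringChar (ZMod p) ≠ 2 := fun e => hsq (by
    haveI : CharP (ZMod p) 2 := ringChar.of_eq e
    rw [CharTwo.neg_eq]; exact IsSquare.one)
  have negsq : ∀ x : ZMod p, x ≠ 0 → ¬ IsSquare x → IsSquare (-x) := by
    intro x hx hxs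
    rw [← quadraticChar_one_iff_isSquare (neg_ne_zero.2 hx), neg_eq_neg_one_mul, map_mul,
      quadraticChar_neg_one_iff_not_isSquare.2 hxs, quadraticChar_neg_one_iff_not_isSquare.2 hsq]
    norm_num
  have hs0 : s ≠ 0 := fun e => hu0 (by rw [hu, e, mul_zero])
  have hy : (u + 1) / u ≠ 0 := div_ne_zero hu1 hu0
  obtain ⟨s1, hs1⟩ := negsq ((u + 1) / u) hy (fun ⟨t, ht⟩ => hns ⟨t * s, by
    field_simp at ht; rw [hu] at ht ⊢; linear_combination ht⟩)
  obtain ⟨s2, hs2⟩ := negsq (u + 1)⁻¹ (inv_ne_zero hu1) (fun e => hns (by simpa using e.inv))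
  have s10 : s1 ≠ 0 := fun e => hy (by rw [e, mul_zero, neg_eq_zero] at hs1; exact hs1)
  have s20 : s2 ≠ 0 := fun e => inv_ne_zero hu1 (by rw [e, mul_zero, neg_eq_zero] at hs2; exact hs2)
  have rel := relation h hc hap hu0 hu1
  have e1 : eh a c ((u + 1) / u) = eh a c (-1 : ZMod p) * eh a c (s1 ^ 2) := by
    rw [← eh_sq_mul h hc hap (neg_ne_zero.2 one_ne_zero) s10]
    congr 1; linear_combination (-1 : ZMod p) * hs1
  have e2 : eh a c (u + 1)⁻¹ = eh a c (-1 : ZMod p) * eh a c (s2 ^ 2) := by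
    rw [← eh_sq_mul h hc hap (neg_ne_zero.2 one_ne_zero) s20]
    congr 1; linear_combination (-1 : ZMod p) * hs2
  have e3 : eh a c u⁻¹ = eh a c (s1 ^ 2) * eh a c (s2 ^ 2) := by
    rw [← eh_sq_mul h hc hap (pow_ne_zero 2 s10) s20]
    congr 1
    rw [sq, sq, ← hs1, ← hs2]
    field_simp
  rw [e1, e2, e3] at rel
  have cm : ∀ {v : ZMod p}, v ≠ 0 → Commute (eh a c (-1 : ZMod p)) (eh a c v) := fun hv =>
    eh_comm h hc hap (neg_ne_zero.2 one_ne_zero) hv
  have : eh a c (-1 : ZMod p) * eh a c (s1 ^ 2) * (eh a c (s1 ^ 2) * eh a c (s2 ^ 2))⁻¹ *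
      (eh a c (-1 : ZMod p) * eh a c (s2 ^ 2)) = eh a c (-1 : ZMod p) * eh a c (-1 : ZMod p) := by
    rw [(cm (pow_ne_zero 2 s20)).eq, (eh_comm h hc hap (pow_ne_zero 2 s10) (pow_ne_zero 2 s20)).eq]
    simp [mul_assoc]
  rwa [this] at rel

theorem eh_mul {u v : ZMod p} (hu : u ≠ 0) (hv : v ≠ 0) : eh a c (u * v) = eh a c u * eh a c v := by
  by_cases hvs : IsSquare v
  · obtain ⟨t, rfl⟩ := hvs
    rw [← sq]; exact eh_sq_mul h hc hap hu (left_ne_zero_of_mul hv)
  by_cases hus : IsSquare u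
  · obtain ⟨t, rfl⟩ := hus
    rw [mul_comm, ← sq, (eh_comm h hc hap (pow_ne_zero 2 (left_ne_zero_of_mul hu)) hv).eq]
    exact eh_sq_mul h hc hap hv (left_ne_zero_of_mul hu)
  -- it suffices to find one pair of non-squares
  obtain ⟨x, y, hx, hy, hxs, hys, hxy⟩ : ∃ x y : ZMod p, x ≠ 0 ∧ y ≠ 0 ∧ ¬ IsSquare x ∧ ¬ IsSquare y ∧
      eh a c (x * y) = eh a c x * eh a c y := by
    by_cases hsq : IsSquare (-1 : ZMod p)
    · refine ⟨u, -u, hu, neg_ne_zero.2 hu, hus, fun e => hus ?_, eh_neg_mul h hc hap hu⟩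
      simpa using hsq.mul e
    · exact ⟨-1, -1, neg_ne_zero.2 one_ne_zero, neg_ne_zero.2 one_ne_zero, hsq, hsq,
        by rw [neg_mul_neg, one_mul, eh_one h hc hap, eh_neg_one_sq h hc hap]⟩
  have quot : ∀ x z : ZMod p, x ≠ 0 → z ≠ 0 → ¬ IsSquare x → ¬ IsSquare z →
      ∃ t : ZMod p, t ≠ 0 ∧ z = x * t ^ 2 := by
    intro x z hx hz hxs hzs
    have hq : IsSquare (x * z) := by
      rw [← quadraticChar_one_iff_isSquare (mul_ne_zero hx hz), map_mul,
        quadraticChar_neg_one_iff_not_isSquare.2 hxs, quadraticChar_neg_one_iff_not_isSquare.2 hzs]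
      norm_num
    obtain ⟨r, hr⟩ := hq
    refine ⟨r / x, div_ne_zero (fun e => mul_ne_zero hx hz (by rw [hr, e, mul_zero])) hx, ?_⟩
    field_simp
    linear_combination hr
  obtain ⟨s, hs, rfl⟩ := quot x u hx hu hxs hus
  obtain ⟨t, ht, rfl⟩ := quot y v hy hv hys hvs
  rw [show x * s ^ 2 * (y * t ^ 2) = x * y * (s * t) ^ 2 by ring,
    eh_sq_mul h hc hap (mul_ne_zero hx hy) (mul_ne_zero hs ht), eh_sq_mul h hc hap hx hs,
    eh_sq_mul h hc hap hy ht, hxy, mul_pow,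
    eh_sq_mul h hc hap (pow_ne_zero 2 hs) ht]
  have c1 := (eh_comm h hc hap hy (pow_ne_zero 2 hs)).eq
  simp only [← mul_assoc]
  rw [mul_assoc (eh a c x) _ (eh a c y), ← c1, ← mul_assoc]

theorem rankOneRel : Rank1 (F := ZMod p) (ex a) (ey c) (eh a c) (ew a c (1 : ZMod p)) where
  X_add := ex_add hap
  H_mul u v hu hv := eh_mul h hc hap hu hv
  H_conj u t hu := by rw [← eh_x h hc hap hu t]; simp [mul_assoc]
  w_conj t := by rw [ew_x h hc hap one_ne_zero]; simp
  Y_eq t ht := by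
    simp [eh, ew, ex_neg hap, inv_neg, mul_assoc]
  w_sq := by
    rw [eq_inv_of_mul_eq_one_left (eh_neg_one_sq h hc hap), eh, ew_neg h hc hap]
    simp [mul_assoc]

omit h hc hap in
theorem scalar {g : Matrix.SpecialLinearGroup (Fin 2) (ZMod p)} (h10 : el g 1 0 = 0) (h01 : el g 0 1 = 0)
    (h00 : el g 0 0 = el g 1 1) : g = 1 ∨ g = -1 := by
  have hd := el_det g
  rw [h10, h01, ← h00, mul_zero, sub_zero] at hd
  rcases mul_self_eq_one_iff.1 hd with e | e
  · left; ext i j; fin_cases i <;> fin_cases j <;> simp_all [el]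
  · right; ext i j; fin_cases i <;> fin_cases j <;> simp_all [el]

omit h hc hap in
theorem center_eq {g : Matrix.SpecialLinearGroup (Fin 2) (ZMod p)} :
    g ∈ Subgroup.center (Matrix.SpecialLinearGroup (Fin 2) (ZMod p)) ↔ g = 1 ∨ g = -1 := by
  constructor
  · intro hg
    have e1 := Subgroup.mem_center_iff.1 hg (sx 1)
    have e2 := Subgroup.mem_center_iff.1 hg (sy 1)
    have a1 := congrArg (fun m => el m 0 0) e1
    have a2 := congrArg (fun m => el m 0 1) e1
    have a3 := congrArg (fun m => el m 0 0) e2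
    simp [el_mul] at a1 a2 a3
    simp [el] at a1 a2 a3
    exact scalar (by simpa [el] using a1) (by simpa [el] using a3) (by simp [el]; linear_combination (-1 : ZMod p) * a2)
  · rintro (rfl | rfl)
    · exact one_mem _
    · rw [Subgroup.mem_center_iff]; intro x; ext i j; simp

theorem main :
    Nonempty (↥(Subgroup.closure ({a, c} : Set G)) ≃* Matrix.SpecialLinearGroup (Fin 2) (ZMod p)) ∨
    Nonempty (↥(Subgroup.closure ({a, c} : Set G)) ≃* Matrix.ProjectiveSpecialLinearGroup (Fin 2) (ZMod p)) := by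
  obtain ⟨φ, hx, hy, hmem⟩ := exists_hom (rankOneRel h hc hap)
  have hrange : φ.range = Subgroup.closure ({a, c} : Set G) := by
    refine le_antisymm ?_ ((Subgroup.closure_le _).2 ?_)
    · rintro _ ⟨g, rfl⟩
      refine (Subgroup.closure_le _).2 ?_ (hmem g)
      rintro x (⟨t, rfl⟩ | ⟨t, rfl⟩)
      · show a ^ t.val ∈ Subgroup.closure ({a, c} : Set G)
        have hm : a ∈ Subgroup.closure ({a, c} : Set G) := Subgroup.subset_closure (Set.mem_insert _ _)
        exact pow_mem hm _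
      · show c ^ (-t).val ∈ Subgroup.closure ({a, c} : Set G)
        have hm : c ∈ Subgroup.closure ({a, c} : Set G) := Subgroup.subset_closure (Set.mem_insert_of_mem _ rfl)
        exact pow_mem hm _
    · rintro x (rfl | rfl)
      · exact ⟨sx 1, by rw [hx, ex_one hap]⟩
      · exact ⟨sy (-1), by rw [hy, ey, neg_neg, ZMod.val_one, pow_one]⟩
  have low : ∀ g, φ g = 1 → el g 1 0 = 0 := by
    intro g hg
    by_contra hne
    rw [decomp hne, map_mul, map_mul, hx, hx, hy] at hg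
    set α := ex a ((el g 0 0 - 1) / el g 1 0)
    set β := ex a ((el g 1 1 - 1) / el g 1 0)
    have e : conjBy A (ey c (el g 1 0)) = A := by
      have hy' : ey c (el g 1 0) = α⁻¹ * β⁻¹ := by
        rw [eq_inv_mul_iff_mul_eq, eq_inv_iff_mul_eq_one]; exact hg
      rw [hy']
      exact conjBy_eq_self_of_mem (mul_mem (inv_mem (pow_mem hc.mem _)) (inv_mem (pow_mem hc.mem _)))
    have h1 := inf_normalizer (RankOnePair_symm h.1) (pow_mem hc.mem' _) (conjBy_eq_iff.1 e)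
    have := ex_inj (a := c) (c_pow h hc hap) (hc.ne' h) (t := -(el g 1 0)) h1
    exact hne (by simpa using this)
  have ker : ∀ g, φ g = 1 → g = 1 ∨ g = -1 := by
    intro g hg
    have conjker : ∀ x, φ (x * g * x⁻¹) = 1 := fun x => by
      rw [map_mul, map_mul, hg, mul_one, map_inv, mul_inv_cancel]
    have h10 := low g hg
    have k1 := low _ (conjker sw)
    have k2 := low _ (conjker (sy 1))
    simp [el_mul] at k1 k2
    simp [el, Matrix.adjugate_fin_two] at h10 k1 k2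
    refine scalar h10 (by simpa [el] using k1) ?_
    simp [el]
    simp [h10, k1] at k2
    first
      | linear_combination k2
      | linear_combination (-1 : ZMod p) * k2
  by_cases hm : φ (-1) = 1
  · refine Or.inr ⟨?_⟩
    have e : φ.ker = Subgroup.center (Matrix.SpecialLinearGroup (Fin 2) (ZMod p)) := by
      ext g
      rw [MonoidHom.mem_ker, center_eq]
      exact ⟨ker g, by rintro (rfl | rfl) <;> simp [hm]⟩
    exact ((MulEquiv.subgroupCongr hrange.symm).trans (QuotientGroup.quotientKerEquivRange φ).symm).trans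
      (QuotientGroup.quotientMulEquivOfEq e)
  · refine Or.inl ⟨?_⟩
    have hinj : Function.Injective φ := (injective_iff_map_eq_one φ).2 fun g hg =>
      (ker g hg).resolve_right fun e => hm (e ▸ hg)
    exact (MulEquiv.subgroupCongr hrange.symm).trans (MonoidHom.ofInjective hinj).symm

end Cfsg.Agent.RootSubgroups.SpecialPrime
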