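import Cfsg.Agent.Lib.RootSubgroups.Special

/-!
# A rank one group with a quadratic module is special
-/

set_option linter.all false
set_option autoImplicit false

namespace Cfsg.Agent.RootSubgroups.SpecialQuadratic

open Cfsg
open Cfsg.Agent.ThreeTransp
open Cfsg.Agent.ThreeTransp.RankOne

variable {X : Type*} [Group X] {A B : Subgroup X} {N : Type*} [AddCommGroup N] [DistribMulAction X N]

/-- `C` acts quadratically. -/
def Quad (C : Subgroup X) (N : Type*) [AddCommGroup N] [DistribMulAction X N] : Prop :=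
  ∀ c ∈ C, ∀ c' ∈ C, ∀ n : N, c' • (c • n - n) = c • n - n

theorem quad_conj (hq : Quad A N) (g : X) : Quad (conjBy A g) N := by
  intro c hc c' hc' n
  have h := hq _ (mem_conjBy.1 hc) _ (mem_conjBy.1 hc') (g⁻¹ • n)
  have h2 := congrArg (g • ·) h
  simpa [smul_sub, smul_smul, mul_assoc] using h2

/-- Quadratic and not quadratic as a whole implies special. -/
theorem special (htop : A ⊔ B = ⊤) (hp : IsRankOnePair A B) (hq : Quad A N)
    (hX : ¬ ∀ x y : X, ∀ n : N, y • (x • n - n) = x • n - n) : IsSpecialRankOnePair A B := by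
  refine ⟨hp, fun a ha ha1 b hb hb1 e => ?_⟩
  by_contra hne
  obtain ⟨g, -, hgB⟩ := right_mem hp
  have hqB : Quad B N := hgB ▸ quad_conj hq g
  set E := conjBy A b⁻¹ with hE
  have hqE : Quad E N := quad_conj hq b⁻¹
  have hEmem : E ∈ unipotentSubgroups A B :=
    conj_mem self_mem (Subgroup.mem_sup_right (inv_mem hb))
  have hEA : E ≠ A := fun e0 => hb1 (inv_eq_one.1
    (inf_normalizer (RankOnePair_symm hp) (inv_mem hb) (conjBy_eq_iff.1 e0)))
  have hEB : B ≠ E := fun e0 => ha1 (inv_eq_one.1
    (inf_normalizer hp (inv_mem ha) (conjBy_eq_iff.1 (e.symm.trans e0.symm))))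
  set u := b⁻¹ * a * b with hu
  set v := a⁻¹ * b⁻¹ * a with hv
  have huE : u ∈ E := mem_conjBy.2 (by simpa [hu, mul_assoc] using ha)
  have hvE : v ∈ E := by
    rw [e]; exact mem_conjBy.2 (by simpa [hv, mul_assoc] using inv_mem hb)
  set d := u * v⁻¹ with hd
  have hdE : d ∈ E := mul_mem huE (inv_mem hvE)
  have hd1 : d ≠ 1 := fun e0 => hne (by rw [hd, mul_inv_eq_one] at e0; exact e0)
  have hAd : conjBy A d ≠ A := fun e0 =>
    hd1 (eq_one_of_normalizes hp hEmem self_mem hEA hdE (conjBy_eq_iff.1 e0))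
  have hdX : d ∈ A ⊔ B := htop ▸ Subgroup.mem_top d
  -- fixed vectors of the whole group
  have fix : ∀ {C D : Subgroup X}, C ⊔ D = ⊤ → ∀ m : N, (∀ c ∈ C, c • m = m) → (∀ c ∈ D, c • m = m) →
      ∀ x : X, x • m = m := fun {C D} h m h1 h2 x => by
    have hx : x ∈ C ⊔ D := h ▸ Subgroup.mem_top x
    exact (sup_le h1 h2 : C ⊔ D ≤ MulAction.stabilizer X m) hx
  have hBE : B ⊔ E = ⊤ := (sup_eq hp (right_mem hp) hEmem hEB).trans htop
  have hAA : A ⊔ conjBy A d = ⊤ :=
    (sup_eq hp self_mem (conj_mem self_mem hdX) (Ne.symm hAd)).trans htop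
  have key : ∀ a' ∈ A, ∀ n : N, ∀ x : X, x • (a' • n - n) = a' • n - n := by
    intro a' ha' n
    set m := a' • n - n with hm
    have mA : ∀ c ∈ A, c • m = m := fun c hc => hq a' ha' c hc n
    set y := b • m - m with hy
    have yB : ∀ c ∈ B, c • y = y := fun c hc => hqB b hb c hc m
    set t := a • y - y with ht
    have tA : ∀ c ∈ A, c • t = t := fun c hc => hq a ha c hc y
    set r := b • t - t with hr
    have rB : ∀ c ∈ B, c • r = r := fun c hc => hqB b hb c hc t
    have eu : u • m = m + t - r := by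
      have hbm : b • m = m + y := by rw [hy]; abel
      have hay : a • y = y + t := by rw [ht]; abel
      have e1 : b⁻¹ • (m + (y + t)) = m + t - r := by
        rw [inv_smul_eq_iff, smul_sub, smul_add, rB b hb, hbm]
        rw [hr]; abel
      rw [hu, mul_smul, mul_smul, hbm, smul_add, mA a ha, hay, e1]
    have ev : v • m = m - y + t := by
      have e1 : b⁻¹ • m = m - y := by
        rw [inv_smul_eq_iff, smul_sub, yB b hb, hy]; abel
      rw [hv, mul_smul, mul_smul, mA a ha, e1, inv_smul_eq_iff, smul_add, smul_sub, mA a ha, tA a ha, ht]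
      abel
    have edm : d • m - m = y - r := by
      have h1 : u • (v⁻¹ • m - m) = v⁻¹ • m - m := hqE _ (inv_mem hvE) _ huE m
      have h2 : v⁻¹ • m = m - (v • m - m) := by
        rw [inv_smul_eq_iff, smul_sub, hqE _ hvE _ hvE m]; abel
      rw [h2, smul_sub] at h1
      rw [hd, mul_smul, h2, smul_sub, hqE _ hvE _ huE m, eu, ev]
      abel
    have fX : ∀ x : X, x • (d • m - m) = d • m - m := by
      refine fix hBE _ (fun c hc => ?_) (fun c hc => hqE d hdE c hc m)
      rw [edm, smul_sub, yB c hc, rB c hc]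
    refine fix hAA m mA fun c hc => ?_
    have hc' := mem_conjBy.1 hc
    set f := d • m - m with hf
    have e2 : d⁻¹ • m = m - f := by
      rw [inv_smul_eq_iff, smul_sub, fX d, hf]; abel
    calc c • m = d • ((d⁻¹ * c * d) • (d⁻¹ • m)) := by simp [smul_smul, mul_assoc]
      _ = m := by rw [e2, smul_sub, mA _ hc', fX, ← e2, smul_inv_smul]
  refine hX fun x => ?_
  let T : Subgroup X :=
    { carrier := {g | ∀ n : N, ∀ y : X, y • (g • n - n) = g • n - n}
      one_mem' := by intro n y; simp
      mul_mem' := by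
        intro g h hg hh n y
        have : (g * h) • n - n = (g • (h • n) - h • n) + (h • n - n) := by rw [mul_smul]; abel
        rw [this, smul_add, hg, hh]
      inv_mem' := by
        intro g hg n y
        have := hg (g⁻¹ • n) y
        rw [smul_inv_smul] at this
        have e3 : g⁻¹ • n - n = -(n - g⁻¹ • n) := by abel
        rw [e3, smul_neg, this] }
  have hAT : A ≤ T := fun c hc n y => key c hc n y
  have hBT : B ≤ T := by
    intro c hc n y
    rw [hgB] at hc
    have h := key _ (mem_conjBy.1 hc) (g⁻¹ • n) (g⁻¹ * y * g)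
    have h2 := congrArg (g • ·) h
    simpa [smul_sub, smul_smul, mul_assoc] using h2
  have hxT : x ∈ T := (sup_le hAT hBT) (htop ▸ Subgroup.mem_top x)
  exact fun y n => hxT n y

end Cfsg.Agent.RootSubgroups.SpecialQuadratic
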