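import Cfsg.Agent.Lib.RootSubgroups.OppositeCase

/-!
# Weak TI subsets of a non-degenerate class are abelian
-/

set_option linter.all false
set_option autoImplicit false

namespace Cfsg.Agent.RootSubgroups.WeakTI

open Cfsg
open Cfsg.Agent.ThreeTransp
open Cfsg.Agent.ThreeTransp.RankOne
open Cfsg.Agent.RootSubgroups.Commutator
open Cfsg.Agent.RootSubgroups.Lines

variable {G : Type*} [Group G] {S Δ : Set (Subgroup G)}

/-- The setwise stabilizer of a family of subgroups under conjugation. -/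
def familyStab (Δ : Set (Subgroup G)) : Subgroup G where
  carrier := {g | (fun A => conjBy A g) '' Δ = Δ}
  one_mem' := by simp [conjBy_one]
  mul_mem' := by
    intro g h hg hh
    show (fun A => conjBy A (g * h)) '' Δ = Δ
    rw [show (fun A => conjBy A (g * h)) = (fun A => conjBy A g) ∘ (fun A => conjBy A h) from
      funext fun A => (conjBy_conjBy A g h).symm, Set.image_comp]
    rw [show _ '' Δ = Δ from hh]
    exact hg
  inv_mem' := by
    intro g hg
    show (fun A => conjBy A g⁻¹) '' Δ = Δ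
    conv_lhs => rw [← (show _ '' Δ = Δ from hg)]
    rw [Set.image_image]
    simp [conjBy_conjBy, conjBy_one]

theorem mem_of_stab {A : Subgroup G} {g : G} (hg : g ∈ familyStab Δ) (hA : A ∈ Δ) : conjBy A g ∈ Δ := by
  have h : (fun A => conjBy A g) '' Δ = Δ := hg
  exact h.subset ⟨A, hA, rfl⟩

theorem le_stab (hΔ : IsWeakTISubset S Δ) {M X : Subgroup G} (hM : M ∈ S) (hX : X ∈ Δ) (h : ⁅M, X⁆ = ⊥) :
    M ≤ familyStab Δ := by
  intro m hm
  rcases eq_or_ne m 1 with rfl | hm1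
  · exact one_mem _
  refine (hΔ.2.2.2 m ⟨hm1, M, hM, hm⟩).resolve_right fun hd => ?_
  have hfix : conjBy X m = X := fix_of_commute (by rwa [Subgroup.commutator_comm]) hm
  exact Set.disjoint_left.1 hd ⟨X, hX, hfix⟩ hX

theorem main (hS : IsRootSubgroupClass S) (hnd : IsNondegenerateRootSet S) (hΔ : IsWeakTISubset S Δ) :
    IsAbelianFamily Δ := by
  have hF := LineClass.all_not_isolated hS hnd
  have self : ∀ A ∈ Δ, A ≤ familyStab Δ := fun A hA =>
    le_stab hΔ (hΔ.1 hA) hA (Incomparable.self_bot hS.1 (hΔ.1 hA))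
  have noPair : ∀ A ∈ Δ, ∀ B ∈ Δ, ¬ IsRankOnePair A B := by
    intro A hA B hB hp
    have htop : familyStab Δ = ⊤ := by
      refine top_le_iff.1 (LineClass.generated hS hnd (hΔ.1 hA) ⟨hΔ.1 hB, hp⟩ ▸ sup_le ?_ (self B hB))
      refine iSup₂_le fun C hC => le_stab hΔ hC.1.1 hA ?_
      rw [Subgroup.commutator_comm]; exact hC.1.2.2
    refine hΔ.2.2.1 (Set.Subset.antisymm hΔ.1 fun X hX => ?_)
    obtain ⟨g, rfl⟩ := hS.2.2 A (hΔ.1 hA) X hX
    exact mem_of_stab (htop ▸ Subgroup.mem_top g) hA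
  intro A hA B hB
  have hAS := hΔ.1 hA
  have hBS := hΔ.1 hB
  rcases hS.1.pair A hAS B hBS with h | h | h
  · exact RankOne.commutator_eq_bot_iff.1 h
  · exact absurd h (noPair A hA B hB)
  exfalso
  obtain ⟨Q, hQ, hQc, hQA⟩ := Incomparable.exists_opposite hS.1 hF hAS hBS h
  have hQB := OppositeCase.rankOne hS.1 hF hAS hBS hQ h hQc hQA
  have hQA' : ⁅Q, A⁆ = ⊥ := by
    have := case_comm_right hQc
    rwa [hQA] at this
  obtain ⟨q, hq, hq1⟩ := (Subgroup.bot_or_exists_ne_one Q).resolve_left (hS.1.ne_bot _ hQ)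
  obtain ⟨b, hb, -, e⟩ := hQB.cond_left q hq hq1
  have hmem : conjBy B q⁻¹ ∈ Δ := mem_of_stab (inv_mem (le_stab hΔ hQ hA hQA' hq)) hB
  have hp := rankOne_conj hQB b⁻¹
  rw [e, conjBy_eq_self_of_mem (inv_mem hb)] at hp
  exact noPair _ hmem B hB hp

end Cfsg.Agent.RootSubgroups.WeakTI
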